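import Groth.Agent.EulerChar.Components
import Groth.Agent.ProjTwist.Tensor

/-!
`χ(O_C ⊗ L) - χ(O_C)` is the degree of `L` on the closed subscheme `C`.
-/

set_option autoImplicit false
set_option linter.style.haveILetI false

open CategoryTheory CategoryTheory.Limits AlgebraicGeometry TopologicalSpace

universe u

namespace Groth.Agent.BigVol.CurveTest

variable (k : Type u) [Field k] {X : Scheme.{u}} [X.Over (Spec (CommRingCat.of k))]
  [IsProper (X ↘ Spec (CommRingCat.of k))]

/-- The test number on a closed subscheme is the degree there. -/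
theorem euler_sub_eq_deg (C : X.IdealSheafData) {L : X.Modules} (hL : PicF.IsInvertible L) :
    Curv2.euler k X (CohB1.tensorMod (ClSub.quotMod C) L) - Curv2.euler k X (ClSub.quotMod C) =
      @Curv2.deg k _ C.subscheme ⟨C.subschemeι ≫ (X ↘ Spec (CommRingCat.of k))⟩
        ((Scheme.Modules.pullback C.subschemeι).obj L) 1 := by
  haveI := EulerChar.isNoetherian k (X := X)
  rw [← EulerChar.dev_quotMod k C (ProjTwist.isFinLocFreeOfRank_one hL),
    EulerChar.dev_kcl k (ProjTwist.isFinLocFreeOfRank_one hL) (EulerChar.isCoh_quotMod k C),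
    EulerChar.euler_iso k (ProjTwist.tensComm (ClSub.quotMod C) L), Nat.cast_one, one_mul]
  rfl

end Groth.Agent.BigVol.CurveTest
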