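import Groth.Agent.S14054
import Groth.Agent.AmpCrit.SerreVan
import Groth.Agent.ProjMorph.Ample
import Groth.Agent.EulerChar.AmpleCurve
import Groth.Agent.BigVol.CurveTest
import Groth.Agent.CycLib.FibreDim
import Groth.Agent.Wt.AmpleThick
import Groth.Agent.EulerFam.Tau
import Groth.Agent.AmpleLib.GlobGen
import Groth.Agent.RedSub.Basic
import Groth.Agent.FormalFun.TowerVan
import Groth.Agent.CMReg.Closed
import Groth.Agent.Props.AmpleFrames

/-!
Morphisms given by globally generated invertible modules, curves contracted by proper morphisms,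
and the criteria "semiample and positive on curves implies ample".
-/

set_option autoImplicit false
set_option linter.style.haveILetI false

open CategoryTheory CategoryTheory.Limits AlgebraicGeometry TopologicalSpace

universe u

namespace Groth.Agent.BigVol.SemiAmple

open Groth.Agent.AmpleLib

section Curves

variable (k : Type u) [Field k] {X : Scheme.{u}} [X.Over (Spec (CommRingCat.of k))]
  [LocallyOfFiniteType (X ↘ Spec (CommRingCat.of k))] [NoetherianSpace X]

include k in
/-- An infinite closed subset contains an integral curve. -/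
theorem exists_curve_subset {Z : Set X} (hZ : IsClosed Z) (hinf : Z.Infinite) :
    ∃ C : X.IdealSheafData, IsIntegral C.subscheme ∧ (C.support : Set X) ⊆ Z ∧
      topologicalKrullDim (C.support : Set X) = 1 := by
  obtain ⟨z, hzZ, hz⟩ : ∃ z ∈ Z, 1 ≤ Order.height z := by
    by_contra hcon
    push Not at hcon
    obtain ⟨S, hSf, hSi, hS⟩ :=
      NoetherianSpace.exists_finite_set_closeds_irreducible (⟨Z, hZ⟩ : Closeds X)
    have hsub : ∀ t ∈ S, (t : Set X).Finite := fun t ht => by
      have hgen := (hSi t ht).isGenericPoint_genericPoint t.isClosed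
      have hmem : (hSi t ht).genericPoint ∈ Z :=
        (le_sSup ht).trans hS.ge hgen.mem
      rw [← hgen.def, (VarDim.isClosed_singleton_of_isMin
        (Order.height_eq_zero.mp (Order.lt_one_iff.mp (hcon _ hmem)))).closure_eq]
      exact Set.finite_singleton _
    refine hinf ?_
    have hfin : (⋃ t ∈ S, (t : Set X)).Finite := hSf.biUnion hsub
    have hcl : IsClosed (⋃ t ∈ S, (t : Set X)) := hSf.isClosed_biUnion fun t _ => t.isClosed
    have hle : (⟨Z, hZ⟩ : Closeds X) ≤ ⟨_, hcl⟩ := hS.le.trans (sSup_le fun t ht =>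
      Set.subset_biUnion_of_mem (u := fun t : Closeds X => (t : Set X)) ht)
    exact hfin.subset hle
  obtain ⟨w, hwz, hw⟩ : ∃ w ≤ z, Order.height w = 1 := by
    rcases hz.eq_or_lt with h | h
    · exact ⟨z, le_rfl, h.symm⟩
    · obtain ⟨w, hw, hw'⟩ := (Order.coe_lt_height_iff (n := 1)
        (by rw [VarDim.height_eq_dimPt k]; exact ENat.coe_lt_top _)).mp h
      exact ⟨w, hw.le, hw'⟩
  have hwZ : w ∈ Z := (closure_minimal (Set.singleton_subset_iff.mpr hzZ) hZ)
    (specializes_iff_mem_closure.mp hwz)
  let W : Closeds X := ⟨closure {w}, isClosed_closure⟩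
  let C := Scheme.IdealSheafData.vanishingIdeal W
  have hr : Set.range C.subschemeι = closure {w} := RedSub.range_vanishingIdeal_subschemeι W
  have hsupp : (C.support : Set X) = closure {w} := C.range_subschemeι.symm.trans hr
  haveI : IsReduced C.subscheme := RedSub.isReduced_vanishingIdeal W
  haveI : IrreducibleSpace C.subscheme := by
    have hi : IsIrreducible (Set.range C.subschemeι) := hr ▸ isIrreducible_singleton.closure
    haveI : IrreducibleSpace (Set.range C.subschemeι) := Subtype.irreducibleSpace hi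
    exact C.subschemeι.isEmbedding.toHomeomorph.symm.surjective.irreducibleSpace (Homeomorph.continuous _)
  refine ⟨C, isIntegral_of_irreducibleSpace_of_isReduced _, ?_, ?_⟩
  · exact hsupp.subset.trans (closure_minimal (Set.singleton_subset_iff.mpr hwZ) hZ)
  · rw [hsupp, CycLib.topologicalKrullDim_closure, hw]
    rfl

include k in
/-- A proper morphism contracting no integral curve is finite. -/
theorem isFinite_of_no_curve {P : Scheme.{u}} [JacobsonSpace P] (φ : X ⟶ P) [IsProper φ]
    (h : ∀ C : X.IdealSheafData, IsIntegral C.subscheme →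
      topologicalKrullDim (C.support : Set X) = 1 → ∀ y : P, ∃ x ∈ (C.support : Set X), φ x ≠ y) :
    IsFinite φ := by
  suffices LocallyQuasiFinite φ from IsFinite.of_isProper_of_locallyQuasiFinite φ
  rw [← Scheme.Hom.quasiFiniteLocus_eq_top_iff]
  by_contra hne
  have hcl : IsClosed (φ '' (φ.quasiFiniteLocus : Set X)ᶜ) :=
    φ.isClosedMap _ φ.quasiFiniteLocus.isOpen.isClosed_compl
  have hn : (φ '' (φ.quasiFiniteLocus : Set X)ᶜ).Nonempty := by
    refine Set.Nonempty.image _ (Set.nonempty_compl.mpr fun h => hne ?_)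
    exact Opens.ext h
  obtain ⟨y, ⟨x, hx, hxy⟩, hy⟩ := nonempty_inter_closedPoints hn hcl.isLocallyClosed
  have hy' : IsClosed (φ ⁻¹' {y}) := (mem_closedPoints_iff.mp hy).preimage φ.continuous
  have hinf : (φ ⁻¹' {y}).Infinite := fun hfin => hx (by
    subst hxy
    haveI : Finite (φ.fiber (φ x)) := (φ.fiberHomeo (φ x)).finite_iff.mpr hfin.to_subtype
    exact Scheme.Hom.quasiFiniteAt_iff_isOpen_singleton_asFiber.mpr (isOpen_discrete _))
  obtain ⟨C, hC, hsub, hdim⟩ := exists_curve_subset k hy' hinf
  obtain ⟨c, hc, hcy⟩ := h C hC hdim y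
  exact hcy (hsub hc)

end Curves

/-- An invertible module pulled back along a morphism with at most one point in the image is trivial. -/
theorem nonempty_pullback_iso_unit {C P : Scheme.{u}} (h : C ⟶ P) (y : P) (hy : ∀ c, h c = y)
    {M : P.Modules} (hM : PicF.IsInvertible M) :
    Nonempty ((Scheme.Modules.pullback h).obj M ≅ Coh.structureModule C) := by
  obtain ⟨U, hyU, ⟨e⟩⟩ := hM y
  have hr : Set.range h ⊆ Set.range U.ι := by
    rintro _ ⟨c, rfl⟩
    rw [hy c, Scheme.Opens.range_ι]
    exact hyU
  rw [← IsOpenImmersion.lift_fac U.ι h hr]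
  exact ⟨((Scheme.Modules.pullbackComp _ U.ι).symm.app M) ≪≫
    (Scheme.Modules.pullback _).mapIso
      (((Scheme.Modules.restrictFunctorIsoPullback U.ι).symm.app M) ≪≫ e) ≪≫ QCoh.pullbackUnitIso _⟩

variable (k : Type u) [Field k] {X : Scheme.{u}} [X.Over (Spec (CommRingCat.of k))]
  [IsProper (X ↘ (Spec (CommRingCat.of k)))]

/-- The morphism to projective space given by a globally generated invertible module. -/
theorem exists_toProjSpace {L : X.Modules} (hL : PicF.IsInvertible L)
    (hgg : Curv2.IsGloballyGenerated L) :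
    ∃ (c : ℕ) (φ : X ⟶ CohB1.ProjSpace c k), IsProper φ ∧
      φ ≫ CohB1.ProjSpace.toSpec c k = X ↘ (Spec (CommRingCat.of k)) ∧
      Nonempty ((Scheme.Modules.pullback φ).obj (Twist.twistProjSpace c k 1) ≅ L) := by
  obtain ⟨g, hg⟩ := S14054.exists_gens k hL hgg
  let σ : Fin (Module.finrank k (Coh.HH X L 0) + 1) → ProjUP.Γm L := Fin.cases 0 g
  have hcov : ∀ x : X, ∃ i, x ∈ locus (O := ⊤) (σ i) := fun x => by
    obtain ⟨j, hj⟩ := hg x
    exact ⟨j.succ, by simpa [σ] using hj⟩
  let q₀ : k →+* Γ(X, ⊤) := ProjUP.toGlobal (X ↘ (Spec (CommRingCat.of k)))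
  let c := Module.finrank k (Coh.HH X L 0)
  obtain ⟨r, τ, hr, -, -, -⟩ := ProjMorph.exists_to_proj (𝒜 := CohB1.polyGrading c k)
    (fun i => MvPolynomial.X i) (fun i => MvPolynomial.isHomogeneous_X k i)
    MvPolynomial.adjoin_range_X q₀ hL σ (AmpCrit.SerreVan.generatedBy_of_loci σ hcov) fun i cc _ =>
      ⟨MvPolynomial.eval₂Hom ((QCoh.rres le_top).hom.comp q₀) cc,
        RingHom.ext fun a => MvPolynomial.eval₂Hom_C _ _ a, fun j => MvPolynomial.eval₂Hom_X' _ _ j⟩
  have hrf : r ≫ CohB1.ProjSpace.toSpec c k = X ↘ (Spec (CommRingCat.of k)) :=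
    hr.trans (ProjMorph.toSpecΓ_toGlobal _)
  have := ProjProper.Basic.isProper_toSpec c k
  have : IsProper (r ≫ CohB1.ProjSpace.toSpec c k) := hrf ▸ ‹IsProper _›
  exact ⟨c, r, IsProper.of_comp r (CohB1.ProjSpace.toSpec c k), hrf, ⟨τ⟩⟩

include k in
/-- Globally generated and positive on every integral curve: ample. -/
theorem isAmple_of_gg {L : X.Modules} (hL : PicF.IsInvertible L)
    (hgg : Curv2.IsGloballyGenerated L)
    (h : ∀ C : X.IdealSheafData, IsIntegral C.subscheme →
      topologicalKrullDim (C.support : Set X) = 1 →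
        IsEmpty ((Scheme.Modules.pullback C.subschemeι).obj L ≅ Coh.structureModule C.subscheme)) :
    CohB1.IsAmple L := by
  haveI := EulerChar.isNoetherian k (X := X)
  obtain ⟨c, φ, hφ, -, ⟨e⟩⟩ := exists_toProjSpace k hL hgg
  haveI := ProjProper.Basic.isProper_toSpec c k
  haveI : JacobsonSpace (CohB1.ProjSpace c k) :=
    LocallyOfFiniteType.jacobsonSpace (CohB1.ProjSpace.toSpec c k)
  haveI : IsFinite φ := isFinite_of_no_curve k φ fun C hC hdim y => by
    by_contra hcon
    push Not at hcon
    obtain ⟨t⟩ := nonempty_pullback_iso_unit (C.subschemeι ≫ φ) y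
      (fun z => hcon _ (C.range_subschemeι.le ⟨z, rfl⟩))
      (ProjTwist.isInvertible_twistProjSpace c k 1)
    exact (h C hC hdim).false ((Scheme.Modules.pullback C.subschemeι).mapIso e.symm ≪≫
      (Scheme.Modules.pullbackComp _ φ).app _ ≪≫ t)
  have ha : IsAffineHom φ := inferInstance
  exact Props.AmpleFrames.isAmple_of_iso e (ProjMorph.isAmple_pullback_twist_of_isAffineHom φ ha)

end Groth.Agent.BigVol.SemiAmple

namespace Groth.Agent.BigVol.SemiAmple

variable (k : Type u) [Field k] {X : Scheme.{u}} [X.Over (Spec (CommRingCat.of k))]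
  [IsProper (X ↘ (Spec (CommRingCat.of k)))]

/-- The test number of an invertible module on an integral curve: it is positive for ample
restrictions, vanishes for trivial ones, and is linear in the exponent. -/
theorem curve_facts (C : X.IdealSheafData) [IsIntegral C.subscheme]
    (hdim : topologicalKrullDim (C.support : Set X) = 1) {L : X.Modules} (hL : PicF.IsInvertible L) :
    (CohB1.IsAmple ((Scheme.Modules.pullback C.subschemeι).obj L) →
      0 < Curv2.euler k X (CohB1.tensorMod (ClSub.quotMod C) L) - Curv2.euler k X (ClSub.quotMod C)) ∧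
    (Nonempty ((Scheme.Modules.pullback C.subschemeι).obj L ≅ Coh.structureModule C.subscheme) →
      Curv2.euler k X (CohB1.tensorMod (ClSub.quotMod C) L) - Curv2.euler k X (ClSub.quotMod C) = 0) ∧
    ∀ m : ℕ, Curv2.euler k X (CohB1.tensorMod (ClSub.quotMod C) (CohB1.tensorPow L m)) -
        Curv2.euler k X (ClSub.quotMod C) =
      m * (Curv2.euler k X (CohB1.tensorMod (ClSub.quotMod C) L) - Curv2.euler k X (ClSub.quotMod C)) := by
  letI : C.subscheme.Over (Spec (CommRingCat.of k)) :=
    ⟨C.subschemeι ≫ (X ↘ Spec (CommRingCat.of k))⟩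
  haveI : IsProper (C.subscheme ↘ Spec (CommRingCat.of k)) :=
    inferInstanceAs (IsProper (C.subschemeι ≫ (X ↘ Spec (CommRingCat.of k))))
  have hd : topologicalKrullDim C.subscheme = 1 := by
    rw [IsHomeomorph.topologicalKrullDim_eq _ C.subschemeι.isEmbedding.toHomeomorph.isHomeomorph,
      C.range_subschemeι]
    exact hdim
  have hP : PicF.IsInvertible ((Scheme.Modules.pullback C.subschemeι).obj L) :=
    PicCl.isInvertible_pullback C.subschemeι hL
  refine ⟨fun ha => ?_, fun ⟨t⟩ => ?_, fun m => ?_⟩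
  · rw [CurveTest.euler_sub_eq_deg k C hL]
    exact EulerChar.deg_pos_of_isAmple k hd ha
  · rw [CurveTest.euler_sub_eq_deg k C hL]
    refine (EulerChar.deg_iso k t).trans ?_
    simp [Curv2.deg]
  · rw [CurveTest.euler_sub_eq_deg k C (AmpleLib.isInvertible_tensorPow hL m),
      CurveTest.euler_sub_eq_deg k C hL]
    obtain ⟨e⟩ := FormalFun.nonempty_pullback_tensorPow C.subschemeι hL m
    exact (EulerChar.deg_iso k e).trans (EulerChar.deg_tensorPow k hd hP m)

/-- Positivity on curves and semiampleness give ampleness. -/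
theorem isAmple_of_semiample {L : X.Modules} (hL : PicF.IsInvertible L) {m : ℕ}
    (hgg : Curv2.IsGloballyGenerated (CohB1.tensorPow L (m + 1)))
    (h : ∀ C : X.IdealSheafData, IsIntegral C.subscheme →
      topologicalKrullDim (C.support : Set X) = 1 →
        0 < Curv2.euler k X (CohB1.tensorMod (ClSub.quotMod C) L) - Curv2.euler k X (ClSub.quotMod C)) :
    CohB1.IsAmple L := by
  haveI := EulerChar.isNoetherian k (X := X)
  haveI : CompactSpace X := inferInstance
  have hM := AmpleLib.isInvertible_tensorPow hL (m + 1)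
  refine (AmpleLib.isAmple_tensorPow_iff hL m.succ_pos).mp (isAmple_of_gg k hM hgg fun C hC hdim => ⟨fun t => ?_⟩)
  have h0 := (curve_facts k C hdim hM).2.1 ⟨t⟩
  rw [(curve_facts k C hdim hL).2.2 (m + 1)] at h0
  exact (mul_pos (by positivity) (h C hC hdim)).ne' h0

include k in
/-- A power of an ample module is globally generated. -/
theorem exists_gg_of_isAmple {L : X.Modules} (hL : CohB1.IsAmple L) :
    ∃ m : ℕ, Curv2.IsGloballyGenerated (CohB1.tensorPow L (m + 1)) := by
  haveI := EulerChar.isNoetherian k (X := X)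
  have hu := PicLoc.isInvertible_structureModule X
  obtain ⟨n₀, hn⟩ := AmpleLib.eventually_globallyGenerated hL
    (BigVol.RelBound.isCoh_invertible hu).1 (BigVol.RelBound.isCoh_invertible hu).2
  exact ⟨n₀, CMReg.isGloballyGenerated_iso (ProjTwist.oneTens _) (hn (n₀ + 1) n₀.le_succ)⟩

end Groth.Agent.BigVol.SemiAmple
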