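import Groth.Agent.BigVol.CohBound
import Groth.Prelude.Def_W4c5asymptcohfnACF

/-!
Upper limits of `hⁱ(F ⊗ L^m) · n! / m^n`: what `O(m^(n-1))` changes do to them.
-/

set_option autoImplicit false
set_option linter.style.haveILetI false

open CategoryTheory CategoryTheory.Limits AlgebraicGeometry TopologicalSpace Filter
open Groth.Agent.ProjTwist Groth.Agent.AmpleLib Groth.Agent.BigVol.CohBound

universe u

noncomputable section

namespace Groth.Agent.BigVol.Asymp

/-- `f m · n! / m^n` -/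
abbrev seq (n : ℕ) (f : ℕ → ℕ) (m : ℕ) : ℝ := (f m : ℝ) * (n.factorial : ℝ) / (m : ℝ) ^ n

theorem seq_nonneg (n : ℕ) (f : ℕ → ℕ) (m : ℕ) : 0 ≤ seq n f m := by positivity

theorem seq_le {n C : ℕ} {f : ℕ → ℕ} {m : ℕ} (hm : 1 ≤ m) (hf : f m ≤ C * (m + 1) ^ n) :
    seq n f m ≤ ((C * 2 ^ n * n.factorial : ℕ) : ℝ) := by
  rw [seq, div_le_iff₀ (pow_pos (by exact_mod_cast hm) n)]
  have h1 : f m * n.factorial ≤ C * 2 ^ n * n.factorial * m ^ n := by
    calc f m * n.factorial ≤ C * (m + 1) ^ n * n.factorial := Nat.mul_le_mul_right _ hf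
      _ ≤ C * (2 * m) ^ n * n.factorial :=
        Nat.mul_le_mul_right _ (Nat.mul_le_mul_left _ (Nat.pow_le_pow_left (by omega) n))
      _ = _ := by ring
  exact_mod_cast h1

theorem bounded {n C : ℕ} {f : ℕ → ℕ} (hf : ∀ m, f m ≤ C * (m + 1) ^ n) :
    IsBoundedUnder (· ≤ ·) atTop (seq n f) :=
  isBoundedUnder_of_eventually_le ((eventually_ge_atTop 1).mono fun m hm => seq_le hm (hf m))

theorem cobounded (n : ℕ) (f : ℕ → ℕ) : IsCoboundedUnder (· ≤ ·) atTop (seq n f) :=
  (isBoundedUnder_of ⟨0, seq_nonneg n f⟩).isCoboundedUnder_le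

theorem small (n C : ℕ) : Tendsto (seq n fun m => C * g n m) atTop (nhds 0) := by
  refine squeeze_zero' (Eventually.of_forall (seq_nonneg n _))
    ((eventually_ge_atTop 1).mono fun m hm => ?_) (tendsto_const_div_atTop_nhds_zero_nat
      ((C * 2 ^ n * n.factorial : ℕ) : ℝ))
  rw [seq, div_le_div_iff₀ (pow_pos (by exact_mod_cast hm) n) (by exact_mod_cast hm)]
  have h1 : C * g n m * n.factorial * m ≤ C * 2 ^ n * n.factorial * m ^ n := by
    calc C * g n m * n.factorial * m ≤ C * n.factorial * ((m + 1) * g n m) := by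
          rw [show C * g n m * n.factorial * m = C * n.factorial * (m * g n m) by ring]
          exact Nat.mul_le_mul_left _ (Nat.mul_le_mul_right _ (Nat.le_succ m))
      _ ≤ C * n.factorial * (2 * m) ^ n :=
        Nat.mul_le_mul_left _ ((g_mul n m).trans (Nat.pow_le_pow_left (by omega) n))
      _ = _ := by ring
  exact_mod_cast h1

theorem limsup_le {n C C' : ℕ} {f f' : ℕ → ℕ} (hf' : ∀ m, f' m ≤ C' * (m + 1) ^ n)
    (h : ∀ m, f m ≤ f' m + C * g n m) :
    limsup (seq n f) atTop ≤ limsup (seq n f') atTop := by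
  refine le_of_forall_gt_imp_ge_of_dense fun b hb => ?_
  obtain ⟨c, hc, hcb⟩ := exists_between hb
  refine limsup_le_of_le (cobounded n f) ?_
  filter_upwards [eventually_lt_of_limsup_lt hc (bounded hf'),
    (small n C).eventually (eventually_le_nhds (show (0 : ℝ) < b - c by linarith))] with m h1 h2
  have h3 : ((f m : ℕ) : ℝ) ≤ f' m + ((C * g n m : ℕ) : ℝ) := by exact_mod_cast h m
  have h4 : seq n f m ≤ seq n f' m + seq n (fun m => C * g n m) m := by
    simp only [seq]
    rw [← add_div, ← add_mul]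
    exact div_le_div_of_nonneg_right (mul_le_mul_of_nonneg_right h3 (by positivity)) (by positivity)
  linarith

theorem g_mono (n : ℕ) {m m' : ℕ} (h : m ≤ m') : g n m ≤ g n m' := by
  cases n with
  | zero => simp [g]
  | succ e => exact Nat.pow_le_pow_left (by omega) e

theorem le_add_of_step {n C : ℕ} {f : ℕ → ℕ} (h : ∀ m, f (m + 1) ≤ f m + C * g n m) (m : ℕ) :
    ∀ j : ℕ, f (m + j) ≤ f m + j * (C * g n (m + j))
  | 0 => by simp
  | j + 1 => by
    have h1 := le_add_of_step h m j
    have h2 := h (m + j)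
    have h3 : g n (m + j) ≤ g n (m + (j + 1)) := g_mono n (by omega)
    have h4 := Nat.mul_le_mul_left C h3
    rw [← Nat.add_assoc] at h4 ⊢
    have h5 := Nat.mul_le_mul_left j h4
    rw [Nat.succ_mul]
    omega

theorem limsup_comp_mul {n a C C' : ℕ} (ha : 0 < a) {f : ℕ → ℕ} (hf : ∀ m, f m ≤ C' * (m + 1) ^ n)
    (h : ∀ m, f (m + 1) ≤ f m + C * g n m) :
    limsup (seq n fun m => f (a * m)) atTop = (a : ℝ) ^ n * limsup (seq n f) atTop := by
  have ha' : (a : ℝ) ^ n ≠ 0 := pow_ne_zero _ (by exact_mod_cast ha.ne')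
  have heq : (seq n fun m => f (a * m)) = fun m => (a : ℝ) ^ n * seq n f (a * m) := by
    funext m
    show _ / _ = _ * (_ / _)
    rw [Nat.cast_mul, mul_pow, mul_div_assoc', mul_div_mul_left _ _ ha']
  have hmul : Tendsto (fun m : ℕ => a * m) atTop atTop :=
    tendsto_atTop_atTop.mpr fun b => ⟨b, fun m hm => hm.trans (Nat.le_mul_of_pos_left m ha)⟩
  have hb1 : IsBoundedUnder (· ≤ ·) atTop (fun m => seq n f (a * m)) := by
    refine isBoundedUnder_of_eventually_le (a := ((C' * 2 ^ n * n.factorial : ℕ) : ℝ)) ?_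
    filter_upwards [eventually_ge_atTop 1] with m hm
    exact seq_le (hm.trans (Nat.le_mul_of_pos_left m ha)) (hf _)
  have hb2 : IsBoundedUnder (· ≥ ·) atTop (fun m => seq n f (a * m)) :=
    isBoundedUnder_of ⟨0, fun m => seq_nonneg n f _⟩
  rw [heq]
  refine ((monotone_mul_left_of_nonneg (pow_nonneg (Nat.cast_nonneg a) n)).map_limsup_of_continuousAt
    (F := atTop) (fun m => seq n f (a * m)) (continuous_const_mul _).continuousAt hb1 hb2.isCoboundedUnder_le).symm.trans ?_
  congr 1
  refine le_antisymm ?_ ?_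
  · refine le_of_forall_gt_imp_ge_of_dense fun b hb => ?_
    refine limsup_le_of_le hb2.isCoboundedUnder_le ?_
    exact (hmul.eventually (eventually_lt_of_limsup_lt hb (bounded hf))).mono fun m hm => hm.le
  refine le_of_forall_gt_imp_ge_of_dense fun b hb => ?_
  obtain ⟨c, hc, hcb⟩ := exists_between hb
  refine limsup_le_of_le (cobounded n f) ?_
  obtain ⟨M, hM⟩ := eventually_atTop.mp (eventually_lt_of_limsup_lt hc hb1)
  filter_upwards [eventually_ge_atTop (a * (M + 1)), (small n (a * C)).eventually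
    (eventually_le_nhds (show (0 : ℝ) < b - c by linarith))] with m hm h2
  obtain ⟨q, r, hr, rfl⟩ : ∃ q r, r < a ∧ m = a * q + r :=
    ⟨m / a, m % a, Nat.mod_lt _ ha, (Nat.div_add_mod m a).symm⟩
  have hq : M + 1 ≤ q := by
    by_contra hc'
    have h5 := Nat.mul_le_mul_left a (show q + 1 ≤ M + 1 by omega)
    rw [Nat.mul_add, mul_one] at h5
    omega
  have haq : 0 < a * q := Nat.mul_pos ha (by omega)
  have h6 : f (a * q + r) ≤ f (a * q) + a * C * g n (a * q + r) :=
    (le_add_of_step h (a * q) r).trans (Nat.add_le_add_left (by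
      rw [mul_assoc]
      exact Nat.mul_le_mul_right _ hr.le) _)
  have h7 : ((f (a * q + r) : ℕ) : ℝ) ≤ f (a * q) + ((a * C * g n (a * q + r) : ℕ) : ℝ) := by
    exact_mod_cast h6
  have h8 : seq n f (a * q + r) ≤
      seq n f (a * q) + seq n (fun m => a * C * g n m) (a * q + r) := by
    simp only [seq]
    refine le_trans (div_le_div_of_nonneg_right (mul_le_mul_of_nonneg_right h7 (by positivity))
      (by positivity)) ?_
    rw [add_mul, add_div]
    refine add_le_add (div_le_div_of_nonneg_left (by positivity) ?_ ?_) le_rfl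
    · exact pow_pos (by exact_mod_cast haq) n
    · exact pow_le_pow_left₀ (Nat.cast_nonneg _) (by exact_mod_cast Nat.le_add_right (a * q) r) n
  have h9 := hM q (by omega)
  linarith

section geometry

variable {X : Scheme.{u}} (k : Type u) [Field k] [X.Over (Spec (CommRingCat.of k))]
  [IsProper (X ↘ Spec (CommRingCat.of k))] {A : X.Modules} (hA : CohB1.IsAmple A) {n : ℕ}
  (hn : topologicalKrullDim X = (n : WithBot ℕ∞))

include hn in
omit [X.Over (Spec (CommRingCat.of k))] [IsProper (X ↘ Spec (CommRingCat.of k))] in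
theorem dim_support_le (F : X.Modules) :
    topologicalKrullDim (CohB1.support F) ≤ (n : WithBot ℕ∞) :=
  (Topology.IsEmbedding.subtypeVal).isInducing.topologicalKrullDim_le.trans hn.le

include hA hn in
theorem limsup_hh_eq {F F' L : X.Modules} (hL : PicF.IsInvertible L) (hF : Coh.IsCoh F)
    (hF' : Coh.IsCoh F') {G G' : X.Modules} (hG : Coh.IsCoh G) (hG' : Coh.IsCoh G')
    (dG : topologicalKrullDim (CohB1.support G) < (n : WithBot ℕ∞))
    (dG' : topologicalKrullDim (CohB1.support G') < (n : WithBot ℕ∞)) (i j j' : ℕ)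
    (h : ∀ m, hh k F L m i ≤ hh k F' L m i + hh k G L m j)
    (h' : ∀ m, hh k F' L m i ≤ hh k F L m i + hh k G' L m j') :
    limsup (seq n (hh k F L · i)) atTop = limsup (seq n (hh k F' L · i)) atTop := by
  obtain ⟨C₁, h₁⟩ := exists_hh_le k hA hL hF (dim_support_le hn F) i
  obtain ⟨C₂, h₂⟩ := exists_hh_le k hA hL hF' (dim_support_le hn F') i
  obtain ⟨D₁, e₁⟩ := exists_hh_lt k hA hL n G hG dG j
  obtain ⟨D₂, e₂⟩ := exists_hh_lt k hA hL n G' hG' dG' j'
  exact le_antisymm (limsup_le h₂ fun m => (h m).trans (Nat.add_le_add_left (e₁ m) _))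
    (limsup_le h₁ fun m => (h' m).trans (Nat.add_le_add_left (e₂ m) _))

end geometry

end Groth.Agent.BigVol.Asymp
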