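import Groth.Agent.S19801
import Groth.Agent.AmpleLib.GenIso
import Groth.Agent.ProjTwist.Pn.TopCohom
import Groth.Agent.EulerChar.Curve

/-!
Growth of the sections of powers of an invertible module on an integral proper scheme with an ample
module: bigness, Kodaira's lemma, and the volume.
-/

set_option autoImplicit false
set_option linter.style.haveILetI false

open CategoryTheory CategoryTheory.Limits AlgebraicGeometry TopologicalSpace
open Groth.Agent.ProjTwist Groth.Agent.Props.GenLocus Groth.Agent.AmpleLib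

universe u

noncomputable section

namespace Groth.Agent.BigVol

variable {X : Scheme.{u}}

/-- `M` embeds into `N`. -/
def Sub (M N : X.Modules) : Prop := ∃ φ : M ⟶ N, Mono φ

theorem Sub.trans {A B C : X.Modules} (h : Sub A B) (h' : Sub B C) : Sub A C :=
  S19801.exists_mono_comp h h'

theorem Sub.iso {A B C : X.Modules} (h : Sub A B) (e : B ≅ C) : Sub A C :=
  S19801.exists_mono_iso h e

theorem Sub.of_iso {A B : X.Modules} (e : A ≅ B) : Sub A B :=
  S19801.exists_mono_iso ⟨𝟙 A, inferInstance⟩ e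

theorem Sub.tensor {A B L : X.Modules} (hL : PicF.IsInvertible L) (h : Sub A B) :
    Sub (CohB1.tensorMod A L) (CohB1.tensorMod B L) :=
  S19801.exists_mono_tensor_right hL h

theorem Sub.tensor₂ {A B A' B' : X.Modules} (hA : PicF.IsInvertible A') (hB : PicF.IsInvertible B)
    (hB' : PicF.IsInvertible B') (h : Sub A B) (h' : Sub A' B') :
    Sub (CohB1.tensorMod A A') (CohB1.tensorMod B B') :=
  (h.tensor hA).trans (((Sub.of_iso (PicLaw.tensor_comm hB hA).some).trans (h'.tensor hB)).iso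
    (PicLaw.tensor_comm hB' hB).some)

theorem structure_tensor {L : X.Modules} (hL : PicF.IsInvertible L) :
    Nonempty (CohB1.tensorMod (Coh.structureModule X) L ≅ L) :=
  ⟨(PicLaw.tensor_comm (LFFrame.isInvertible_structureModule X) hL).some ≪≫ tensOne L⟩

theorem sub_pow_add {L : X.Modules} (hL : PicF.IsInvertible L) {a b : ℕ}
    (ha : Sub (Coh.structureModule X) (CohB1.tensorPow L a))
    (hb : Sub (Coh.structureModule X) (CohB1.tensorPow L b)) :
    Sub (Coh.structureModule X) (CohB1.tensorPow L (a + b)) :=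
  hb.trans ((Sub.of_iso (structure_tensor (isInvertible_tensorPow hL b)).some.symm).trans
    ((ha.tensor (isInvertible_tensorPow hL b)).iso (AmpCrit.SerreVan.powAddIso L a b)))

theorem sub_pow_mul {L : X.Modules} (hL : PicF.IsInvertible L) {a : ℕ}
    (ha : Sub (Coh.structureModule X) (CohB1.tensorPow L a)) :
    ∀ j : ℕ, Sub (Coh.structureModule X) (CohB1.tensorPow L (a * j))
  | 0 => Sub.of_iso (Iso.refl (Coh.structureModule X))
  | j + 1 => sub_pow_add hL (sub_pow_mul hL ha j) ha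

theorem sub_eventually {L : X.Modules} (hL : PicF.IsInvertible L) {m : ℕ} (hm : 0 < m)
    (h₁ : Sub (Coh.structureModule X) (CohB1.tensorPow L m))
    (h₂ : Sub (Coh.structureModule X) (CohB1.tensorPow L (m + 1))) {r : ℕ} (hr : m * m ≤ r) :
    Sub (Coh.structureModule X) (CohB1.tensorPow L r) := by
  obtain ⟨a, b, rfl⟩ : ∃ a b : ℕ, r = m * a + (m + 1) * b := by
    have h1 := Nat.div_add_mod r m
    have h2 := Nat.mod_lt r hm
    have h3 : m ≤ r / m := (Nat.le_div_iff_mul_le hm).mpr hr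
    obtain ⟨c, hc⟩ := Nat.le.dest (show r % m ≤ r / m by omega)
    refine ⟨c, r % m, ?_⟩
    rw [← hc] at h1
    linear_combination (h1.symm)
  exact sub_pow_add hL (sub_pow_mul hL h₁ a) (sub_pow_mul hL h₂ b)

theorem sub_tensorPow {M N : X.Modules} (hM : PicF.IsInvertible M) (hN : PicF.IsInvertible N)
    (h : Sub M N) : ∀ j : ℕ, Sub (CohB1.tensorPow M j) (CohB1.tensorPow N j)
  | 0 => Sub.of_iso (Iso.refl (Coh.structureModule X))
  | j + 1 => (sub_tensorPow hM hN h j).tensor₂ hM (isInvertible_tensorPow hN j) hN h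

theorem nonempty_pow_mul {L : X.Modules} (hL : PicF.IsInvertible L) (a j : ℕ) :
    Nonempty (CohB1.tensorPow (CohB1.tensorPow L a) j ≅ CohB1.tensorPow L (a * j)) := by
  letI := PicLaw.law X
  have key := congrArg Subtype.val (pow_mul (PicGrp.cls L hL) a j).symm
  rw [show PicGrp.cls L hL ^ a = PicGrp.cls _ (isInvertible_tensorPow hL a) from
    Subtype.ext (PicGrp.cls_pow_val hL a), PicGrp.cls_pow_val, PicGrp.cls_pow_val] at key
  exact (PicGrp.cl_eq_cl_iff _ _).mp key

variable [IsIntegral X]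

theorem sub_of_ne_zero {N L : X.Modules} (hN : PicF.IsInvertible N) (hL : PicF.IsInvertible L)
    (φ : N ⟶ L) (hφ : φ ≠ 0) : Sub N L :=
  ⟨φ, EulerChar.mono_of_ne_zero hN hL φ hφ⟩

theorem nontrivial_stalk {M : X.Modules} (hM : PicF.IsInvertible M) (x : X) : x ∈ CohB1.support M := by
  obtain ⟨e⟩ := EulerChar.stalk_ofRank (ProjTwist.isFinLocFreeOfRank_one hM) x
  intro h
  have : Subsingleton (M.presheaf.stalk x) := h
  exact not_subsingleton (Fin 1 → X.presheaf.stalk x) e.injective.subsingleton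

theorem not_isZero_of_isInvertible {M : X.Modules} (hM : PicF.IsInvertible M) : ¬ IsZero M :=
  fun h => nontrivial_stalk hM (genericPoint X) (AddCommGrpCat.subsingleton_of_isZero
    ((Scheme.Modules.toPresheaf X ⋙ TopCat.Presheaf.stalkFunctor AddCommGrpCat.{u} (genericPoint X)).map_isZero h))

theorem sub_of_epi_sigma {M : X.Modules} (hM : PicF.IsInvertible M) {ι : Type u}
    (p : (∐ fun _ : ι => Coh.structureModule X) ⟶ M) (hp : Epi p) :
    Sub (Coh.structureModule X) M := by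
  by_contra hcon
  refine not_isZero_of_isInvertible hM ?_
  have hp0 : p = 0 := by
    refine Sigma.hom_ext _ _ fun i => ?_
    by_contra hne
    exact hcon (sub_of_ne_zero (LFFrame.isInvertible_structureModule X) hM _
      (fun h0 => hne (h0.trans comp_zero.symm)))
  subst hp0
  exact @IsZero.of_epi_zero _ _ _ (∐ fun _ : ι => Coh.structureModule X) M hp

theorem sub_of_globallyGenerated {M : X.Modules} (hM : PicF.IsInvertible M)
    (hg : Curv2.IsGloballyGenerated M) : Sub (Coh.structureModule X) M := by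
  obtain ⟨ι, p, hp⟩ := hg
  exact sub_of_epi_sigma hM p hp

theorem le_of_lt_add_one {x : WithBot ℕ∞} {c : ℕ} (h : x < ((c + 1 : ℕ) : WithBot ℕ∞)) :
    x ≤ (c : WithBot ℕ∞) := by
  cases x with
  | bot => exact bot_le
  | coe a =>
    cases a with
    | top => exact absurd h (by simp)
    | coe b =>
      have hb : b < c + 1 := by exact_mod_cast h
      exact_mod_cast Nat.le_of_lt_succ hb

omit [IsIntegral X] in
theorem isCoh_of_isInvertible [IsNoetherian X] {M : X.Modules} (hM : PicF.IsInvertible M) :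
    Coh.IsCoh M :=
  CohDev.isCoh_of_iso (structure_tensor hM).some (isCoh_tensor hM (ProperFin.isCoh_structureModule X))

variable (k : Type u) [Field k] [X.Over (Spec (CommRingCat.of k))]
  [IsProper (X ↘ Spec (CommRingCat.of k))]

/-- `h⁰(M)` -/
abbrev h0 (M : X.Modules) : ℕ := Module.finrank k (Coh.HH X M 0)

theorem sec_zero_hom {M : X.Modules} (U : X.Opens) : sec (0 : Coh.structureModule X ⟶ M) U = 0 :=
  rfl

theorem sub_of_h0_pos {M : X.Modules} (hM : PicF.IsInvertible M) (h : 0 < h0 k M) :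
    Sub (Coh.structureModule X) M := by
  obtain ⟨x, hx⟩ : ∃ x : Coh.HH X M 0, x ≠ 0 := by
    by_contra! hc
    have : Subsingleton (Coh.HH X M 0) := ⟨fun a b => (hc a).trans (hc b).symm⟩
    simp [h0, Module.finrank_zero_of_subsingleton] at h
  refine sub_of_ne_zero (LFFrame.isInvertible_structureModule X) hM
    (homOfSec (ProperFin.h0Sec M x)) fun h0' => hx ?_
  have h1 : sec (homOfSec (ProperFin.h0Sec M x)) ⊤ = sec (0 : Coh.structureModule X ⟶ M) ⊤ := by
    rw [h0']
  rw [sec_homOfSec, QCoh.res_self] at h1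
  exact (ProperFin.h0Sec M).injective (h1.trans ((sec_zero_hom _).trans (map_zero (ProperFin.h0Sec M)).symm))

omit [IsIntegral X] in
theorem h0_le_of_sub {A B : X.Modules} (hB : Coh.IsCoh B) (h : Sub A B) : h0 k A ≤ h0 k B :=
  S19801.finrank_zero_le_of_mono k hB h

omit [IsIntegral X] [IsProper (X ↘ Spec (CommRingCat.of k))] in
theorem finrank_X₂_zero_le (T : X.Modules ⥤ X.Modules) [T.PreservesZeroMorphisms]
    {S : ShortComplex X.Modules} (hS : (S.map T).ShortExact)
    [Module.Finite k (Coh.HH X (T.obj S.X₂) 0)] [Module.Finite k (Coh.HH X (T.obj S.X₃) 0)] :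
    h0 k (T.obj S.X₂) ≤ h0 k (T.obj S.X₁) + h0 k (T.obj S.X₃) := by
  have : Module.Finite k (Coh.HH X (S.map T).X₂ 0) := ‹_›
  have : Module.Finite k (Coh.HH X (S.map T).X₃ 0) := ‹_›
  change h0 k (S.map T).X₂ ≤ h0 k (S.map T).X₁ + h0 k (S.map T).X₃
  have he := CurveCoh.exact_mapL k hS 0
  have h1 := LinearMap.finrank_range_add_finrank_ker (CurveCoh.mapL k (S.map T).g 0)
  rw [LinearMap.exact_iff.mp he,
    LinearMap.finrank_range_of_inj (CurveCoh.injective_mapL_zero k hS)] at h1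
  have h2 := Submodule.finrank_le (LinearMap.range (CurveCoh.mapL k (S.map T).g 0))
  simp only [h0] at h1 h2 ⊢
  omega

/-- `h0` of the tensor with an invertible module is bounded by that of the two ends. -/
theorem h0_tensor_le {B M : X.Modules} (hB : PicF.IsInvertible B) (hM : PicF.IsInvertible M)
    (ψ : B ⟶ Coh.structureModule X) (hψ : Mono ψ) :
    h0 k M ≤ h0 k (CohB1.tensorMod B M) + h0 k (CohB1.tensorMod (cokernel ψ) M) := by
  haveI := EulerChar.isNoetherian k (X := X)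
  let S := ShortComplex.mk ψ (cokernel.π ψ) (cokernel.condition ψ)
  have hS : S.ShortExact := ShortComplex.ShortExact.mk' (ShortComplex.exact_cokernel ψ) hψ
    (inferInstanceAs (Epi (cokernel.π ψ)))
  have hO := ProperFin.isCoh_structureModule X
  have hQ : Coh.IsCoh (cokernel ψ) :=
    CohDev.isCoh_cokernel ψ (Groth.Agent.ProjTwist.isQCoh_of_isInvertible hB) hO
  have := EulerChar.finite_HH k _ (isCoh_tensor hM hO) 0
  have := EulerChar.finite_HH k _ (isCoh_tensor hM hQ) 0
  obtain ⟨e⟩ := structure_tensor hM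
  have h := @finrank_X₂_zero_le X k _ _ ((DCoh.tensorBi (X := X)).flip.obj M) _ S
    (shortExact_tensor hM hS) ‹_› ‹_›
  refine le_trans (le_of_eq ?_) h
  exact Pn.finrank_hh_iso e.symm 0

variable {k} in
theorem dim_support_cokernel_lt {B : X.Modules} (hB : PicF.IsInvertible B) {d : ℕ}
    (hd : topologicalKrullDim X ≤ (d : WithBot ℕ∞)) (ψ : B ⟶ Coh.structureModule X) (hψ : ψ ≠ 0)
    [IsLocallyNoetherian X] :
    topologicalKrullDim (CohB1.support (cokernel ψ)) < (d : WithBot ℕ∞) := by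
  have hQ : Coh.IsCoh (cokernel ψ) := CohDev.isCoh_cokernel ψ
    (Groth.Agent.ProjTwist.isQCoh_of_isInvertible hB) (ProperFin.isCoh_structureModule X)
  have hξ : genericPoint X ∉ CohB1.support (cokernel ψ) :=
    CohDev.not_mem_support_cokernel ψ
      (EulerChar.bijective_stalk_generic hB (LFFrame.isInvertible_structureModule X) ψ hψ).2
  refine Pn.dim_add_one_le_of_forall_specializes (Z := Set.univ) isClosed_univ
    (CohDev.isClosed_support hQ) (fun ξ _ => ⟨genericPoint X, trivial, hξ, genericPoint_specializes ξ⟩)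
    (Set.subset_univ _) ?_
  refine lt_of_le_of_lt ((Topology.IsEmbedding.subtypeVal).isInducing.topologicalKrullDim_le.trans hd) ?_
  exact_mod_cast Nat.lt_succ_self d

/-- Kodaira's lemma. -/
theorem exists_sub_pow {A L : X.Modules} (hA : CohB1.IsAmple A) (hL : PicF.IsInvertible L) {d : ℕ}
    (hd : topologicalKrullDim X ≤ (d : WithBot ℕ∞)) {Q : X.Modules} (hQ : PicF.IsInvertible Q)
    (hQs : Sub (Coh.structureModule X) Q)
    (hbig : ∀ C : ℕ, ∃ m : ℕ, 0 < m ∧ C * m ^ d < m * h0 k (CohB1.tensorPow L m)) :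
    ∃ m : ℕ, 0 < m ∧ Sub Q (CohB1.tensorPow L m) := by
  haveI := EulerChar.isNoetherian k (X := X)
  obtain ⟨B, hB, ⟨eB⟩⟩ := PicLaw.exists_inverse hQ
  have hψs : Sub B (Coh.structureModule X) :=
    ((Sub.of_iso (structure_tensor hB).some.symm).trans (hQs.tensor hB)).iso eB
  obtain ⟨ψ, hψ⟩ := hψs
  have hψ0 : ψ ≠ 0 := fun h0' => by
    subst h0'
    exact not_isZero_of_isInvertible hB (IsZero.of_mono_zero _ (Coh.structureModule X))
  have hlt := dim_support_cokernel_lt hB hd ψ hψ0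
  have hcok : Coh.IsCoh (cokernel ψ) := CohDev.isCoh_cokernel ψ
    (Groth.Agent.ProjTwist.isQCoh_of_isInvertible hB) (ProperFin.isCoh_structureModule X)
  obtain ⟨C, hC⟩ : ∃ C : ℕ, ∀ m : ℕ, 0 < m →
      m * h0 k (CohB1.tensorMod (cokernel ψ) (CohB1.tensorPow L m)) ≤ C * m ^ d := by
    rcases Nat.eq_zero_or_pos d with rfl | hd0
    · refine ⟨0, fun m _ => ?_⟩
      have hz : IsZero (cokernel ψ) := by
        refine CohDev.isZero_of_support_eq_empty (Set.not_nonempty_iff_eq_empty.mp fun hne => ?_)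
        have : Nonempty (CohB1.support (cokernel ψ)) := hne.to_subtype
        have : Nonempty (IrreducibleCloseds (CohB1.support (cokernel ψ))) :=
          ⟨⟨closure {this.some}, isIrreducible_singleton.closure, isClosed_closure⟩⟩
        exact absurd (lt_of_le_of_lt Order.krullDim_nonneg hlt) (lt_irrefl _)
      have hz' : IsZero (CohB1.tensorMod (cokernel ψ) (CohB1.tensorPow L m)) :=
        ((DCoh.tensorBi (X := X)).flip.obj (CohB1.tensorPow L m)).map_isZero hz
      have : Subsingleton (Coh.HH X (CohB1.tensorMod (cokernel ψ) (CohB1.tensorPow L m)) 0) :=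
        ⟨fun a b => (ProperFin.h0Sec _).injective (by
          have h1 : ∀ t : Γ(CohB1.tensorMod (cokernel ψ) (CohB1.tensorPow L m), ⊤), t = 0 := fun t => by
            have := congrArg (fun φ => (Scheme.Modules.Hom.app φ ⊤) t) ((IsZero.iff_id_eq_zero _).mp hz')
            simpa using this
          exact (h1 _).trans (h1 _).symm)⟩
      simp [h0, Module.finrank_zero_of_subsingleton]
    · obtain ⟨C, hC⟩ := S19801.main k hA (d - 1) L hL (cokernel ψ) hcok (by
        have h := hlt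
        rw [← Nat.sub_add_cancel hd0] at h
        exact le_of_lt_add_one h)
      refine ⟨C * 2 ^ (d - 1), fun m hm => ?_⟩
      calc m * h0 k (CohB1.tensorMod (cokernel ψ) (CohB1.tensorPow L m))
          ≤ m * (C * (m + 1) ^ (d - 1)) := Nat.mul_le_mul_left _ (hC m)
        _ ≤ m * (C * (2 * m) ^ (d - 1)) :=
          Nat.mul_le_mul_left _ (Nat.mul_le_mul_left _ (Nat.pow_le_pow_left (by omega) _))
        _ = C * 2 ^ (d - 1) * m ^ (d - 1 + 1) := by rw [mul_pow, pow_succ]; ring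
        _ = C * 2 ^ (d - 1) * m ^ d := by rw [Nat.sub_add_cancel hd0]
  obtain ⟨m, hm, hbm⟩ := hbig C
  refine ⟨m, hm, ?_⟩
  have hLm := isInvertible_tensorPow hL m
  have h1 := h0_tensor_le k hB hLm ψ hψ
  have h2 := hC m hm
  have hpos : 0 < h0 k (CohB1.tensorMod B (CohB1.tensorPow L m)) := by
    refine Nat.pos_of_ne_zero fun hz => ?_
    rw [hz, zero_add] at h1
    exact absurd ((Nat.mul_le_mul_left m h1).trans h2) (not_le.mpr hbm)
  have h3 := (sub_of_h0_pos k (isInvertible_tensorMod hB hLm) hpos).tensor hQ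
  refine (Sub.of_iso (structure_tensor hQ).some.symm).trans (h3.iso ?_)
  exact (PicLaw.tensor_comm (isInvertible_tensorMod hB hLm) hQ).some ≪≫ (tensAssoc _ _ _).symm ≪≫
    tensCongr eB (Iso.refl _) ≪≫ (structure_tensor hLm).some

omit [IsIntegral X] in
theorem eventually_eval_le {P : Polynomial ℚ} {d : ℕ} (hd : P.natDegree ≤ d) (hc : 0 < P.coeff d) :
    ∃ j₀ : ℕ, ∀ j : ℕ, j₀ ≤ j → P.coeff d / 2 * (j : ℚ) ^ d ≤ P.eval (j : ℚ) := by
  let R := P - Polynomial.C (P.coeff d / 2) * Polynomial.X ^ d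
  have hRd : R.coeff d = P.coeff d / 2 := by simp [R]; ring
  have hdeg : R.natDegree = d := by
    refine le_antisymm ((Polynomial.natDegree_sub_le _ _).trans (max_le hd ?_))
      (Polynomial.le_natDegree_of_ne_zero (by rw [hRd]; linarith))
    exact Polynomial.natDegree_C_mul_X_pow_le _ _
  suffices h : ∀ᶠ j : ℕ in Filter.atTop, 0 ≤ R.eval (j : ℚ) by
    obtain ⟨j₀, hj₀⟩ := Filter.eventually_atTop.mp h
    refine ⟨j₀, fun j hj => ?_⟩
    have := hj₀ j hj
    simp [R] at this
    linarith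
  rcases Nat.eq_zero_or_pos d with rfl | hd0
  · rw [Polynomial.eq_C_of_natDegree_eq_zero hdeg]
    refine Filter.Eventually.of_forall fun j => ?_
    rw [Polynomial.eval_C, hRd]
    linarith
  · have ht : Filter.Tendsto (fun x : ℚ => R.eval x) Filter.atTop Filter.atTop := by
      refine Polynomial.tendsto_atTop_of_leadingCoeff_nonneg R ?_ ?_
      · exact Polynomial.natDegree_pos_iff_degree_pos.mp (hdeg ▸ hd0)
      · rw [Polynomial.leadingCoeff, hdeg, hRd]
        linarith
    exact (ht.comp tendsto_natCast_atTop_atTop).eventually_ge_atTop 0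

include k in
omit [IsIntegral X] in
theorem isSeparated_scheme : X.IsSeparated := ⟨by
  rw [show terminal.from X = (X ↘ Spec (CommRingCat.of k)) ≫ terminal.from _ from (terminal.hom_ext _ _)]
  infer_instance⟩

include k in
/-- Large powers of an ample module twisted by an invertible one have non-zero sections. -/
theorem exists_sub_ample_pow {A M : X.Modules} (hA : CohB1.IsAmple A) (hM : PicF.IsInvertible M) :
    ∃ n₀ : ℕ, 0 < n₀ ∧ ∀ n : ℕ, n₀ ≤ n →
      Sub (Coh.structureModule X) (CohB1.tensorMod (CohB1.tensorPow A n) M) := by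
  haveI : CompactSpace X := EulerChar.compactSpace k
  haveI := isSeparated_scheme k (X := X)
  obtain ⟨n₀, hn₀, h⟩ := Groth.Agent.S2329.result X A M hA hM
  exact ⟨n₀, hn₀, fun n hn =>
    sub_of_globallyGenerated (isInvertible_tensorMod (isInvertible_tensorPow hA.1 n) hM) (h n hn).2⟩

/-- Kodaira's lemma: enough growth makes every ample module embed in a power. -/
theorem sub_ample_of_growth {A L : X.Modules} (hA : CohB1.IsAmple A) (hL : PicF.IsInvertible L) {d : ℕ}
    (hd : topologicalKrullDim X ≤ (d : WithBot ℕ∞))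
    (hbig : ∀ C : ℕ, ∃ m : ℕ, 0 < m ∧ C * m ^ d < m * h0 k (CohB1.tensorPow L m)) :
    ∃ m : ℕ, 0 < m ∧ Sub A (CohB1.tensorPow L m) := by
  obtain ⟨n₀, -, hn₀⟩ := exists_sub_ample_pow k hA (LFFrame.isInvertible_structureModule X)
  have h1 := (hn₀ n₀ le_rfl).iso (tensOne _)
  have h2 := (hn₀ (n₀ + 1) (Nat.le_succ _)).iso (tensOne _)
  obtain ⟨m, hm, h⟩ := exists_sub_pow k hA hL hd (isInvertible_tensorPow hA.1 (n₀ + 1)) h2 hbig
  exact ⟨m, hm, ((Sub.of_iso (structure_tensor hA.1).some.symm).trans (h1.tensor hA.1)).trans h⟩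

/-- Bigness from ample modules embedding in powers: eventual effectivity and a lower bound of degree `d`. -/
theorem big_of_sub {A L : X.Modules} (hA : CohB1.IsAmple A) (hL : PicF.IsInvertible L) {d : ℕ}
    (hd : topologicalKrullDim X = (d : WithBot ℕ∞))
    (hsub : ∀ A' : X.Modules, CohB1.IsAmple A' → ∃ m : ℕ, 0 < m ∧ Sub A' (CohB1.tensorPow L m)) :
    (∃ r₀ : ℕ, ∀ r : ℕ, r₀ ≤ r → Sub (Coh.structureModule X) (CohB1.tensorPow L r)) ∧
      ∃ K n₁ : ℕ, 0 < K ∧ ∀ n : ℕ, n₁ ≤ n → n ^ d ≤ K * h0 k (CohB1.tensorPow L n) := by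
  haveI := EulerChar.isNoetherian k (X := X)
  haveI : CompactSpace X := EulerChar.compactSpace k
  haveI : X.IsSeparated := ⟨by
    rw [show terminal.from X = (X ↘ Spec (CommRingCat.of k)) ≫ terminal.from _ from (terminal.hom_ext _ _)]
    infer_instance⟩
  obtain ⟨a₁, ha₁, hgg₁⟩ := Groth.Agent.S2329.result X A L hA hL
  obtain ⟨a₂, -, hgg₂⟩ := Groth.Agent.S2329.result X A _ hA (LFFrame.isInvertible_structureModule X)
  obtain ⟨a, hla, hra⟩ : ∃ a, a₁ ≤ a ∧ a₂ ≤ a := ⟨max a₁ a₂, le_max_left _ _, le_max_right _ _⟩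
  have ha : 0 < a := lt_of_lt_of_le ha₁ hla
  let Q := CohB1.tensorPow A a
  have hQ : PicF.IsInvertible Q := isInvertible_tensorPow hA.1 a
  have hQs : Sub (Coh.structureModule X) Q :=
    (sub_of_globallyGenerated (isInvertible_tensorMod hQ (LFFrame.isInvertible_structureModule X))
      (hgg₂ a hra).2).iso (tensOne Q)
  have hQL : Sub (Coh.structureModule X) (CohB1.tensorMod Q L) :=
    sub_of_globallyGenerated (isInvertible_tensorMod hQ hL) (hgg₁ a hla).2
  obtain ⟨m, hm, hQm⟩ := hsub Q ((Groth.Agent.AmpleLib.isAmple_tensorPow_iff hA.1 ha).mpr hA)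
  have heff : ∀ r : ℕ, m * m ≤ r → Sub (Coh.structureModule X) (CohB1.tensorPow L r) :=
    fun r hr => sub_eventually hL hm (hQs.trans hQm) (hQL.trans (hQm.tensor hL)) hr
  refine ⟨⟨m * m, heff⟩, ?_⟩
  obtain ⟨P, hP⟩ := HilbPolyX.exists_hilbPoly k hA.1 (ProperFin.isCoh_structureModule X)
  have hsupp : topologicalKrullDim (CohB1.support (Coh.structureModule X)) = (d : WithBot ℕ∞) := by
    rw [show CohB1.support (Coh.structureModule X) = Set.univ from Set.eq_univ_of_forall
      fun x => nontrivial_stalk (LFFrame.isInvertible_structureModule X) x, ← hd]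
    exact IsHomeomorph.topologicalKrullDim_eq _ (Homeomorph.Set.univ X).isHomeomorph
  have hpos := HilbPolyX.coeff_pos k hA d (ProperFin.isCoh_structureModule X) hP hsupp
  have hdeg : P.natDegree ≤ d := Polynomial.natDegree_le_iff_coeff_eq_zero.mpr fun i hi =>
    HilbPolyX.coeff_eq_zero k hA.1 (ProperFin.isCoh_structureModule X) hP (n := d + 1)
      (by rw [hsupp]; exact_mod_cast Nat.lt_succ_self d) hi
  obtain ⟨j₀, hj₀⟩ := eventually_eval_le hdeg hpos
  obtain ⟨n₀, hn₀⟩ := AmpCrit.SerreVan.serre_vanishing (X ↘ Spec (CommRingCat.of k)) hA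
    (Coh.structureModule X) (ProperFin.isCoh_structureModule X)
  obtain ⟨c, hc⟩ : ∃ c : ℕ, 1 / (P.coeff d / 2) ≤ (c : ℚ) := ⟨_, Nat.le_ceil _⟩
  have hA' : ∀ i : ℕ, max n₀ j₀ ≤ i → i ^ d ≤ c * h0 k (CohB1.tensorPow A i) := by
    intro i hi
    have h := EulerChar.euler_eq_sum k (M := ShStab.twist X A (Coh.structureModule X) i) (t := 1)
      fun p hp => hn₀ i (le_trans (le_max_left _ _) hi) p (by omega)
    have h' : (Curv2.euler k X (ShStab.twist X A (Coh.structureModule X) i) : ℚ) =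
        (h0 k (CohB1.tensorPow A i) : ℚ) := by
      rw [h, show h0 k (CohB1.tensorPow A i) = h0 k (ShStab.twist X A (Coh.structureModule X) i) from
        Pn.finrank_hh_iso (structure_tensor (isInvertible_tensorPow hA.1 i)).some.symm 0]
      simp [h0]
    rw [hP i] at h'
    have h1 := hj₀ i (le_trans (le_max_right _ _) hi)
    rw [h'] at h1
    have h2 : (1 : ℚ) ≤ (c : ℚ) * (P.coeff d / 2) := by
      rw [div_le_iff₀ (by linarith)] at hc
      linarith
    have h3 : ((i ^ d : ℕ) : ℚ) ≤ ((c * h0 k (CohB1.tensorPow A i) : ℕ) : ℚ) := by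
      push_cast
      calc (i : ℚ) ^ d ≤ ((c : ℚ) * (P.coeff d / 2)) * (i : ℚ) ^ d :=
            le_mul_of_one_le_left (by positivity) h2
        _ = (c : ℚ) * (P.coeff d / 2 * (i : ℚ) ^ d) := by ring
        _ ≤ _ := mul_le_mul_of_nonneg_left h1 (Nat.cast_nonneg c)
    exact_mod_cast h3
  refine ⟨(3 * m) ^ d * c + 1, m * m + m * (max n₀ j₀ + 2 * m + 1), Nat.succ_pos _, fun n hn => ?_⟩
  obtain ⟨j, hj⟩ : ∃ j, j = (n - m * m) / m := ⟨_, rfl⟩
  have hjb : m * j ≤ n - m * m := hj ▸ Nat.mul_div_le (n - m * m) m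
  have hjl : n - m * m < m * (j + 1) := hj ▸ Nat.lt_mul_div_succ (n - m * m) hm
  have hjbig : max n₀ j₀ + 2 * m + 1 ≤ j := hj ▸ (Nat.le_div_iff_mul_le hm).mpr (by
    rw [mul_comm]; omega)
  obtain ⟨eQ⟩ := nonempty_pow_mul hA.1 a j
  obtain ⟨eL⟩ := nonempty_pow_mul hL m j
  have hs : Sub (CohB1.tensorPow A (a * j)) (CohB1.tensorPow L n) := by
    refine ((Sub.of_iso eQ.symm).trans ((sub_tensorPow hQ (isInvertible_tensorPow hL m) hQm j).iso eL)).trans ?_
    have h := heff (n - m * j) (by omega)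
    have h' := (Sub.of_iso (structure_tensor (isInvertible_tensorPow hL (m * j))).some.symm).trans
      ((h.tensor (isInvertible_tensorPow hL (m * j))).iso (AmpCrit.SerreVan.powAddIso L _ _))
    rwa [Nat.sub_add_cancel (by omega)] at h'
  have h1 := h0_le_of_sub k (isCoh_of_isInvertible (isInvertible_tensorPow hL n)) hs
  have hja : j ≤ a * j := Nat.le_mul_of_pos_left j ha
  have h2 := hA' (a * j) (by omega)
  have hn3 : n ≤ 3 * m * j := by
    have e1 : m * (j + 1) = m * j + m := by ring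
    have e2 : m * m ≤ m * j := Nat.mul_le_mul_left m (by omega)
    have e3 : m ≤ m * j := Nat.le_mul_of_pos_right m (by omega)
    have e4 : 3 * m * j = m * j + m * j + m * j := by ring
    omega
  calc n ^ d ≤ (3 * m) ^ d * j ^ d := by rw [← mul_pow]; exact Nat.pow_le_pow_left hn3 d
    _ ≤ (3 * m) ^ d * (c * h0 k (CohB1.tensorPow L n)) :=
      Nat.mul_le_mul_left _ ((Nat.pow_le_pow_left hja d).trans (h2.trans (Nat.mul_le_mul_left c h1)))
    _ ≤ ((3 * m) ^ d * c + 1) * h0 k (CohB1.tensorPow L n) := by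
      rw [← mul_assoc]; exact Nat.mul_le_mul_right _ (Nat.le_succ _)

/-- Bigness from unbounded growth. -/
theorem big_of_growth {A L : X.Modules} (hA : CohB1.IsAmple A) (hL : PicF.IsInvertible L) {d : ℕ}
    (hd : topologicalKrullDim X = (d : WithBot ℕ∞))
    (hbig : ∀ C : ℕ, ∃ m : ℕ, 0 < m ∧ C * m ^ d < m * h0 k (CohB1.tensorPow L m)) :
    (∃ r₀ : ℕ, ∀ r : ℕ, r₀ ≤ r → Sub (Coh.structureModule X) (CohB1.tensorPow L r)) ∧
      ∃ K n₁ : ℕ, 0 < K ∧ ∀ n : ℕ, n₁ ≤ n → n ^ d ≤ K * h0 k (CohB1.tensorPow L n) :=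
  big_of_sub k hA hL hd fun _ hA' => sub_ample_of_growth k hA' hL hd.le hbig

/-- An effective twist increases the sections of all powers. -/
theorem h0_pow_le_of_sub {L M : X.Modules} (hL : PicF.IsInvertible L) (hM : PicF.IsInvertible M)
    (h : Sub L M) (m : ℕ) : h0 k (CohB1.tensorPow L m) ≤ h0 k (CohB1.tensorPow M m) := by
  haveI := EulerChar.isNoetherian k (X := X)
  exact h0_le_of_sub k (isCoh_of_isInvertible (isInvertible_tensorPow hM m)) (sub_tensorPow hL hM h m)

open scoped ENNReal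
open Filter

/-- `h⁰(Lᵐ) / m^d` in the extended non-negative reals. -/
abbrev f (L : X.Modules) (d : ℕ) (m : ℕ) : ℝ≥0∞ :=
  (Module.finrank k (Coh.HH X (CohB1.tensorPow L m) 0) : ℝ≥0∞) / (m : ℝ≥0∞) ^ d

theorem growth_of_limsup_pos {L : X.Modules} {d : ℕ} (h : 0 < limsup (f k L d) atTop) :
    ∀ C : ℕ, ∃ m : ℕ, 0 < m ∧ C * m ^ d < m * h0 k (CohB1.tensorPow L m) := by
  by_contra! hcon
  obtain ⟨C, hC⟩ := hcon
  refine h.ne' (le_antisymm ?_ bot_le)
  have ht : Tendsto (fun m : ℕ => (C : ℝ≥0∞) / (m : ℝ≥0∞)) atTop (nhds 0) := by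
    have := ENNReal.Tendsto.const_div ENNReal.tendsto_nat_nhds_top
      (a := (C : ℝ≥0∞)) (Or.inr (ENNReal.natCast_ne_top C))
    simpa using this
  refine le_trans (limsup_le_limsup ?_) ht.limsup_eq.le
  filter_upwards [eventually_ge_atTop 1] with m hm
  have hm0 : (m : ℝ≥0∞) ≠ 0 := by exact_mod_cast Nat.one_le_iff_ne_zero.mp hm
  rw [ENNReal.le_div_iff_mul_le (Or.inl hm0) (Or.inl (ENNReal.natCast_ne_top m)), f,
    mul_comm, ← mul_div_assoc,
    ENNReal.div_le_iff_le_mul (Or.inl (pow_ne_zero _ hm0))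
      (Or.inl (ENNReal.pow_ne_top (ENNReal.natCast_ne_top m)))]
  exact_mod_cast hC m hm

theorem liminf_pos_of_limsup_pos {A L : X.Modules} (hA : CohB1.IsAmple A) (hL : PicF.IsInvertible L)
    {d : ℕ} (hd : topologicalKrullDim X = (d : WithBot ℕ∞)) (h : 0 < limsup (f k L d) atTop) :
    0 < liminf (f k L d) atTop := by
  obtain ⟨-, K, n₁, hK, hn₁⟩ := big_of_growth k hA hL hd (growth_of_limsup_pos k h)
  refine lt_of_lt_of_le (b := (K : ℝ≥0∞)⁻¹) (ENNReal.inv_pos.mpr (ENNReal.natCast_ne_top K))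
    (le_liminf_of_le (by isBoundedDefault) ?_)
  filter_upwards [eventually_ge_atTop n₁, eventually_ge_atTop 1] with n hn hn1
  have hn0 : (n : ℝ≥0∞) ≠ 0 := by exact_mod_cast Nat.one_le_iff_ne_zero.mp hn1
  rw [f, ENNReal.le_div_iff_mul_le (Or.inl (pow_ne_zero _ hn0))
    (Or.inl (ENNReal.pow_ne_top (ENNReal.natCast_ne_top n))), mul_comm, ← div_eq_mul_inv,
    ENNReal.div_le_iff_le_mul (Or.inl (by exact_mod_cast hK.ne')) (Or.inl (ENNReal.natCast_ne_top K)), mul_comm]
  exact_mod_cast hn₁ n hn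

theorem limsup_pow {A L : X.Modules} (hA : CohB1.IsAmple A) (hL : PicF.IsInvertible L)
    {d : ℕ} (hd : topologicalKrullDim X = (d : WithBot ℕ∞)) {a : ℕ} (ha : 0 < a) :
    limsup (f k (CohB1.tensorPow L a) d) atTop = (a : ℝ≥0∞) ^ d * limsup (f k L d) atTop := by
  have hA0 : (a : ℝ≥0∞) ^ d ≠ 0 := pow_ne_zero _ (by exact_mod_cast ha.ne')
  have hAt : (a : ℝ≥0∞) ^ d ≠ ⊤ := ENNReal.pow_ne_top (ENNReal.natCast_ne_top a)
  have hfa : f k (CohB1.tensorPow L a) d = fun m => (a : ℝ≥0∞) ^ d * f k L d (a * m) := by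
    funext m
    show (_ : ℝ≥0∞) / _ = _ * ((_ : ℝ≥0∞) / _)
    rw [Pn.finrank_hh_iso (nonempty_pow_mul hL a m).some 0, Nat.cast_mul, mul_pow, mul_div_assoc',
      ENNReal.mul_div_mul_left _ _ hA0 hAt]
  rw [hfa, ENNReal.limsup_const_mul_of_ne_top hAt]
  congr 1
  have hmul : Tendsto (fun m : ℕ => a * m) atTop atTop :=
    tendsto_atTop_atTop.mpr fun b => ⟨b, fun m hm => hm.trans (Nat.le_mul_of_pos_left m ha)⟩
  refine le_antisymm (limsSup_le_limsSup_of_le ((Filter.map_map (f := atTop) (m := fun m : ℕ => a * m) (m' := f k L d)).symm.trans_le (Filter.map_mono hmul))) ?_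
  by_cases h0 : limsup (f k L d) atTop = 0
  · rw [h0]; exact bot_le
  obtain ⟨⟨r₀, hr₀⟩, -⟩ := big_of_growth k hA hL hd (growth_of_limsup_pos k (pos_iff_ne_zero.mpr h0))
  refine le_of_forall_gt_imp_ge_of_dense fun b hb => ?_
  by_cases hbt : b = ⊤
  · rw [hbt]; exact le_top
  have hev := eventually_lt_of_limsup_lt hb
  obtain ⟨M, hM⟩ := eventually_atTop.mp hev
  have hone : Tendsto (fun n : ℕ => b * ((1 : ℝ≥0∞) + ((r₀ + a : ℕ) : ℝ≥0∞) / (n : ℝ≥0∞)) ^ d) atTop (nhds b) := by
    have h1 : Tendsto (fun n : ℕ => ((r₀ + a : ℕ) : ℝ≥0∞) / (n : ℝ≥0∞)) atTop (nhds 0) := by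
      simpa using ENNReal.Tendsto.const_div ENNReal.tendsto_nat_nhds_top
        (a := ((r₀ + a : ℕ) : ℝ≥0∞)) (Or.inr (ENNReal.natCast_ne_top _))
    have h2 : Tendsto (fun n : ℕ => ((1 : ℝ≥0∞) + ((r₀ + a : ℕ) : ℝ≥0∞) / (n : ℝ≥0∞)) ^ d) atTop (nhds 1) := by
      have := ENNReal.Tendsto.pow (n := d) (h1.const_add (1 : ℝ≥0∞))
      simpa using this
    simpa using ENNReal.Tendsto.const_mul h2 (Or.inr hbt)
  refine le_trans (limsup_le_limsup ?_) hone.limsup_eq.le
  filter_upwards [eventually_ge_atTop (a * M + 1)] with n hn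
  obtain ⟨m, hm⟩ : ∃ m, m = (n + r₀ + a - 1) / a := ⟨_, rfl⟩
  have hub : a * m ≤ n + r₀ + a - 1 := hm ▸ Nat.mul_div_le _ a
  have hlb : n + r₀ + a - 1 < a * (m + 1) := hm ▸ Nat.lt_mul_div_succ _ ha
  have hlb' : n + r₀ ≤ a * m := by
    have : a * (m + 1) = a * m + a := by ring
    omega
  have hMm : M ≤ m := Nat.le_of_mul_le_mul_left (by omega : a * M ≤ a * m) ha
  have hsub : Sub (CohB1.tensorPow L n) (CohB1.tensorPow L (a * m)) := by
    have h := ((Sub.of_iso (structure_tensor (isInvertible_tensorPow hL n)).some.symm).trans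
      ((hr₀ (a * m - n) (by omega)).tensor (isInvertible_tensorPow hL n))).iso
        (AmpCrit.SerreVan.powAddIso L _ _)
    rwa [Nat.sub_add_cancel (by omega)] at h
  have hh : (BigVol.h0 k (CohB1.tensorPow L n) : ℝ≥0∞) ≤ (BigVol.h0 k (CohB1.tensorPow L (a * m)) : ℝ≥0∞) := by
    haveI := EulerChar.isNoetherian k (X := X)
    exact_mod_cast h0_le_of_sub k (isCoh_of_isInvertible (isInvertible_tensorPow hL (a * m))) hsub
  have hn0 : (n : ℝ≥0∞) ≠ 0 := by exact_mod_cast (show n ≠ 0 by omega)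
  have ham0 : ((a * m : ℕ) : ℝ≥0∞) ≠ 0 := by exact_mod_cast (show a * m ≠ 0 by omega)
  have hb' := (hM m hMm).le
  rw [f, ENNReal.div_le_iff_le_mul (Or.inl (pow_ne_zero _ ham0))
    (Or.inl (ENNReal.pow_ne_top (ENNReal.natCast_ne_top _)))] at hb'
  rw [f, ENNReal.div_le_iff_le_mul (Or.inl (pow_ne_zero _ hn0))
    (Or.inl (ENNReal.pow_ne_top (ENNReal.natCast_ne_top n))), mul_assoc, ← mul_pow]
  refine hh.trans (hb'.trans (mul_le_mul_right (pow_le_pow_left' ?_ d) b))
  rw [add_mul, one_mul, ENNReal.div_mul_cancel hn0 (ENNReal.natCast_ne_top n)]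
  exact_mod_cast (show a * m ≤ n + (r₀ + a) by omega)

end Groth.Agent.BigVol
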