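import Groth.Agent.BigVol.TSystem
import Groth.Agent.AmpleLib.Ideal
import Groth.Agent.AmpleLib.Twist
import Groth.Agent.VBLib.MulSec
import Groth.Agent.ProjTwist.Pn.MulX

/-!
The powers of an ideal with `I ⊗ L` globally generated form a finitely generated graded system
`p ↦ I^p ⊗ L^p`, so `Hⁱ(I^p ⊗ L^p ⊗ A^j) = 0` for `i ≥ 1` and `j` large, uniformly in `p`.
-/

set_option autoImplicit false
set_option linter.style.haveILetI false

open CategoryTheory CategoryTheory.Limits AlgebraicGeometry TopologicalSpace Opposite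
open Groth.Agent.ProjTwist Groth.Agent.AmpleLib
open Groth.Agent.QCoh Groth.Agent.Props.GenLocus Groth.Agent.Props.GenTensor OmegaSh Groth.Agent.Omega.Stalks

universe u

noncomputable section

namespace Groth.Agent.BigVol.PowReg

open AmpCrit.Acyclic

variable {X : Scheme.{u}}

/-- A map of quasi-coherent modules vanishing on an affine cover vanishes. -/
theorem eq_zero_of_app {κ : Type*} (U : κ → X.Opens) (hU : ∀ k, IsAffineOpen (U k))
    (hcov : ∀ x : X, ∃ k, x ∈ U k) {P M : X.Modules} [P.IsQuasicoherent] [M.IsQuasicoherent]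
    (f : P ⟶ M) (h : ∀ k (z : Γ(P, U k)), f.app (U k) z = 0) : f = 0 := by
  have : (kernel f).IsQuasicoherent := isQuasicoherent_kernel f
  have : Epi (kernel.ι f) := epi_of_surjective U hU hcov _ fun k z =>
    exists_app_eq_of_app_eq_zero (ShortComplex.mk _ _ (kernel.condition f))
      (ShortComplex.exact_of_f_is_kernel _ (kernelIsKernel f)) (U k) z (h k z)
  rw [← cancel_epi (kernel.ι f), kernel.condition, comp_zero]

/-- `φ ⊗ L` -/
def tensL (L : X.Modules) {A B : X.Modules} (φ : A ⟶ B) : CohB1.tensorMod A L ⟶ CohB1.tensorMod B L :=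
  ((DCoh.tensorBi (X := X)).flip.obj L).map φ

/-- `L ⊗ φ` -/
def tensR (L : X.Modules) {A B : X.Modules} (φ : A ⟶ B) : CohB1.tensorMod L A ⟶ CohB1.tensorMod L B :=
  ((DCoh.tensorBi (X := X)).obj L).map φ

theorem tensL_tmul (L : X.Modules) {A B : X.Modules} (φ : A ⟶ B) (U : X.Opens) (m : Γ(A, U))
    (l : Γ(L, U)) : (tensL L φ).app U (tmul m l) = tmul (φ.app U m) l :=
  ProjTwist.map_tmul_left L φ U m l

theorem tensR_tmul (L : X.Modules) {A B : X.Modules} (φ : A ⟶ B) (U : X.Opens) (l : Γ(L, U))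
    (m : Γ(A, U)) : (tensR L φ).app U (tmul l m) = tmul l (φ.app U m) :=
  ProjTwist.map_tmul_right L φ U l m

theorem tensR_comp (L : X.Modules) {A B C : X.Modules} (φ : A ⟶ B) (ψ : B ⟶ C) :
    tensR L (φ ≫ ψ) = tensR L φ ≫ tensR L ψ :=
  ((DCoh.tensorBi (X := X)).obj L).map_comp φ ψ

theorem mono_tensL {L : X.Modules} (hL : PicF.IsInvertible L) {A B : X.Modules} (φ : A ⟶ B) [Mono φ] :
    Mono (tensL L φ) :=
  (shortExact_tensor hL (ShortComplex.ShortExact.mk'
    (S := ShortComplex.mk _ _ (cokernel.condition φ))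
    (ShortComplex.exact_cokernel _) (inferInstanceAs (Mono φ))
    (inferInstanceAs (Epi (cokernel.π φ))))).mono_f

variable (I : X.IdealSheafData) (L : X.Modules)

/-- `I^p ⊗ L^p` -/
abbrev M (p : ℕ) : X.Modules := CohB1.tensorMod (ClSub.idealMod (I ^ p)) (CohB1.tensorPow L p)

/-- `O ⊗ L^p` -/
abbrev E (p : ℕ) : X.Modules := CohB1.tensorMod (Coh.structureModule X) (CohB1.tensorPow L p)

/-- The inclusion `I^p ⊗ L^p ⟶ O ⊗ L^p`. -/
def incl (p : ℕ) : M I L p ⟶ E L p :=
  tensL (CohB1.tensorPow L p) (ClSub.idealModι (I ^ p))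

variable {I L}

/-- Multiplication of `O ⊗ L^p` by a section of `L`. -/
def mul (g : Γ(L, ⊤)) (p : ℕ) : E L p ⟶ E L (p + 1) :=
  tensR (Coh.structureModule X) (VBLib.MulSec.mulSec (CohB1.tensorPow L p) g)

/-- The section `a ⊗ e^p`. -/
def els {U : X.Opens} (e : Γ(L, U)) (p : ℕ) (a : Γ(X, U)) : Γ(E L p, U) :=
  tmul (M := Coh.structureModule X) a (pw L e p)

theorem els_add {U : X.Opens} (e : Γ(L, U)) (p : ℕ) (a b : Γ(X, U)) :
    els e p (a + b) = els e p a + els e p b :=
  AmpleLib.tmul_add_left (M := Coh.structureModule X) a b _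

theorem els_sum {U : X.Opens} (e : Γ(L, U)) (p : ℕ) {ι : Type*} (s : Finset ι) (a : ι → Γ(X, U)) :
    els e p (∑ i ∈ s, a i) = ∑ i ∈ s, els e p (a i) :=
  map_sum (AddMonoidHom.mk' (els e p) (els_add e p)) a s

theorem mul_els {U : X.Opens} (g : Γ(L, ⊤)) (p : ℕ) {e : Γ(L, U)} {c : Γ(X, U)}
    (hc : res L (le_top : U ≤ ⊤) g = c • e) (a : Γ(X, U)) :
    (mul g p).app U (els e p a) = els e (p + 1) (a * c) := by
  refine (tensR_tmul (Coh.structureModule X) _ U (show Γ(Coh.structureModule X, U) from a) _).trans ?_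
  have h1 : (VBLib.MulSec.mulSec (CohB1.tensorPow L p) g).app U (pw L e p) = c • pw L e (p + 1) := by
    rw [VBLib.MulSec.mulSec_app, hc, tmul_smul_right]
    rfl
  refine (congrArg (tmul (M := Coh.structureModule X) (V := U) a) h1).trans ?_
  refine (tmul_smul_right _ _ _).trans ((tmul_smul_left _ _ _).symm.trans ?_)
  exact congrArg (fun z : Γ(X, U) => els e (p + 1) z) (_root_.mul_comm c a)

theorem mul_comm (hL : PicF.IsInvertible L) (g g' : Γ(L, ⊤)) (p : ℕ) :
    mul g p ≫ mul g' (p + 1) = mul g' p ≫ mul g (p + 1) := by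
  refine (tensR_comp _ _ _).symm.trans ?_
  refine Eq.trans ?_ (tensR_comp _ _ _)
  exact congrArg (tensR _) (VBLib.MulSec.mulSec_comm (isInvertible_tensorPow hL p) hL g g')

theorem incl_mem (T : X.affineOpens) {e : Γ(L, T.1)} (he : IsGen L T.1 e) (p : ℕ)
    (z : Γ(M I L p, T.1)) : ∃ a ∈ I.ideal T ^ p, (incl I L p).app T.1 z = els e p a := by
  refine ⟨idealSect (I ^ p) T.1 (coF he z), ?_, ?_⟩
  · exact IdealSh.IdealMod.sect_mem (I ^ p) T (coF he z)
  · conv_lhs => rw [← coF_spec he z]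
    exact tensL_tmul _ _ _ _ _

theorem exists_incl_eq (T : X.affineOpens) (e : Γ(L, T.1)) (p : ℕ) {a : Γ(X, T.1)}
    (ha : a ∈ I.ideal T ^ p) : ∃ z : Γ(M I L p, T.1), (incl I L p).app T.1 z = els e p a := by
  obtain ⟨s, hs⟩ := IdealSh.IdealMod.exists_sect (I ^ p) T.1 a
    ((IdealSh.IdealMod.mem_ideal_iff (I ^ p) T a).mp ha)
  exact ⟨tmul s (pw L e p), (tensL_tmul _ _ _ _ _).trans (congrArg (els e p) hs)⟩

theorem mono_incl (hL : PicF.IsInvertible L) (p : ℕ) : Mono (incl I L p) :=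
  haveI : Mono (ClSub.idealModι (I ^ p)) := inferInstanceAs (Mono (kernel.ι _))
  mono_tensL (isInvertible_tensorPow hL p) _

theorem isCoh_idealMod [IsNoetherian X] (J : X.IdealSheafData) : Coh.IsCoh (ClSub.idealMod J) :=
  ⟨isQCoh_idealMod J, isFT_idealMod (fun T => by
    have := IsLocallyNoetherian.component_noetherian T
    exact IsNoetherian.noetherian _)⟩

/-- The graded system of twisted powers. -/
theorem exists_sys [IsNoetherian X] (hL : PicF.IsInvertible L) {N : ℕ} (g : Fin N → Γ(L, ⊤))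
    {r : ℕ} {U : Fin r → X.Opens} (hU : ∀ k, IsAffineOpen (U k)) (hcov : ∀ x : X, ∃ k, x ∈ U k)
    (e : ∀ k, Γ(L, U k)) (he : ∀ k, IsGen L (U k) (e k)) (c : Fin N → ∀ k, Γ(X, U k))
    (hc : ∀ l k, res L (le_top : U k ≤ ⊤) (g l) = c l k • e k)
    (hspan : ∀ k, Ideal.span (Set.range fun l => c l k) = I.ideal ⟨U k, hU k⟩) :
    ∃ S : TSystem.Sys U N, S.M = M I L := by
  classical
  have cM : ∀ p, Coh.IsCoh (M I L p) := fun p =>
    isCoh_tensor (isInvertible_tensorPow hL p) (isCoh_idealMod _)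
  have cE : ∀ p, Coh.IsCoh (E L p) := fun p =>
    isCoh_tensor (isInvertible_tensorPow hL p) (ProperFin.isCoh_structureModule X)
  have hmono := fun p => mono_incl (I := I) hL p
  have cmem : ∀ l k, c l k ∈ I.ideal ⟨U k, hU k⟩ := fun l k =>
    hspan k ▸ Ideal.subset_span ⟨l, rfl⟩
  have key : ∀ l p, (incl I L p ≫ mul (g l) p) ≫ cokernel.π (incl I L (p + 1)) = 0 := fun l p => by
    have := (cM p).1
    have := (cM (p + 1)).1
    have := (cE (p + 1)).1
    refine eq_zero_of_app U hU hcov _ fun k z => ?_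
    obtain ⟨a, ha, hz⟩ := incl_mem (I := I) ⟨U k, hU k⟩ (he k) p z
    obtain ⟨w, hw⟩ := exists_incl_eq (I := I) ⟨U k, hU k⟩ (e k) (p + 1)
      (show a * c l k ∈ I.ideal ⟨U k, hU k⟩ ^ (p + 1) by
        rw [pow_succ]; exact Ideal.mul_mem_mul ha (cmem l k))
    show (cokernel.π (incl I L (p + 1))).app (U k) ((mul (g l) p).app (U k) ((incl I L p).app (U k) z)) = 0
    rw [hz, mul_els (g l) p (hc l k), ← hw]
    exact app_app_eq_zero (ShortComplex.mk _ _ (cokernel.condition (incl I L (p + 1)))) _ _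
  let t : Fin N → ∀ p, M I L p ⟶ M I L (p + 1) := fun l p =>
    haveI := hmono (p + 1)
    Abelian.monoLift (incl I L (p + 1)) (incl I L p ≫ mul (g l) p) (key l p)
  have ht : ∀ l p, t l p ≫ incl I L (p + 1) = incl I L p ≫ mul (g l) p := fun l p =>
    haveI := hmono (p + 1)
    Abelian.monoLift_comp _ _ _
  refine ⟨{ M := M I L, coh := cM, t := t, comm := fun l l' p => ?_, gen := ⟨0, fun p _ k z => ?_⟩ }, rfl⟩
  · haveI := hmono (p + 1 + 1)
    rw [← cancel_mono (incl I L (p + 1 + 1)), Category.assoc, Category.assoc, ht, ht, ← Category.assoc,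
      ← Category.assoc, ht, ht, Category.assoc, Category.assoc, mul_comm hL]
  · haveI := hmono (p + 1)
    obtain ⟨a, ha, hz⟩ := incl_mem (I := I) ⟨U k, hU k⟩ (he k) (p + 1) z
    rw [pow_succ, ← hspan k, ← smul_eq_mul] at ha
    obtain ⟨b, hb, hab⟩ := (Submodule.mem_ideal_smul_span_iff_exists_sum _ _ _).mp ha
    choose y hy using fun l => exists_incl_eq (I := I) ⟨U k, hU k⟩ (e k) p (hspan k ▸ hb l)
    refine ⟨y, app_injective_of_mono (incl I L (p + 1)) (U k) ?_⟩
    show appLin (incl I L (p + 1)) (U k) z = appLin (incl I L (p + 1)) (U k) (∑ l, _)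
    rw [map_sum]
    refine hz.trans ?_
    rw [← hab, Finsupp.sum_fintype b (fun i a => a • c i k) (fun _ => zero_smul _ _), els_sum]
    refine Finset.sum_congr rfl fun l _ => ?_
    refine Eq.trans ?_ (congrArg (fun f => f.app (U k) (y l)) (ht l p)).symm
    show _ = (mul (g l) p).app (U k) ((incl I L p).app (U k) (y l))
    rw [hy l, mul_els (g l) p (hc l k), smul_eq_mul]

variable (I L)

/-- `I ⊗ L ⟶ O ⊗ L` -/
def incl₁ : CohB1.tensorMod (ClSub.idealMod I) L ⟶ CohB1.tensorMod (Coh.structureModule X) L :=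
  tensL L (ClSub.idealModι I)

theorem res_idealSect (J : X.IdealSheafData) {U V : X.Opens} (h : V ≤ U) (s : Γ(ClSub.idealMod J, U)) :
    rres h (idealSect J U s) = idealSect J V (res _ h s) := (idealSect_map J (homOfLE h) s).symm

variable {I L}

/-- Around every point finitely many sections of `I ⊗ L` give generators of `I`. -/
theorem exists_local_span [IsNoetherian X] (hL : PicF.IsInvertible L)
    (hgg : Curv2.IsGloballyGenerated (CohB1.tensorMod (ClSub.idealMod I) L)) (x : X) :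
    ∃ (T : X.affineOpens) (e : Γ(CohB1.tensorMod (Coh.structureModule X) L, T.1))
      (s : Finset Γ(CohB1.tensorMod (ClSub.idealMod I) L, ⊤)),
      x ∈ T.1 ∧ IsGen _ T.1 e ∧ ∀ σ : Γ(CohB1.tensorMod (ClSub.idealMod I) L, ⊤),
      ∃ a ∈ I.ideal T, res _ (le_top : T.1 ≤ ⊤) ((incl₁ I L).app ⊤ σ) = a • e ∧
        I.ideal T ≤ Ideal.span {b | ∃ τ ∈ s, res _ (le_top : T.1 ≤ ⊤) ((incl₁ I L).app ⊤ τ) = b • e} := by
  classical
  obtain ⟨ι, pp, hpp⟩ := hgg
  let pp' : (∐ fun _ : ι => Coh.structureModule X) ⟶ CohB1.tensorMod (ClSub.idealMod I) L := pp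
  haveI : Epi pp' := hpp
  obtain ⟨T₀, e₀, hxT₀, he₀⟩ := exists_affine_gen hL x
  have := IsLocallyNoetherian.component_noetherian T₀
  obtain ⟨G, hG⟩ := (IsNoetherian.noetherian (I.ideal T₀) : (I.ideal T₀).FG)
  choose f hf using fun a : G => IdealSh.IdealMod.exists_sect I T₀.1 a.1
    ((IdealSh.IdealMod.mem_ideal_iff I T₀ a.1).mp (hG ▸ Submodule.subset_span a.2))
  choose W hW hxW hspan using fun a : G =>
    exists_res_mem_span (M := CohB1.tensorMod (ClSub.idealMod I) L) (tmul (f a) e₀) hxT₀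
      (germ_mem_span_of_epi pp' _ x hxT₀)
  let O : X.Opens := ⟨(T₀.1 : Set X) ∩ ⋂ a, (W a : Set X), T₀.1.2.inter (isOpen_iInter_of_finite fun a => (W a).2)⟩
  obtain ⟨T', hT', hxT, hTO⟩ := exists_isAffineOpen_mem_and_subset (X := X) (x := x) (U := O)
    ⟨hxT₀, Set.mem_iInter.mpr fun a => hxW a⟩
  let T : X.affineOpens := ⟨T', hT'⟩
  have hT₀ : T' ≤ T₀.1 := fun y hy => (hTO hy).1
  have hTW : ∀ a, T' ≤ W a := fun a y hy => Set.mem_iInter.mp (hTO hy).2 a
  let e : Γ(CohB1.tensorMod (Coh.structureModule X) L, T') :=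
    tmul (M := Coh.structureModule X) (1 : Γ(X, T')) (res L hT₀ e₀)
  have he : IsGen _ T' e := isGen_tmul (isGen_one T') (he₀.restrict hT₀)
  let ev : Γ(X, T') ≃ₗ[Γ(X, T')] Γ(CohB1.tensorMod (Coh.structureModule X) L, T') :=
    LinearEquiv.ofBijective (LinearMap.toSpanSingleton Γ(X, T') _ e) (by
      convert he T' le_rfl using 1
      funext a
      simp [sm, res_self])
  let φ : Γ(CohB1.tensorMod (ClSub.idealMod I) L, T') →ₗ[Γ(X, T')] Γ(X, T') :=
    ev.symm.toLinearMap.comp (appLin (incl₁ I L) T')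
  have hev : ∀ z, φ z • e = (incl₁ I L).app T' z := fun z => ev.apply_symm_apply _
  have htm : ∀ m : Γ(ClSub.idealMod I, T'), φ (tmul m (res L hT₀ e₀)) = idealSect I T' m := fun m => by
    refine ev.symm_apply_eq.mpr ?_
    refine (tensL_tmul L (ClSub.idealModι I) T' m _).trans ?_
    show _ = idealSect I T' m • e
    rw [← tmul_smul_left]
    exact congrArg (fun z : Γ(Coh.structureModule X, T') => tmul z (res L hT₀ e₀))
      (mul_one (idealSect I T' m)).symm
  have hmem : ∀ z, φ z ∈ I.ideal T := fun z => by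
    obtain ⟨m, hm⟩ := (tmul_gen_bijective (he₀.restrict hT₀) (ClSub.idealMod I) (le_refl T')).2 z
    simp only [res_self] at hm
    rw [← hm, htm]
    exact IdealSh.IdealMod.sect_mem I T m
  let C : Set Γ(X, T') := Set.range fun σ : Γ(CohB1.tensorMod (ClSub.idealMod I) L, ⊤) => φ (res _ le_top σ)
  have hle : I.ideal T ≤ Ideal.span C := by
    rw [← I.map_ideal (U := T) (V := T₀) hT₀, ← hG, Ideal.submodule_span_eq, Ideal.map_span]
    refine Ideal.span_le.mpr ?_
    rintro _ ⟨a, ha, rfl⟩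
    have h1 : ∀ (W' : X.Opens) (h : T' ≤ W') (w : Γ(CohB1.tensorMod (ClSub.idealMod I) L, W')),
        w ∈ Submodule.span Γ(X, W') (Set.range fun σ : Γ(CohB1.tensorMod (ClSub.idealMod I) L, ⊤) => res _ le_top σ) →
        φ (res _ h w) ∈ Ideal.span C := fun W' h w hw => by
      induction hw using Submodule.span_induction with
      | mem z hz =>
        obtain ⟨σ, rfl⟩ := hz
        refine Ideal.subset_span ⟨σ, ?_⟩
        exact congrArg φ (QCoh.res_res _ le_top h σ).symm
      | zero => rw [map_zero, map_zero]; exact zero_mem _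
      | add a b _ _ ha hb => rw [map_add, map_add]; exact add_mem ha hb
      | smul r a _ ha => rw [res_smul, map_smul]; exact Ideal.mul_mem_left _ _ ha
    have h2 := h1 (W ⟨a, ha⟩) (hTW _) _ (hspan ⟨a, ha⟩)
    rw [QCoh.res_res, res_tmul, htm, ← res_idealSect, hf] at h2
    exact h2
  have heq : Ideal.span C = I.ideal T := le_antisymm (Ideal.span_le.mpr (by
    rintro _ ⟨σ, rfl⟩; exact hmem _)) hle
  have := IsLocallyNoetherian.component_noetherian T
  obtain ⟨C', hC', hC'f⟩ := Submodule.fg_span_iff_fg_span_finset_subset C |>.mp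
    (IsNoetherian.noetherian (Ideal.span C))
  choose σ hσ using fun a : C' => hC' a.2
  refine ⟨T, e, Finset.univ.image σ, hxT, he, fun τ => ⟨φ (res _ le_top τ), hmem _, ?_, ?_⟩⟩
  · rw [hev, app_res]
  · refine hle.trans ?_
    rw [Ideal.span, hC'f, Submodule.span_le]
    intro b hb
    refine Ideal.subset_span ⟨σ ⟨b, hb⟩, Finset.mem_image.mpr ⟨⟨b, hb⟩, Finset.mem_univ _, rfl⟩, ?_⟩
    refine Eq.trans ?_ (congrArg (fun c : Γ(X, T') => c • e) (hσ ⟨b, hb⟩))
    rw [hev, app_res]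

variable {R : Type u} [CommRing R] [IsNoetherianRing R] (f : X ⟶ Spec (CommRingCat.of R)) [IsProper f]

include f in
/-- Uniform vanishing for the twisted powers of an ideal with `I ⊗ L` globally generated. -/
theorem exists_vanishing [IsNoetherian X] {A : X.Modules} (hA : CohB1.IsAmple A) (hL : PicF.IsInvertible L)
    (hgg : Curv2.IsGloballyGenerated (CohB1.tensorMod (ClSub.idealMod I) L)) :
    ∃ e : ℕ, ∀ j, e ≤ j → ∀ p i, 1 ≤ i → Subsingleton (Coh.HH X (CohB1.tensorMod
      (M I (CohB1.tensorMod (Coh.structureModule X) L) p) (CohB1.tensorPow A j)) i) := by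
  classical
  choose T e s hxT he hs using exists_local_span hL hgg
  obtain ⟨Z, hZ⟩ := isCompact_univ.elim_finite_subcover (fun x => ((T x).1 : Set X)) (fun x => (T x).1.2)
    fun x _ => Set.mem_iUnion.mpr ⟨x, hxT x⟩
  let sA := Z.biUnion s
  let g : Fin sA.card → Γ(CohB1.tensorMod (Coh.structureModule X) L, ⊤) := fun l =>
    (incl₁ I L).app ⊤ (sA.equivFin.symm l).1
  let z : Fin Z.card → X := fun k => (Z.equivFin.symm k).1
  let U : Fin Z.card → X.Opens := fun k => (T (z k)).1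
  choose c hcm hce hle using fun (l : Fin sA.card) k => hs (z k) (sA.equivFin.symm l).1
  have hcov : ∀ x : X, ∃ k, x ∈ U k := fun x => by
    obtain ⟨y, hy, hxy⟩ := Set.mem_iUnion₂.mp (hZ (Set.mem_univ x))
    exact ⟨Z.equivFin ⟨y, hy⟩, by simpa [U, z] using hxy⟩
  obtain ⟨S, hS⟩ := exists_sys (I := I) (isInvertible_tensorMod (LFFrame.isInvertible_structureModule X) hL) g
    (fun k => (T (z k)).2) hcov (fun k => e (z k)) (fun k => he (z k)) c hce fun k => by
      refine le_antisymm (Ideal.span_le.mpr ?_) ?_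
      · rintro _ ⟨l, rfl⟩
        exact hcm l k
      obtain ⟨-, -, -, h0⟩ := hs (z k) 0
      refine h0.trans (Ideal.span_le.mpr ?_)
      rintro b ⟨τ, hτ, hb⟩
      have hτA : τ ∈ sA := Finset.mem_biUnion.mpr ⟨z k, (Z.equivFin.symm k).2, hτ⟩
      refine Ideal.subset_span ⟨sA.equivFin ⟨τ, hτA⟩, ?_⟩
      have h1 := (hce (sA.equivFin ⟨τ, hτA⟩) k)
      simp only [g, Equiv.symm_apply_apply] at h1
      have h2 := (he (z k) _ le_rfl).1
      refine h2 ?_
      simp only [sm, res_self]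
      exact h1.symm.trans hb
  obtain ⟨N₀, hN⟩ := TSystem.exists_uniform_vanishing (fun k => (T (z k)).2) f hcov hA _ S
  exact ⟨N₀, fun j hj p i hi => hS ▸ hN j hj p i hi⟩

end Groth.Agent.BigVol.PowReg

end
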