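import Groth.Agent.AmpCrit.NegVan
import Groth.Agent.ProjMorph.Ample
import Groth.Agent.ZClosLib.CohDescent
import Groth.Agent.QCoh.Pullback
import Groth.Agent.KFlat.PullTensor
import Groth.Agent.S14172
import Groth.Agent.ChgRings.Basic
import Groth.Agent.AmpleLib.CompLemma
import Groth.Agent.EulerChar.Basic
import Groth.Prelude.Def_Pic13

/-!
Members of a bounded family are uniformly quotients of sums of a negative twist.
-/

set_option autoImplicit false
set_option linter.style.haveILetI false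

open CategoryTheory CategoryTheory.Limits AlgebraicGeometry TopologicalSpace

universe u v

noncomputable section

namespace Groth.Agent.BigVol.BddGen

open Groth.Agent.ProjTwist

/-- Jointly epimorphic finite families of morphisms out of one object. -/
def JointEpi {C : Type*} [Category C] {A B : C} {N : ℕ} (σ : Fin N → (A ⟶ B)) : Prop :=
  ∀ (Z : C) (a b : B ⟶ Z), (∀ j, σ j ≫ a = σ j ≫ b) → a = b

theorem JointEpi.map {C D : Type*} [Category C] [Category D] (F : C ⥤ D) [F.IsLeftAdjoint] {A B : C}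
    {N : ℕ} {σ : Fin N → (A ⟶ B)} (h : JointEpi σ) : JointEpi fun j => F.map (σ j) := by
  intro Z a b hab
  let adj := Adjunction.ofIsLeftAdjoint F
  refine (adj.homEquiv B Z).injective (h _ _ _ fun j => ?_)
  rw [← adj.homEquiv_naturality_left, ← adj.homEquiv_naturality_left, hab j]

theorem JointEpi.iso {C : Type*} [Category C] {A A' B B' : C} {N : ℕ} {σ : Fin N → (A ⟶ B)}
    (h : JointEpi σ) (eA : A' ≅ A) (eB : B ≅ B') : JointEpi fun j => eA.hom ≫ σ j ≫ eB.hom := by
  intro Z a b hab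
  refine (cancel_epi eB.hom).1 (h _ _ _ fun j => (cancel_epi eA.hom).1 ?_)
  simpa using hab j

variable {X : Scheme.{u}}

theorem exists_jointEpi : ∀ (r : ℕ) {G : X.Modules} (ψ : Props.AffineCrit.pr X r ⟶ G), Epi ψ →
    ∃ σ : Fin (r + 1) → (Coh.structureModule X ⟶ G), ∀ (Z : X.Modules) (a b : G ⟶ Z),
      (∀ j, σ j ≫ a = σ j ≫ b) → a = b
  | 0, G, ψ, hψ => ⟨fun _ => ψ, fun Z a b hab => (cancel_epi ψ).1 (hab 0)⟩
  | r + 1, G, ψ, hψ => by
    let l : Props.AffineCrit.pr X r ⟶ G :=
      (biprod.inl : Props.AffineCrit.pr X r ⟶ Props.AffineCrit.pr X r ⊞ Coh.structureModule X) ≫ ψ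
    have key : ∀ r {G : X.Modules} (l : Props.AffineCrit.pr X r ⟶ G),
        ∃ σ : Fin (r + 1) → (Coh.structureModule X ⟶ G),
          ∀ (Z : X.Modules) (a b : G ⟶ Z), (∀ j, σ j ≫ a = σ j ≫ b) → l ≫ a = l ≫ b := by
      intro r
      induction r with
      | zero => exact fun l => ⟨fun _ => l, fun Z a b hab => hab 0⟩
      | succ r ih =>
        intro G l
        let o : Coh.structureModule X ⟶ G :=
          (biprod.inr : Coh.structureModule X ⟶ Props.AffineCrit.pr X r ⊞ Coh.structureModule X) ≫ l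
        obtain ⟨σ, hσ⟩ := ih ((biprod.inl : Props.AffineCrit.pr X r ⟶
          Props.AffineCrit.pr X r ⊞ Coh.structureModule X) ≫ l)
        refine ⟨Fin.snoc σ o, fun Z a b hab => biprod.hom_ext' _ _ ?_ ?_⟩
        · exact (Category.assoc _ _ _).symm.trans ((hσ Z a b fun j => by
            simpa using hab j.castSucc).trans (Category.assoc _ _ _))
        · have := hab (Fin.last _)
          rw [Fin.snoc_last] at this
          exact (Category.assoc _ _ _).symm.trans (this.trans (Category.assoc _ _ _))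
    obtain ⟨σ, hσ⟩ := key (r + 1) ψ
    exact ⟨σ, fun Z a b hab => (cancel_epi ψ).1 (hσ Z a b hab)⟩

/-- A twisted generation gives an epimorphism from a sum of a negative twist. -/
theorem exists_sum_epi {N : ℕ} {A F : X.Modules} {σ : Fin N → (A ⟶ F)} (h : JointEpi σ)
    [HasCoproduct fun _ : Fin N => A] : ∃ p : (∐ fun _ : Fin N => A) ⟶ F, Epi p :=
  ⟨Limits.Sigma.desc σ, ⟨fun a b hab => h _ a b fun j => by
    rw [← Limits.Sigma.ι_desc σ j, Category.assoc, Category.assoc, hab]⟩⟩

variable {k : Type u} [Field k] {n : ℕ} [X.Over (Spec (CommRingCat.of k))]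
  (i : X ⟶ CohB1.ProjSpace n k) [IsClosedImmersion i]

theorem main (hi : i ≫ CohB1.ProjSpace.toSpec n k = X ↘ Spec (CommRingCat.of k))
    {P : X.Modules → Prop} (hb : Pic13.IsBounded k X P) :
    ∃ (m : ℤ) (N : ℕ), ∀ L, P L →
      ∃ p : (∐ fun _ : Fin N => Pic13.twistOn k i (Coh.structureModule X) (-m)) ⟶ L, Epi p := by
  obtain ⟨T, q, hq, hqc, F, hF, hfam⟩ := hb
  haveI := ProjProper.Basic.isProper_toSpec n k
  haveI : IsProper (X ↘ Spec (CommRingCat.of k)) := by rw [← hi]; infer_instance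
  haveI : CompactSpace T := QuasiCompact.compactSpace_of_compactSpace q
  haveI : IsLocallyNoetherian T := LocallyOfFiniteType.isLocallyNoetherian q
  let 𝒰 := T.affineCover.finiteSubcover
  let U := fun j : 𝒰.I₀ => 𝒰.X j
  haveI : Finite 𝒰.I₀ := inferInstance
  let T' := ∐ U
  haveI : IsAffine T' := inferInstance
  let ρ : T' ⟶ T := Limits.Sigma.desc 𝒰.f
  haveI : LocallyOfFiniteType ρ := IsZariskiLocalAtSource.sigmaDesc fun j => inferInstance
  haveI : IsLocallyNoetherian T' := LocallyOfFiniteType.isLocallyNoetherian ρ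
  let q' := ρ ≫ q
  let Y := Pic13.prodK k X q'
  let π : Y ⟶ Pic13.prodK k X q := pullback.lift (pullback.fst _ _) (pullback.snd _ _ ≫ ρ)
    (by rw [Category.assoc]; exact pullback.condition)
  haveI : IsAffineHom q' := inferInstance
  let j : Y ⟶ CohB1.ProjSpace n k := pullback.fst (X ↘ Spec (CommRingCat.of k)) q' ≫ i
  haveI : IsAffineHom (pullback.fst (X ↘ Spec (CommRingCat.of k)) q') :=
    MorphismProperty.pullback_fst (P := @IsAffineHom) _ _ ‹_›
  haveI : IsAffineHom j := MorphismProperty.comp_mem _ _ _ ‹_› inferInstance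
  have hL' : CohB1.IsAmple ((Scheme.Modules.pullback j).obj (Twist.twistProjSpace n k 1)) :=
    ProjMorph.isAmple_pullback_twist_of_isAffineHom j ‹_›
  haveI : IsLocallyNoetherian Y := LocallyOfFiniteType.isLocallyNoetherian (pullback.snd (X ↘ Spec (CommRingCat.of k)) q')
  haveI : CompactSpace Y := hL'.2.1
  haveI : QuasiSeparatedSpace Y := inferInstance
  let F' := (Scheme.Modules.pullback π).obj F
  have hF' : Coh.IsCoh F' := ZClosLib.CohDescent.isCoh_pullback π F hF
  obtain ⟨m, -, r, ψ, hψ⟩ := AmpCrit.NegVan.exists_epi_pr_twist hL' hF'.1 hF'.2 0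
  obtain ⟨σ, hσ⟩ := exists_jointEpi r ψ hψ
  refine ⟨m, r + 1, fun L hL => ?_⟩
  obtain ⟨t, ht, ⟨eL⟩⟩ := hfam L hL
  obtain ⟨z⟩ : Nonempty ↥(Spec (CommRingCat.of k)) := inferInstance
  obtain ⟨c, y, hy⟩ := 𝒰.exists_eq (t z)
  have hr : Set.range t ⊆ Set.range (𝒰.f c) := by
    rintro _ ⟨z', rfl⟩
    exact ⟨y, hy.trans (congrArg t (Subsingleton.elim (α := ↥(Spec (CommRingCat.of k))) z z'))⟩
  let t' : Spec (CommRingCat.of k) ⟶ T' := IsOpenImmersion.lift (𝒰.f c) t hr ≫ Limits.Sigma.ι U c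
  have ht' : t' ≫ ρ = t := by
    rw [Category.assoc, Limits.Sigma.ι_desc, IsOpenImmersion.lift_fac]
  have ht'q : t' ≫ q' = 𝟙 _ := by rw [← Category.assoc, ht', ht]
  let s := Pic13.sliceAt k X q' t' ht'q
  have hs₁ : s ≫ pullback.fst (X ↘ Spec (CommRingCat.of k)) q' = 𝟙 X := pullback.lift_fst _ _ _
  have hs₂ : s ≫ pullback.snd (X ↘ Spec (CommRingCat.of k)) q' = (X ↘ Spec (CommRingCat.of k)) ≫ t' :=
    pullback.lift_snd _ _ _
  have hsπ : s ≫ π = Pic13.sliceAt k X q t ht := by
    refine pullback.hom_ext ?_ ?_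
    · rw [Category.assoc, pullback.lift_fst, hs₁, Pic13.sliceAt, pullback.lift_fst]
    · rw [Category.assoc, pullback.lift_snd, reassoc_of% hs₂, ht', Pic13.sliceAt, pullback.lift_snd]
  have hsj : s ≫ j = i := by rw [← Category.assoc, hs₁, Category.id_comp]
  have h1 := JointEpi.map (Scheme.Modules.pullback s) hσ
  let hO := isInvertible_twistProjSpace n k 1
  let eM : (Scheme.Modules.pullback s).obj
      (CohB1.tensorMod F' (CohB1.tensorPow ((Scheme.Modules.pullback j).obj (Twist.twistProjSpace n k 1)) m)) ≅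
      CohB1.tensorMod L ((Scheme.Modules.pullback i).obj (Twist.twistProjSpace n k (m : ℤ))) :=
    KFlat.PullTensor.pullTensorIso s _ _ ≪≫
      tensCongr ((Scheme.Modules.pullbackComp s π).app F ≪≫ (Scheme.Modules.pullbackCongr hsπ).app F ≪≫ eL)
        ((AmpleLib.exists_iso_pullback_tensorPow s (PicCl.isInvertible_pullback j hO) m).some ≪≫
          AmpleLib.tensorPowIso ((Scheme.Modules.pullbackComp s j).app _ ≪≫
            (Scheme.Modules.pullbackCongr hsj).app _) m ≪≫
          (AmpleLib.exists_iso_pullback_tensorPow i hO m).some.symm ≪≫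
          (Scheme.Modules.pullback i).mapIso ((S14172.nonempty_pow_twist k n 1 m).some ≪≫
            eqToIso (by rw [one_mul])))
  have h2 := h1.iso (QCoh.pullbackUnitIso s).symm eM
  let D := (Scheme.Modules.pullback i).obj (Twist.twistProjSpace n k (-(m : ℤ)))
  let TD : X.Modules ⥤ X.Modules := (ModSite.tensorBi X.sheaf).flip.obj D
  haveI : TD.IsLeftAdjoint := KFlat.hasSheafHom X.sheaf D
  let eD : CohB1.tensorMod (CohB1.tensorMod L ((Scheme.Modules.pullback i).obj (Twist.twistProjSpace n k (m : ℤ)))) D ≅ L :=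
    tensAssoc _ _ _ ≪≫ tensCongr (Iso.refl L) ((KFlat.PullTensor.pullTensorIso i _ _).symm ≪≫
      (Scheme.Modules.pullback i).mapIso ((nonempty_twistProjSpace_tensor n k (m : ℤ) (-(m : ℤ))).some ≪≫
        eqToIso ((congrArg (Twist.twistProjSpace n k) (add_neg_cancel (m : ℤ)))) ≪≫ (twistZeroIso (CohB1.polyGrading n k)).symm) ≪≫
      QCoh.pullbackUnitIso i) ≪≫ tensOne L
  exact exists_sum_epi ((h2.map TD).iso (Iso.refl _) eD)

end Groth.Agent.BigVol.BddGen
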