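import Groth.Agent.BigVol.Basic
import Groth.Agent.AmpleLib.GlobGen
import Groth.Agent.AmpleLib.Tensor
import Groth.Agent.DimOneAmple.AmpleOfGG

/-!
Growth of all cohomology groups `Hⁱ(X, F ⊗ L^m)` on a projective scheme over a field: they are
`O(m^d)` for `dim Supp F ≤ d`, and consecutive ones differ by `O(m^(d-1))`.
-/

set_option autoImplicit false
set_option linter.style.haveILetI false

open CategoryTheory CategoryTheory.Limits AlgebraicGeometry TopologicalSpace
open Groth.Agent.ProjTwist Groth.Agent.Props.GenLocus Groth.Agent.AmpleLib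
open Groth.Agent.Props.GenTensor
open Groth.Agent.PullStalk.Sky Groth.Agent.PullStalk.Exact

universe u

noncomputable section

namespace Groth.Agent.BigVol.CohBound

variable {X : Scheme.{u}}

/-- `(m + 1)^(d - 1)`, and `0` for `d = 0`. -/
def g : ℕ → ℕ → ℕ
  | 0, _ => 0
  | d + 1, m => (m + 1) ^ d

theorem g_step : ∀ d m : ℕ, g (d + 1) m + g d m ≤ g (d + 1) (m + 1)
  | 0, m => by simp [g]
  | e + 1, m => by
    have h1 : (m + 1) ^ e ≤ (m + 1 + 1) ^ e := Nat.pow_le_pow_left (Nat.le_succ _) e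
    calc g (e + 1 + 1) m + g (e + 1) m = (m + 1) ^ e * (m + 1 + 1) := by simp only [g]; ring
      _ ≤ (m + 1 + 1) ^ e * (m + 1 + 1) := Nat.mul_le_mul_right _ h1
      _ = g (e + 1 + 1) (m + 1) := (pow_succ _ _).symm

theorem g_shift : ∀ d m : ℕ, g d (m + 1) ≤ 2 ^ d * g d m
  | 0, m => by simp [g]
  | e + 1, m => by
    show (m + 1 + 1) ^ e ≤ 2 ^ (e + 1) * (m + 1) ^ e
    calc (m + 1 + 1) ^ e ≤ (2 * (m + 1)) ^ e := Nat.pow_le_pow_left (by omega) e
      _ = 2 ^ e * (m + 1) ^ e := mul_pow _ _ _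
      _ ≤ _ := Nat.mul_le_mul_right _ (Nat.pow_le_pow_right (by norm_num) (Nat.le_succ e))

theorem g_mul : ∀ d m : ℕ, (m + 1) * g d m ≤ (m + 1) ^ d
  | 0, m => by simp [g]
  | e + 1, m => by simp [g, pow_succ, mul_comm]

section sections

theorem sec_add {M : X.Modules} (s t : Coh.structureModule X ⟶ M) (U : X.Opens) :
    sec (s + t) U = sec s U + sec t U := rfl

/-- Adding a section vanishing at a point does not change generation there. -/
theorem mem_locus_add {M : X.Modules} (hM : PicF.IsInvertible M) (σ τ : Γ(M, ⊤)) {x : X}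
    (hσ : x ∉ locus σ) (hτ : x ∈ locus τ) : x ∈ locus (σ + τ) := by
  let e : M ≅ CohB1.tensorPow M 1 := (ProjTwist.oneTens M).symm
  have key : ∀ ρ : Γ(M, ⊤), CohB1.genLocus _ (homOfSec ρ ≫ e.hom) = locus ρ := fun ρ => by
    rw [genLocus_comp_iso, genLocus_homOfSec]
  have h := Props.AmpleQA.mem_genLocus_add hM (homOfSec σ ≫ e.hom) (homOfSec τ ≫ e.hom) (x := x)
    (by rw [key]; exact hσ) (by rw [key]; exact hτ)
  rw [← Preadditive.add_comp, genLocus_comp_iso, genLocus_eq_locus, sec_add, sec_homOfSec,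
    sec_homOfSec, QCoh.res_self, QCoh.res_self] at h
  exact h

/-- For all large `N` some section of `B ⊗ A^N` generates at finitely many given points. -/
theorem exists_section_twist [IsLocallyNoetherian X] {A B : X.Modules} (hA : CohB1.IsAmple A)
    (hB : PicF.IsInvertible B) (hBc : Coh.IsCoh B) (E : Finset X) :
    ∃ N₀ : ℕ, ∀ N, N₀ ≤ N →
      ∃ σ : Γ(CohB1.tensorMod B (CohB1.tensorPow A N), ⊤), (E : Set X) ⊆ locus σ := by
  classical
  induction hn : E.card using Nat.strong_induction_on generalizing E with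
  | _ n ih =>
    rcases E.eq_empty_or_nonempty with rfl | hne
    · exact ⟨0, fun N _ => ⟨0, by simp⟩⟩
    obtain ⟨z, hz, hmax⟩ := GalCohAux.AmpleFinite.exists_notMem_closure hne
    let O : X.Opens := ⟨(⋃ y ∈ (E.erase z : Set X), closure {y})ᶜ,
      ((E.erase z).finite_toSet.isClosed_biUnion fun y _ => isClosed_closure).isOpen_compl⟩
    have hzO : z ∈ O := by
      intro hc
      obtain ⟨y, hy, hzy⟩ := Set.mem_iUnion₂.mp hc
      exact Finset.ne_of_mem_erase hy (hmax y (Finset.mem_of_mem_erase hy) hzy)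
    obtain ⟨m, t, hzt, htO, -⟩ := Props.AmpleBase.exists_affine_genLocus_le hA hzO
    rw [genLocus_eq_locus] at hzt htO
    obtain ⟨n₀, hn₀⟩ := eventually_globallyGenerated hA hBc.1 hBc.2
    obtain ⟨N₁, hN₁⟩ := ih _ (hn ▸ Finset.card_erase_lt_of_mem hz) (E.erase z) rfl
    refine ⟨max N₁ (n₀ + (m + 1)), fun N hN => ?_⟩
    obtain ⟨s, hs⟩ := hN₁ N (le_of_max_le_left hN)
    by_cases hzs : z ∈ locus s
    · exact ⟨s, fun y hy => if h : y = z then h ▸ hzs else hs (Finset.mem_erase.mpr ⟨h, hy⟩)⟩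
    have hNm : N - (m + 1) + (m + 1) = N := by
      have := le_of_max_le_right hN
      omega
    have hBN := isInvertible_tensorMod hB (isInvertible_tensorPow hA.1 (N - (m + 1)))
    obtain ⟨σ, hσ⟩ := DimOneAmple.exists_genLocus_mem hBN
      (hn₀ (N - (m + 1)) (by have := le_of_max_le_right hN; omega)) z
    let e : CohB1.tensorMod (CohB1.tensorMod B (CohB1.tensorPow A (N - (m + 1))))
        (CohB1.tensorPow A (m + 1)) ≅ CohB1.tensorMod B (CohB1.tensorPow A N) :=
      tensAssoc _ _ _ ≪≫ tensCongr (Iso.refl B)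
        (AmpCrit.SerreVan.powAddIso A (N - (m + 1)) (m + 1) ≪≫ eqToIso (by rw [hNm]))
    let τ := e.hom.app ⊤ (tmul σ (sec t ⊤))
    have hτ : locus τ = locus σ ⊓ locus (sec t ⊤) :=
      (locus_app_iso e _).trans (locus_tmul hBN (isInvertible_tensorPow hA.1 _) σ _)
    have hBN' := isInvertible_tensorMod hB (isInvertible_tensorPow hA.1 N)
    refine ⟨s + τ, fun y hy => ?_⟩
    by_cases hyz : y = z
    · subst hyz
      exact mem_locus_add hBN' s τ hzs (hτ ▸ ⟨hσ, hzt⟩)
    · rw [add_comm]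
      refine mem_locus_add hBN' τ s (fun h => ?_) (hs (Finset.mem_erase.mpr ⟨hyz, hy⟩))
      rw [hτ] at h
      exact htO h.2 (Set.mem_iUnion₂.mpr ⟨y, Finset.mem_erase.mpr ⟨hyz, hy⟩, subset_closure rfl⟩)

/-- Multiplication by a section generating at the associated points is injective, and the support
of its cokernel drops in dimension. -/
theorem mulSec_drop [IsNoetherian X] {F P : X.Modules} (hP : PicF.IsInvertible P) (hF : Coh.IsCoh F)
    (s : Coh.structureModule X ⟶ P) (hs : (_root_.AssSch.Ass F : Set X) ⊆ CohB1.genLocus P s) :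
    Mono (HilbPolyX.mulSec F s) ∧ Coh.IsCoh (cokernel (HilbPolyX.mulSec F s)) ∧
      ∀ c : ℕ, topologicalKrullDim (CohB1.support F) < ((c + 1 : ℕ) : WithBot ℕ∞) →
        topologicalKrullDim (CohB1.support (cokernel (HilbPolyX.mulSec F s))) < (c : WithBot ℕ∞) := by
  have hB : Coh.IsCoh (CohDev.tens F P) := isCoh_tensor hP hF
  have hQ : Coh.IsCoh (cokernel (HilbPolyX.mulSec F s)) := CohDev.isCoh_cokernel _ hF.1 hB
  have hsupp : ∀ y ∈ CohB1.genLocus P s, y ∉ CohB1.support (cokernel (HilbPolyX.mulSec F s)) :=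
    fun y hy => CohDev.not_mem_support_cokernel _ (HilbPolyX.mulSec_bijective F s hy).2
  refine ⟨Pn.mono_of_injective_ass (HilbPolyX.mulSec F s) hF hB
    (fun z hz => (HilbPolyX.mulSec_bijective F s (hs hz)).1), hQ, fun c hc => ?_⟩
  have hsub : CohB1.support (cokernel (HilbPolyX.mulSec F s)) ⊆ CohB1.support F := fun y hy => by
    refine HilbPolyX.support_tensorMod_subset F P (fun hsub => hy ?_)
    have : Subsingleton ((CohDev.tens F P).presheaf.stalk y) := hsub
    exact (stalk_surjective (cokernel.π (HilbPolyX.mulSec F s)) y).subsingleton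
  have := hF.1
  refine Pn.dim_add_one_le_of_forall_specializes (CohDev.isClosed_support hF)
    (CohDev.isClosed_support hQ) (fun ξ hξ => ?_) hsub hc
  obtain ⟨z, hz, hzξ⟩ := AssSch.Basic.exists_mem_ass_specializes F
    (not_subsingleton_iff_nontrivial.mp (hsub hξ))
  exact ⟨z, not_subsingleton_iff_nontrivial.mpr (AssSch.Basic.nontrivial_of_mem_ass F hz),
    hsupp z (hs hz), hzξ⟩

end sections

variable (k : Type u) [Field k] [X.Over (Spec (CommRingCat.of k))]
  [IsProper (X ↘ Spec (CommRingCat.of k))]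

/-- `hⁱ(F)` -/
abbrev h (F : X.Modules) (i : ℕ) : ℕ := Module.finrank k (Coh.HH X F i)

/-- `hⁱ(F ⊗ L^m)` -/
abbrev hh (F L : X.Modules) (m i : ℕ) : ℕ := h k (CohB1.tensorMod F (CohB1.tensorPow L m)) i

/-- The three inequalities of the long exact sequence. -/
theorem h_triangle {S : ShortComplex X.Modules} (hS : S.ShortExact) (h₁ : Coh.IsCoh S.X₁)
    (h₂ : Coh.IsCoh S.X₂) (h₃ : Coh.IsCoh S.X₃) (i : ℕ) :
    h k S.X₂ i ≤ h k S.X₁ i + h k S.X₃ i ∧ h k S.X₁ i ≤ h k S.X₂ i + h k S.X₃ (i - 1) ∧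
      h k S.X₃ i ≤ h k S.X₂ i + h k S.X₁ (i + 1) := by
  have fin := fun j => And.intro (EulerChar.finite_HH k _ h₁ j)
    (And.intro (EulerChar.finite_HH k _ h₂ j) (EulerChar.finite_HH k _ h₃ j))
  have rl : ∀ {A B : Type u} [AddCommGroup A] [AddCommGroup B] [Module k A] [Module k B]
      [Module.Finite k A] [Module.Finite k B] (f : A →ₗ[k] B),
      Module.finrank k (LinearMap.range f) ≤ Module.finrank k A ∧
      Module.finrank k (LinearMap.range f) ≤ Module.finrank k B :=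
    fun f => ⟨LinearMap.finrank_range_le f, Submodule.finrank_le _⟩
  have := (fin i).1
  have := (fin i).2.1
  have := (fin i).2.2
  have := (fin (i + 1)).1
  have e1 := CurveCoh.finrank_exact₃ k _ _ (CurveCoh.exact_mapL k hS i)
  have e2 := CurveCoh.finrank_exact₃ k _ _ (CurveCoh.exact_mapL_deltaL k hS i (i + 1) rfl)
  have b1 := rl (CurveCoh.mapL k S.f i)
  have b2 := rl (CurveCoh.mapL k S.g i)
  have b3 := rl (CurveCoh.deltaL k hS i (i + 1) rfl)
  simp only [h]
  refine ⟨by omega, ?_, by omega⟩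
  rcases i with _ | j
  · have := LinearMap.finrank_range_of_inj (CurveCoh.injective_mapL_zero k hS)
    omega
  · have := (fin j).2.2
    have e3 := CurveCoh.finrank_exact₃ k _ _ (CurveCoh.exact_deltaL_mapL k hS j (j + 1) rfl)
    have b4 := rl (CurveCoh.deltaL k hS j (j + 1) rfl)
    show Module.finrank k (Coh.HH X S.X₁ (j + 1)) ≤
      Module.finrank k (Coh.HH X S.X₂ (j + 1)) + Module.finrank k (Coh.HH X S.X₃ j)
    omega

/-- The three inequalities after a twist. -/
theorem hh_triangle [IsNoetherian X] {S : ShortComplex X.Modules} (hS : S.ShortExact)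
    (h₁ : Coh.IsCoh S.X₁) (h₂ : Coh.IsCoh S.X₂) (h₃ : Coh.IsCoh S.X₃) {L : X.Modules}
    (hL : PicF.IsInvertible L) (m i : ℕ) :
    hh k S.X₂ L m i ≤ hh k S.X₁ L m i + hh k S.X₃ L m i ∧
      hh k S.X₁ L m i ≤ hh k S.X₂ L m i + hh k S.X₃ L m (i - 1) ∧
      hh k S.X₃ L m i ≤ hh k S.X₂ L m i + hh k S.X₁ L m (i + 1) :=
  h_triangle k (shortExact_tensor (isInvertible_tensorPow hL m) hS)
    (isCoh_tensor (isInvertible_tensorPow hL m) h₁) (isCoh_tensor (isInvertible_tensorPow hL m) h₂)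
    (isCoh_tensor (isInvertible_tensorPow hL m) h₃) i

omit [X.Over (Spec (CommRingCat.of k))] [IsProper (X ↘ Spec (CommRingCat.of k))] in
theorem midIso {L Q P : X.Modules} (hL : PicF.IsInvertible L) (hQ : PicF.IsInvertible Q)
    (hP : PicF.IsInvertible P) (eQ : CohB1.tensorMod L Q ≅ P) (F : X.Modules) {T : X.Modules}
    (hT : PicF.IsInvertible T) :
    Nonempty (CohB1.tensorMod (CohB1.tensorMod F Q) (CohB1.tensorMod T L) ≅
      CohB1.tensorMod (CohB1.tensorMod F P) T) :=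
  ⟨tensAssoc F Q _ ≪≫ tensCongr (Iso.refl F)
    ((PicLaw.tensor_comm hQ (isInvertible_tensorMod hT hL)).some ≪≫
      tensAssoc T L Q ≪≫ tensCongr (Iso.refl _) eQ ≪≫
      (PicLaw.tensor_comm hT hP).some) ≪≫ (tensAssoc F P _).symm⟩

/-- `L = P ⊗ Q⁻¹` with `P`, `Q` having sections generating at the associated points of `F`. -/
theorem exists_close_twist [IsNoetherian X] {A L : X.Modules} (hA : CohB1.IsAmple A)
    (hL : PicF.IsInvertible L) {F : X.Modules} (hF : Coh.IsCoh F) :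
    ∃ (FP FQ : X.Modules), Coh.IsCoh FP ∧ Coh.IsCoh FQ ∧
      (∀ d : ℕ, topologicalKrullDim (CohB1.support F) < ((d + 1 : ℕ) : WithBot ℕ∞) →
        topologicalKrullDim (CohB1.support FP) < (d : WithBot ℕ∞) ∧
          topologicalKrullDim (CohB1.support FQ) < (d : WithBot ℕ∞)) ∧
      ∀ (T : X.Modules), PicF.IsInvertible T → ∀ i : ℕ,
        h k (CohB1.tensorMod F (CohB1.tensorMod T L)) i ≤ h k (CohB1.tensorMod F T) i +
            h k (CohB1.tensorMod FP T) i + h k (CohB1.tensorMod FQ (CohB1.tensorMod T L)) (i - 1) ∧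
          h k (CohB1.tensorMod F T) i ≤ h k (CohB1.tensorMod F (CohB1.tensorMod T L)) i +
            h k (CohB1.tensorMod FQ (CohB1.tensorMod T L)) i + h k (CohB1.tensorMod FP T) (i - 1) := by
  classical
  haveI : CompactSpace X := EulerChar.compactSpace k
  have hO := LFFrame.isInvertible_structureModule X
  obtain ⟨N₁, h₁⟩ := exists_section_twist hA hL
    (CohDev.isCoh_of_iso (tensOne L) (isCoh_tensor hO
      (CohDev.isCoh_of_iso (structure_tensor hL).some (isCoh_tensor hL (ProperFin.isCoh_structureModule X)))))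
    (S19801.finite_ass hF).toFinset
  obtain ⟨N₂, h₂⟩ := exists_section_twist hA hO (ProperFin.isCoh_structureModule X)
    (S19801.finite_ass hF).toFinset
  obtain ⟨σP, hσP⟩ := h₁ (max N₁ N₂) (le_max_left _ _)
  obtain ⟨σQ, hσQ⟩ := h₂ (max N₁ N₂) (le_max_right _ _)
  let P := CohB1.tensorMod L (CohB1.tensorPow A (max N₁ N₂))
  let Q := CohB1.tensorMod (Coh.structureModule X) (CohB1.tensorPow A (max N₁ N₂))
  have hAN := isInvertible_tensorPow hA.1 (max N₁ N₂)
  have hP : PicF.IsInvertible P := isInvertible_tensorMod hL hAN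
  have hQ : PicF.IsInvertible Q := isInvertible_tensorMod hO hAN
  let eQ : CohB1.tensorMod L Q ≅ P := tensCongr (Iso.refl L) (structure_tensor hAN).some
  obtain ⟨mP, cP, dP⟩ := mulSec_drop hP hF (homOfSec σP) (by
    rw [genLocus_homOfSec]
    exact fun x hx => hσP ((S19801.finite_ass hF).mem_toFinset.mpr hx))
  obtain ⟨mQ, cQ, dQ⟩ := mulSec_drop hQ hF (homOfSec σQ) (by
    rw [genLocus_homOfSec]
    exact fun x hx => hσQ ((S19801.finite_ass hF).mem_toFinset.mpr hx))
  refine ⟨_, _, cP, cQ, fun d hd => ⟨dP d hd, dQ d hd⟩, fun T hT i => ?_⟩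
  have sP : (ShortComplex.mk _ _ (cokernel.condition (HilbPolyX.mulSec F (homOfSec σP)))).ShortExact :=
    ShortComplex.ShortExact.mk' (ShortComplex.exact_cokernel _) mP
      (inferInstanceAs (Epi (cokernel.π (HilbPolyX.mulSec F (homOfSec σP)))))
  have sQ : (ShortComplex.mk _ _ (cokernel.condition (HilbPolyX.mulSec F (homOfSec σQ)))).ShortExact :=
    ShortComplex.ShortExact.mk' (ShortComplex.exact_cokernel _) mQ
      (inferInstanceAs (Epi (cokernel.π (HilbPolyX.mulSec F (homOfSec σQ)))))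
  have hTL := isInvertible_tensorMod hT hL
  have tP := h_triangle k (shortExact_tensor hT sP) (isCoh_tensor hT hF)
    (isCoh_tensor hT (isCoh_tensor hP hF)) (isCoh_tensor hT cP) i
  have tQ := h_triangle k (shortExact_tensor hTL sQ) (isCoh_tensor hTL hF)
    (isCoh_tensor hTL (isCoh_tensor hQ hF)) (isCoh_tensor hTL cQ) i
  have hmid : h k (CohB1.tensorMod (CohB1.tensorMod F Q) (CohB1.tensorMod T L)) i =
      h k (CohB1.tensorMod (CohB1.tensorMod F P) T) i :=
    Pn.finrank_hh_iso (k := k) (midIso hL hQ hP eQ F hT).some i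
  have p1 : h k (CohB1.tensorMod (CohB1.tensorMod F P) T) i ≤
      h k (CohB1.tensorMod F T) i + h k (CohB1.tensorMod (cokernel (HilbPolyX.mulSec F (homOfSec σP))) T) i := tP.1
  have p2 : h k (CohB1.tensorMod F T) i ≤ h k (CohB1.tensorMod (CohB1.tensorMod F P) T) i +
      h k (CohB1.tensorMod (cokernel (HilbPolyX.mulSec F (homOfSec σP))) T) (i - 1) := tP.2.1
  have q1 : h k (CohB1.tensorMod (CohB1.tensorMod F Q) (CohB1.tensorMod T L)) i ≤
      h k (CohB1.tensorMod F (CohB1.tensorMod T L)) i + h k (CohB1.tensorMod (cokernel (HilbPolyX.mulSec F (homOfSec σQ))) (CohB1.tensorMod T L)) i := tQ.1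
  have q2 : h k (CohB1.tensorMod F (CohB1.tensorMod T L)) i ≤ h k (CohB1.tensorMod (CohB1.tensorMod F Q) (CohB1.tensorMod T L)) i +
      h k (CohB1.tensorMod (cokernel (HilbPolyX.mulSec F (homOfSec σQ))) (CohB1.tensorMod T L)) (i - 1) := tQ.2.1
  generalize h k (CohB1.tensorMod (CohB1.tensorMod F Q) (CohB1.tensorMod T L)) i = a at *
  generalize h k (CohB1.tensorMod (CohB1.tensorMod F P) T) i = b at *
  constructor <;> omega

theorem exists_close [IsNoetherian X] {A L : X.Modules} (hA : CohB1.IsAmple A)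
    (hL : PicF.IsInvertible L) {F : X.Modules} (hF : Coh.IsCoh F) :
    ∃ (FP FQ : X.Modules), Coh.IsCoh FP ∧ Coh.IsCoh FQ ∧
      (∀ d : ℕ, topologicalKrullDim (CohB1.support F) < ((d + 1 : ℕ) : WithBot ℕ∞) →
        topologicalKrullDim (CohB1.support FP) < (d : WithBot ℕ∞) ∧
          topologicalKrullDim (CohB1.support FQ) < (d : WithBot ℕ∞)) ∧
      ∀ m i : ℕ,
        hh k F L (m + 1) i ≤ hh k F L m i + hh k FP L m i + hh k FQ L (m + 1) (i - 1) ∧
          hh k F L m i ≤ hh k F L (m + 1) i + hh k FQ L (m + 1) i + hh k FP L m (i - 1) := by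
  obtain ⟨FP, FQ, cP, cQ, hd, hs⟩ := exists_close_twist k hA hL hF
  exact ⟨FP, FQ, cP, cQ, hd, fun m i => hs _ (isInvertible_tensorPow hL m) i⟩

omit [IsProper (X ↘ Spec (CommRingCat.of k))] in
theorem hh_eq_zero [IsNoetherian X] {F : X.Modules}
    (hd : topologicalKrullDim (CohB1.support F) < ((0 : ℕ) : WithBot ℕ∞)) (L : X.Modules) (m i : ℕ) :
    hh k F L m i = 0 := by
  have hz : IsZero F :=
    CohDev.isZero_of_support_eq_empty (EulerChar.support_eq_empty_of_dim_lt hd)
  have hz' : IsZero (CohB1.tensorMod F (CohB1.tensorPow L m)) :=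
    ((DCoh.tensorBi (X := X)).flip.obj (CohB1.tensorPow L m)).map_isZero hz
  have : Subsingleton (Coh.HH X (CohB1.tensorMod F (CohB1.tensorPow L m)) i) :=
    subsingleton_of_forall_eq 0 fun x => by
      have e : CurveCoh.mapL k (𝟙 (CohB1.tensorMod F (CohB1.tensorPow L m))) i x = x := by
        show Sheaf.H.map _ i x = x
        rw [CategoryTheory.Functor.map_id, Sheaf.H.map_id_apply]
      rw [← e, hz'.eq_of_src (𝟙 _) 0]
      show Sheaf.H.map _ i x = 0
      rw [Functor.map_zero]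
      exact (congrArg (fun e => Abelian.Ext.comp x e (add_zero i)) (Abelian.Ext.mk₀_zero _ _)).trans
        (Abelian.Ext.comp_zero ..)
  exact Module.finrank_zero_of_subsingleton

variable {A : X.Modules} (hA : CohB1.IsAmple A)

include hA in
/-- `hⁱ(F ⊗ L^m) = O(m^(d-1))` for `dim Supp F < d`. -/
theorem exists_hh_lt {L : X.Modules} (hL : PicF.IsInvertible L) : ∀ (d : ℕ) (F : X.Modules),
    Coh.IsCoh F → topologicalKrullDim (CohB1.support F) < (d : WithBot ℕ∞) →
    ∀ i : ℕ, ∃ C : ℕ, ∀ m : ℕ, hh k F L m i ≤ C * g d m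
  | 0, F, _, hd, i => by
    haveI := EulerChar.isNoetherian k (X := X)
    exact ⟨0, fun m => (hh_eq_zero k hd L m i).le.trans (Nat.zero_le _)⟩
  | d + 1, F, hF, hd, i => by
    haveI := EulerChar.isNoetherian k (X := X)
    obtain ⟨FP, FQ, cP, cQ, hdim, hstep⟩ := exists_close k hA hL hF
    obtain ⟨C₁, h₁⟩ := exists_hh_lt hL d FP cP (hdim d hd).1 i
    obtain ⟨C₂, h₂⟩ := exists_hh_lt hL d FQ cQ (hdim d hd).2 (i - 1)
    refine ⟨hh k F L 0 i + C₁ + C₂ * 2 ^ d, fun m => ?_⟩
    induction m with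
    | zero => simp only [g, one_pow, zero_add, mul_one]; omega
    | succ m ih =>
      have a := (hstep m i).1
      have b := Nat.mul_le_mul_left (hh k F L 0 i + C₁ + C₂ * 2 ^ d) (g_step d m)
      have c := (h₂ (m + 1)).trans (Nat.mul_le_mul_left C₂ (g_shift d m))
      have e := h₁ m
      rw [Nat.mul_add] at b
      nlinarith

include hA in
/-- `hⁱ(F ⊗ L^m) = O(m^d)` for `dim Supp F ≤ d`. -/
theorem exists_hh_le {L : X.Modules} (hL : PicF.IsInvertible L) {d : ℕ} {F : X.Modules}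
    (hF : Coh.IsCoh F) (hd : topologicalKrullDim (CohB1.support F) ≤ (d : WithBot ℕ∞)) (i : ℕ) :
    ∃ C : ℕ, ∀ m : ℕ, hh k F L m i ≤ C * (m + 1) ^ d :=
  exists_hh_lt k hA hL (d + 1) F hF (lt_of_le_of_lt hd (by exact_mod_cast Nat.lt_succ_self d)) i

include hA in
/-- Consecutive dimensions differ by `O(m^(d-1))` for `dim Supp F ≤ d`. -/
theorem exists_hh_succ_close {L : X.Modules} (hL : PicF.IsInvertible L) {d : ℕ} {F : X.Modules}
    (hF : Coh.IsCoh F) (hd : topologicalKrullDim (CohB1.support F) ≤ (d : WithBot ℕ∞)) (i : ℕ) :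
    ∃ C : ℕ, ∀ m : ℕ, hh k F L (m + 1) i ≤ hh k F L m i + C * g d m ∧
      hh k F L m i ≤ hh k F L (m + 1) i + C * g d m := by
  haveI := EulerChar.isNoetherian k (X := X)
  obtain ⟨FP, FQ, cP, cQ, hdim, hstep⟩ := exists_close k hA hL hF
  obtain ⟨dP, dQ⟩ := hdim d (lt_of_le_of_lt hd (by exact_mod_cast Nat.lt_succ_self d))
  obtain ⟨C₁, h₁⟩ := exists_hh_lt k hA hL d FP cP dP i
  obtain ⟨C₂, h₂⟩ := exists_hh_lt k hA hL d FQ cQ dQ (i - 1)
  obtain ⟨C₃, h₃⟩ := exists_hh_lt k hA hL d FP cP dP (i - 1)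
  obtain ⟨C₄, h₄⟩ := exists_hh_lt k hA hL d FQ cQ dQ i
  refine ⟨C₁ + C₂ * 2 ^ d + (C₃ + C₄ * 2 ^ d), fun m => ?_⟩
  obtain ⟨a, b⟩ := hstep m i
  have c := (h₂ (m + 1)).trans (Nat.mul_le_mul_left C₂ (g_shift d m))
  have c' := (h₄ (m + 1)).trans (Nat.mul_le_mul_left C₄ (g_shift d m))
  have e := h₁ m
  have e' := h₃ m
  constructor <;> nlinarith

end Groth.Agent.BigVol.CohBound
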