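import Groth.Agent.BigVol.SemiAmple
import Groth.Agent.EulerChar.FiniteMap
import Groth.Agent.FibBound.Basic
import Groth.Agent.S9332

/-!
The test number `χ(O_C ⊗ L) - χ(O_C)` along morphisms of proper schemes.
-/

set_option autoImplicit false
set_option linter.style.haveILetI false

open CategoryTheory CategoryTheory.Limits AlgebraicGeometry TopologicalSpace

universe u

namespace Groth.Agent.BigVol.CurvePull

/-- The generic point of an integral closed subscheme. -/
theorem isGenericPoint_subschemeι {X : Scheme.{u}} (C : X.IdealSheafData) [IsIntegral C.subscheme] :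
    IsGenericPoint (C.subschemeι (genericPoint C.subscheme)) (C.support : Set X) := by
  have h := (genericPoint_spec C.subscheme).image C.subschemeι.continuous
  rwa [Set.image_univ, C.range_subschemeι, C.support.isClosed.closure_eq] at h

/-- The reduced closure of a point is integral. -/
theorem exists_integral_closure {X : Scheme.{u}} (x : X) :
    ∃ C : X.IdealSheafData, IsIntegral C.subscheme ∧ (C.support : Set X) = closure {x} := by
  let W : Closeds X := ⟨closure {x}, isClosed_closure⟩
  let C := Scheme.IdealSheafData.vanishingIdeal W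
  have hr : Set.range C.subschemeι = closure {x} := RedSub.range_vanishingIdeal_subschemeι W
  haveI : IsReduced C.subscheme := RedSub.isReduced_vanishingIdeal W
  haveI : IrreducibleSpace C.subscheme := by
    have hi : IsIrreducible (Set.range C.subschemeι) := hr ▸ isIrreducible_singleton.closure
    haveI : IrreducibleSpace (Set.range C.subschemeι) := Subtype.irreducibleSpace hi
    exact C.subschemeι.isEmbedding.toHomeomorph.symm.surjective.irreducibleSpace (Homeomorph.continuous _)
  exact ⟨C, isIntegral_of_irreducibleSpace_of_isReduced _, C.range_subschemeι.symm.trans hr⟩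

variable (k : Type u) [Field k] {X X' : Scheme.{u}}
  [X.Over (Spec (CommRingCat.of k))] [IsProper (X ↘ (Spec (CommRingCat.of k)))]
  [X'.Over (Spec (CommRingCat.of k))] [IsProper (X' ↘ (Spec (CommRingCat.of k)))]
  (f : X' ⟶ X) (hf : f ≫ (X ↘ (Spec (CommRingCat.of k))) = X' ↘ (Spec (CommRingCat.of k)))
  {L : X.Modules} (hL : PicF.IsInvertible L)

omit [X.Over (Spec (CommRingCat.of k))] [IsProper (X ↘ (Spec (CommRingCat.of k)))] in
include hL in
/-- A contracted curve has test number zero against pullbacks. -/
theorem test_eq_zero (C' : X'.IdealSheafData) [IsIntegral C'.subscheme]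
    (hdim : topologicalKrullDim (C'.support : Set X') = 1) (y : X)
    (hy : ∀ x ∈ (C'.support : Set X'), f x = y) :
    Curv2.euler k X' (CohB1.tensorMod (ClSub.quotMod C') ((Scheme.Modules.pullback f).obj L)) -
      Curv2.euler k X' (ClSub.quotMod C') = 0 := by
  obtain ⟨t⟩ := SemiAmple.nonempty_pullback_iso_unit (C'.subschemeι ≫ f) y
    (fun z => hy _ (C'.range_subschemeι.le ⟨z, rfl⟩)) hL
  exact (SemiAmple.curve_facts k C' hdim (PicLoc.isInvertible_pullback f hL)).2.1
    ⟨(Scheme.Modules.pullbackComp _ f).app _ ≪≫ t⟩

include hf hL in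
/-- The projection formula for test numbers of curves. -/
theorem test_eq_mul (C : X.IdealSheafData) [IsIntegral C.subscheme]
    (C' : X'.IdealSheafData) [IsIntegral C'.subscheme]
    (hC : topologicalKrullDim (C.support : Set X) = 1)
    (hC' : topologicalKrullDim (C'.support : Set X') = 1)
    (hξ : f (C'.subschemeι (genericPoint C'.subscheme)) = C.subschemeι (genericPoint C.subscheme)) :
    ∃ d : ℕ, 0 < d ∧
      Curv2.euler k X' (CohB1.tensorMod (ClSub.quotMod C') ((Scheme.Modules.pullback f).obj L)) -
          Curv2.euler k X' (ClSub.quotMod C') =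
        d * (Curv2.euler k X (CohB1.tensorMod (ClSub.quotMod C) L) - Curv2.euler k X (ClSub.quotMod C)) := by
  have hr : Set.range (C'.subschemeι ≫ f) ⊆ Set.range C.subschemeι := by
    rintro _ ⟨z, rfl⟩
    rw [C.range_subschemeι, ← (isGenericPoint_subschemeι C).def, ← hξ]
    exact specializes_iff_mem_closure.mp
      ((genericPoint_specializes z).map (C'.subschemeι ≫ f).continuous)
  obtain ⟨g, hg⟩ := RedSub.exists_lift_closed C.subschemeι (C'.subschemeι ≫ f) hr
  letI : C.subscheme.Over (Spec (CommRingCat.of k)) := ⟨C.subschemeι ≫ (X ↘ Spec (CommRingCat.of k))⟩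
  letI : C'.subscheme.Over (Spec (CommRingCat.of k)) :=
    ⟨C'.subschemeι ≫ (X' ↘ Spec (CommRingCat.of k))⟩
  haveI : IsProper (C.subscheme ↘ Spec (CommRingCat.of k)) :=
    inferInstanceAs (IsProper (C.subschemeι ≫ (X ↘ Spec (CommRingCat.of k))))
  haveI : IsProper (C'.subscheme ↘ Spec (CommRingCat.of k)) :=
    inferInstanceAs (IsProper (C'.subschemeι ≫ (X' ↘ Spec (CommRingCat.of k))))
  have w : g ≫ (C.subscheme ↘ Spec (CommRingCat.of k)) = C'.subscheme ↘ Spec (CommRingCat.of k) := by
    show g ≫ C.subschemeι ≫ _ = C'.subschemeι ≫ _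
    rw [reassoc_of% hg, hf]
  have hdC : topologicalKrullDim C.subscheme = 1 := by
    rw [IsHomeomorph.topologicalKrullDim_eq _ C.subschemeι.isEmbedding.toHomeomorph.isHomeomorph,
      C.range_subschemeι]
    exact hC
  have hdC' : topologicalKrullDim C'.subscheme = 1 := by
    rw [IsHomeomorph.topologicalKrullDim_eq _ C'.subschemeι.isEmbedding.toHomeomorph.isHomeomorph,
      C'.range_subschemeι]
    exact hC'
  have hgξ : g (genericPoint C'.subscheme) = genericPoint C.subscheme := by
    refine C.subschemeι.isEmbedding.injective ?_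
    rw [← hξ, ← Scheme.Hom.comp_apply, hg, Scheme.Hom.comp_apply]
  haveI := EulerChar.isFinite_of_curves g w hdC' hdC hgξ
  refine ⟨g.residueDegree (genericPoint C'.subscheme), ?_, ?_⟩
  · have hfin := (S9332.result g (genericPoint C'.subscheme)).mp
      (g.quasiFiniteAt _).isClopen_singleton_asFiber.isClosed
    letI := (g.residueFieldMap (genericPoint C'.subscheme)).hom.toAlgebra
    haveI : Module.Finite (C.subscheme.residueField (g (genericPoint C'.subscheme)))
        (C'.subscheme.residueField (genericPoint C'.subscheme)) := hfin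
    exact Module.finrank_pos
  · rw [CurveTest.euler_sub_eq_deg k C' (PicLoc.isInvertible_pullback f hL),
      CurveTest.euler_sub_eq_deg k C hL]
    refine (EulerChar.deg_iso k ((Scheme.Modules.pullbackComp _ f).app L ≪≫
      (Scheme.Modules.pullbackCongr hg.symm).app L ≪≫
      ((Scheme.Modules.pullbackComp g C.subschemeι).app L).symm)).trans ?_
    exact EulerChar.deg_pullback g w hdC' hdC hgξ
      (ProjTwist.isFinLocFreeOfRank_one (PicLoc.isInvertible_pullback C.subschemeι hL))

include hf hL in
/-- Nef on the target gives nef on the source. -/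
theorem test_nonneg (hnef : ∀ C : X.IdealSheafData, IsIntegral C.subscheme →
      topologicalKrullDim (C.support : Set X) = 1 →
        0 ≤ Curv2.euler k X (CohB1.tensorMod (ClSub.quotMod C) L) - Curv2.euler k X (ClSub.quotMod C))
    (C' : X'.IdealSheafData) [IsIntegral C'.subscheme]
    (hdim : topologicalKrullDim (C'.support : Set X') = 1) :
    0 ≤ Curv2.euler k X' (CohB1.tensorMod (ClSub.quotMod C') ((Scheme.Modules.pullback f).obj L)) -
      Curv2.euler k X' (ClSub.quotMod C') := by
  haveI : LocallyOfFiniteType f := by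
    haveI : LocallyOfFiniteType (f ≫ (X ↘ Spec (CommRingCat.of k))) := hf ▸ inferInstance
    exact locallyOfFiniteType_of_comp f (X ↘ Spec (CommRingCat.of k))
  have hgen := isGenericPoint_subschemeι C'
  set z := C'.subschemeι (genericPoint C'.subscheme) with hz
  have hz1 : Order.height z = 1 := by
    have h := CycLib.topologicalKrullDim_closure X' z
    rw [hgen.def, hdim] at h
    exact_mod_cast h.symm
  obtain ⟨e, -, he⟩ := FibBound.dimPt_eq_add f k hf z
  have hz1' : VarDim.dimPt k X' z = 1 := by
    have := VarDim.height_eq_dimPt k z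
    rw [hz1] at this
    exact_mod_cast this.symm
  rcases Nat.eq_zero_or_pos (VarDim.dimPt k X (f z)) with h0 | hpos
  · refine (test_eq_zero k f hL C' hdim (f z) fun x hx => ?_).ge
    have hcl : IsClosed ({f z} : Set X) := VarDim.isClosed_singleton_of_isMin
      (Order.height_eq_zero.mp (by rw [VarDim.height_eq_dimPt k, h0]; rfl))
    have hs : f z ⤳ f x := (specializes_iff_mem_closure.mpr (hgen.def.ge hx)).map f.continuous
    exact hcl.closure_subset (specializes_iff_mem_closure.mp hs)
  · obtain ⟨C, hC, hsupp⟩ := exists_integral_closure (f z)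
    have hC1 : topologicalKrullDim (C.support : Set X) = 1 := by
      rw [hsupp, CycLib.topologicalKrullDim_closure, VarDim.height_eq_dimPt k,
        show VarDim.dimPt k X (f z) = 1 by omega]
      rfl
    have hξ : f z = C.subschemeι (genericPoint C.subscheme) :=
      (show IsGenericPoint (f z) (C.support : Set X) from hsupp.symm).eq (isGenericPoint_subschemeι C)
    obtain ⟨d, -, hd⟩ := test_eq_mul k f hf hL C C' hC1 hdim hξ
    rw [hd]
    exact mul_nonneg (Int.natCast_nonneg _) (hnef C hC hC1)

include hf hL in
/-- Nef on the source of a surjective morphism gives nef on the target. -/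
theorem test_nonneg_of_surjective [Surjective f] (hnef : ∀ C' : X'.IdealSheafData, IsIntegral C'.subscheme →
      topologicalKrullDim (C'.support : Set X') = 1 →
        0 ≤ Curv2.euler k X' (CohB1.tensorMod (ClSub.quotMod C') ((Scheme.Modules.pullback f).obj L)) -
          Curv2.euler k X' (ClSub.quotMod C'))
    (C : X.IdealSheafData) [IsIntegral C.subscheme] (hdim : topologicalKrullDim (C.support : Set X) = 1) :
    0 ≤ Curv2.euler k X (CohB1.tensorMod (ClSub.quotMod C) L) - Curv2.euler k X (ClSub.quotMod C) := by
  classical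
  haveI : LocallyOfFiniteType f := by
    haveI : LocallyOfFiniteType (f ≫ (X ↘ Spec (CommRingCat.of k))) := hf ▸ inferInstance
    exact locallyOfFiniteType_of_comp f (X ↘ Spec (CommRingCat.of k))
  have hgen := isGenericPoint_subschemeι C
  set y := C.subschemeι (genericPoint C.subscheme) with hy
  have hy1 : VarDim.dimPt k X y = 1 := by
    have h := CycLib.topologicalKrullDim_closure X y
    rw [hgen.def, hdim, VarDim.height_eq_dimPt k] at h
    exact_mod_cast h.symm
  have hex : ∃ n, ∃ z, f z = y ∧ VarDim.dimPt k X' z = n := by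
    obtain ⟨z, hz⟩ := f.surjective y
    exact ⟨_, z, hz, rfl⟩
  obtain ⟨z, hfz, hzn⟩ := Nat.find_spec hex
  obtain ⟨e, he, hadd⟩ := FibBound.dimPt_eq_add f k hf z
  have h0 : e = 0 := by
    have : Subsingleton {w : X' | f w = f z ∧ z ⤳ w} := by
      constructor
      suffices ∀ w, f w = f z → z ⤳ w → w = z from
        fun a b => Subtype.ext ((this a.1 a.2.1 a.2.2).trans (this b.1 b.2.1 b.2.2).symm)
      intro w hw hzw
      by_contra hne
      have hlt : w < z := lt_iff_le_not_ge.mpr ⟨hzw, fun h => hne (Specializes.antisymm h hzw).eq⟩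
      exact Nat.find_min hex (hzn ▸ VarDim.dimPt_lt_of_lt k hlt) ⟨w, hw.trans hfz, rfl⟩
    haveI : Nonempty {w : X' | f w = f z ∧ z ⤳ w} := ⟨⟨z, rfl, specializes_rfl⟩⟩
    rw [Order.krullDim_eq_zero] at he
    exact_mod_cast he.symm
  obtain ⟨C', hC', hsupp⟩ := exists_integral_closure z
  have hC1 : topologicalKrullDim (C'.support : Set X') = 1 := by
    rw [hsupp, CycLib.topologicalKrullDim_closure, VarDim.height_eq_dimPt k,
      show VarDim.dimPt k X' z = 1 by rw [hfz, hy1] at hadd; omega]
    rfl
  have hξ : f (C'.subschemeι (genericPoint C'.subscheme)) = y := by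
    rw [← (show IsGenericPoint z (C'.support : Set X') from hsupp.symm).eq (isGenericPoint_subschemeι C'),
      hfz]
  obtain ⟨d, hd0, hd⟩ := test_eq_mul k f hf hL C C' hdim hC1 hξ
  have h := hnef C' hC' hC1
  rw [hd] at h
  exact nonneg_of_mul_nonneg_right h (by exact_mod_cast hd0)

end Groth.Agent.BigVol.CurvePull
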