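import Groth.Agent.IntProd70.Nakai
import Groth.Agent.BigVol.CurveTest

/-!
Strictly nef modules with effective powers on every integral closed subscheme are ample.
-/

universe u

set_option autoImplicit false
set_option linter.style.haveILetI false

open CategoryTheory CategoryTheory.Limits AlgebraicGeometry TopologicalSpace Opposite

noncomputable section

namespace Groth.Agent.BigVol.EffAmple

open ProjTwist Snapper IntProd70

variable (k : Type u) [Field k]

/-- An integral proper scheme of dimension at least two with a section, where `L` is ample on all smaller pieces. -/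
theorem isAmple_of_section {X : Scheme.{u}} [IsIntegral X] [X.Over (Spec (CommRingCat.of k))]
    [IsProper (X ↘ Spec (CommRingCat.of k))] {L : X.Modules} (hL : PicF.IsInvertible L) {d : ℕ}
    (hd2 : 2 ≤ d) (hd : topologicalKrullDim X = (d : WithBot ℕ∞))
    {m : ℕ} (s : Coh.structureModule X ⟶ CohB1.tensorPow L (m + 1)) (hs : s ≠ 0)
    (hsub : ∀ x : X, x ≠ genericPoint X →
      CohB1.IsAmple ((Scheme.Modules.pullback (IntMult.ptIdeal x).subschemeι).obj L)) :
    CohB1.IsAmple L := by
  have hQ : PicF.IsInvertible (CohB1.tensorPow L (m + 1)) := AmpleLib.isInvertible_tensorPow hL _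
  have hsubQ : ∀ x : X, x ≠ genericPoint X → CohB1.IsAmple
      ((Scheme.Modules.pullback (IntMult.ptIdeal x).subschemeι).obj (CohB1.tensorPow L (m + 1))) :=
    fun x hx => AmpleLib.isAmple_of_iso (AmpCrit.TwistDev.pullPowIso _ L (m + 1)).symm
      ((Props.AmpleFrames.isAmple_tensorPow_iff (hsub x hx).1 (Nat.succ_pos m)).1 (hsub x hx))
  refine (Props.AmpleFrames.isAmple_tensorPow_iff hL (Nat.succ_pos m)).2
    (isAmple_of_loci_of_curves k hQ (fun x hx => exists_pow_genLocus' k hQ hsubQ s hs hx) ?_)
  intro C hC hC1
  haveI := hC
  refine isAmple_pullback_of_gen C.subschemeι (hsubQ _ fun hη => ?_)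
  have h1 : topologicalKrullDim X ≤ 1 := by
    rw [← IsHomeomorph.topologicalKrullDim_eq _ (Homeomorph.Set.univ X).isHomeomorph, ← hC1]
    refine CohDev.dim_mono ?_
    rw [← (genericPoint_spec X).def, ← hη]
    refine closure_minimal ?_ C.support.isClosed
    rw [← C.range_subschemeι, Set.singleton_subset_iff]
    exact ⟨_, rfl⟩
  rw [hd] at h1
  have : d ≤ 1 := by exact_mod_cast h1
  omega

/-- Strictly nef with effective powers on all integral pieces: ample. -/
theorem isAmple_of_forall_section {X : Scheme.{u}} [X.Over (Spec (CommRingCat.of k))]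
    [IsProper (X ↘ Spec (CommRingCat.of k))] {L : X.Modules} (hL : PicF.IsInvertible L)
    (hdeg : ∀ x : X, VarDim.dimPt k X x = 1 →
      0 < Curv2.euler k X (CohB1.tensorMod (ClSub.quotMod (IntMult.ptIdeal x)) L) -
        Curv2.euler k X (ClSub.quotMod (IntMult.ptIdeal x)))
    (heff : ∀ Z : X.IdealSheafData, IsIntegral Z.subscheme →
      ∃ (m : ℕ) (s : Coh.structureModule Z.subscheme ⟶
          CohB1.tensorPow ((Scheme.Modules.pullback Z.subschemeι).obj L) (m + 1)), s ≠ 0) :
    CohB1.IsAmple L := by
  suffices key : ∀ (d : ℕ) (x : X), VarDim.dimPt k X x = d →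
      CohB1.IsAmple ((Scheme.Modules.pullback (IntMult.ptIdeal x).subschemeι).obj L) by
    refine (S11559.result k X L hL).2 fun Z hZ => ?_
    haveI : IsIntegral (Scheme.IdealSheafData.vanishingIdeal Z).subscheme :=
      S16188.isIntegral_subscheme _ hZ.1
    exact isAmple_pullback_of_gen _ (key _ _ rfl)
  intro d
  induction d using Nat.strong_induction_on with
  | _ d ih =>
    intro x hx
    let D := IntMult.ptIdeal x
    haveI : IsIntegral D.subscheme := S16188.isIntegral_subscheme _ isIrreducible_singleton.closure
    letI : D.subscheme.Over (Spec (CommRingCat.of k)) := ⟨D.subschemeι ≫ (X ↘ Spec (CommRingCat.of k))⟩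
    haveI : IsProper (D.subscheme ↘ Spec (CommRingCat.of k)) :=
      inferInstanceAs (IsProper (D.subschemeι ≫ (X ↘ Spec (CommRingCat.of k))))
    have hdim : topologicalKrullDim D.subscheme = (d : WithBot ℕ∞) := by
      rw [IsHomeomorph.topologicalKrullDim_eq _ (D.subschemeι.isEmbedding.toHomeomorph.trans
        (Homeomorph.setCongr D.range_subschemeι)).isHomeomorph]
      show topologicalKrullDim ↥(D.support : Set X) = _
      rw [CohDev.coe_support_ptIdeal, FibBound.topDim_closure_singleton k x, hx]
    let L' := (Scheme.Modules.pullback D.subschemeι).obj L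
    have hL' : PicF.IsInvertible L' := PicCl.isInvertible_pullback _ hL
    rcases Nat.eq_zero_or_pos d with rfl | hd0
    · refine isAmple_of_loci_of_curves k hL' (fun z hz => ?_) (fun C hC hC1 => ?_)
      · obtain ⟨U, e, hzU, he⟩ := Props.GenLocus.exists_isGen (AmpleLib.isInvertible_tensorPow hL' 1) z
        have hU : U = ⊤ := by
          refine top_le_iff.1 fun w _ => ?_
          have hzη : z = genericPoint D.subscheme := by
            by_contra hne
            have h1 := CohDev.dim_closure_lt
              (specializes_iff_mem_closure.1 (genericPoint_specializes z)) hne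
              (n := 0) (le_of_eq (by rw [(genericPoint_spec D.subscheme).def,
                IsHomeomorph.topologicalKrullDim_eq _ (Homeomorph.Set.univ _).isHomeomorph, hdim]))
            rw [FibBound.topDim_closure_singleton k z] at h1
            exact Nat.not_lt_zero (VarDim.dimPt k D.subscheme z) (by exact_mod_cast h1)
          have hwz : w = z := by
            have hcl : closure ({z} : Set D.subscheme) = Set.univ := by
              rw [hzη]; exact (genericPoint_spec _).def
            rw [hz.closure_eq] at hcl
            exact hcl.ge (Set.mem_univ w)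
          rw [hwz]; exact hzU
        subst hU
        exact ⟨0, Props.GenLocus.homOfSec e, by
          rw [AmpleLib.genLocus_homOfSec, show AmpleLib.locus e = ⊤ from top_le_iff.1 fun w _ =>
            (AmpleLib.mem_locus_iff e w).2 ⟨⊤, le_rfl, trivial, by rwa [QCoh.res_self]⟩]
          trivial⟩
      · exfalso
        have h1 : topologicalKrullDim ↥(C.support : Set D.subscheme) ≤ ((0 : ℕ) : WithBot ℕ∞) := by
          rw [← hdim]
          exact topologicalKrullDim_subspace_le _ _
        rw [hC1] at h1
        have : (1 : ℕ) ≤ 0 := by exact_mod_cast h1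
        omega
    rcases Nat.lt_or_ge d 2 with hlt | hge
    · obtain rfl : d = 1 := by omega
      have hP := hdeg x hx
      rw [CurveTest.euler_sub_eq_deg k D hL] at hP
      exact EulerChar.isAmple_of_deg_pos k hdim hL' hP
    · obtain ⟨m, s, hs⟩ := heff D inferInstance
      refine isAmple_of_section k hL' hge hdim s hs fun y hy => ?_
      haveI : IsIntegral (IntMult.ptIdeal y).subscheme :=
        S16188.isIntegral_subscheme _ isIrreducible_singleton.closure
      refine AmpleLib.isAmple_of_iso ((Scheme.Modules.pullbackComp _ _).app L).symm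
        (isAmple_pullback_of_gen _ (ih _ ?_ _ rfl))
      let z := ((IntMult.ptIdeal y).subschemeι ≫ D.subschemeι) (genericPoint (IntMult.ptIdeal y).subscheme)
      let w := (IntMult.ptIdeal y).subschemeι (genericPoint (IntMult.ptIdeal y).subscheme)
      have hxη : D.subschemeι (genericPoint D.subscheme) = x := by
        refine IsGenericPoint.eq ((genericPoint_spec D.subscheme).image D.subschemeι.continuous) ?_
        show closure ({x} : Set X) = _
        rw [Set.image_univ, D.range_subschemeι, (D.support.isClosed).closure_eq]
        exact (CohDev.coe_support_ptIdeal x).symm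
      have hwy : w = y := by
        refine IsGenericPoint.eq ((genericPoint_spec _).image (IntMult.ptIdeal y).subschemeι.continuous) ?_
        show closure ({y} : Set D.subscheme) = _
        rw [Set.image_univ, (IntMult.ptIdeal y).range_subschemeι,
          ((IntMult.ptIdeal y).support.isClosed).closure_eq]
        exact (CohDev.coe_support_ptIdeal y).symm
      show VarDim.dimPt k X z < d
      rw [← hx]
      refine VarDim.strictMono_dimPt k (lt_iff_le_not_ge.2 ⟨?_, fun h => hy ?_⟩)
      · show x ⤳ z
        rw [← hxη]
        exact (genericPoint_specializes w).map D.subschemeι.continuous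
      · have h' : z ⤳ D.subschemeι (genericPoint D.subscheme) := hxη.symm ▸ h
        have h2 : w ⤳ genericPoint D.subscheme :=
          D.subschemeι.isEmbedding.isInducing.specializes_iff.1 h'
        rw [← hwy]
        exact ((genericPoint_specializes w).antisymm h2).eq.symm

end Groth.Agent.BigVol.EffAmple
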