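import Groth.Agent.BigVol.FibReg
import Groth.Agent.TwistFlat.Main

/-!
Consequences of fibrewise regularity for a flat family on projective space over a Noetherian base.
-/

set_option autoImplicit false
set_option linter.style.haveILetI false

open CategoryTheory CategoryTheory.Limits AlgebraicGeometry TopologicalSpace

universe u

noncomputable section

namespace Groth.Agent.BigVol.FibRegMain

open Groth.Agent.ProjTwist

theorem main {S : Scheme.{u}} [IsNoetherian S] (n : ℕ)
    {Q : (CohB1.ProjSpaceOver n S).Modules} (hQ : Coh.IsCoh Q)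
    (hflat : FlatMod.IsFlatOver (CohB1.ProjSpaceOver.toBase n S) Q) (m : ℤ)
    (hreg : ∀ (s : S) (i : ℕ), 1 ≤ i →
      Subsingleton (Coh.HH ((CohB1.ProjSpaceOver.toBase n S).fiber s)
        ((Scheme.Modules.pullback ((CohB1.ProjSpaceOver.toBase n S).fiberι s)).obj
          (CohB1.tensorMod Q (Twist.twistOver n S (m - i)))) i))
    (d : ℤ) (hd : m ≤ d) :
    FlatMod.IsFinLocFree ((Coh.push (CohB1.ProjSpaceOver.toBase n S)).obj
        (CohB1.tensorMod Q (Twist.twistOver n S d))) ∧
      (∀ i : ℕ, 1 ≤ i → IsZero ((Coh.RpushAb (CohB1.ProjSpaceOver.toBase n S) i).obj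
        (Coh.toAb (CohB1.tensorMod Q (Twist.twistOver n S d))))) ∧
      Epi ((Scheme.Modules.pullbackPushforwardAdjunction (CohB1.ProjSpaceOver.toBase n S)).counit.app
        (CohB1.tensorMod Q (Twist.twistOver n S d))) := by
  let f := CohB1.ProjSpaceOver.toBase n S
  haveI : IsProper f := TwistFlat.isProper_toBase n S
  haveI : IsLocallyNoetherian (CohB1.ProjSpaceOver n S) := LocallyOfFiniteType.isLocallyNoetherian f
  haveI : CompactSpace (CohB1.ProjSpaceOver n S) := QuasiCompact.compactSpace_of_compactSpace f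
  haveI : AlgebraicGeometry.IsNoetherian (CohB1.ProjSpaceOver n S) := {}
  haveI : LocallyOfFinitePresentation f := inferInstance
  haveI : Coh.IsQCoh Q := hQ.1
  haveI : Q.IsQuasicoherent := hQ.1
  let G := CohB1.tensorMod Q (Twist.twistOver n S d)
  have hinv := TwistFlat.isInvertible_twistOver n S d
  have hG : Coh.IsCoh G := CohDev.isCoh_of_iso (tensComm _ _)
    (CohDev.isCoh_tens (isFinLocFreeOfRank_one hinv) hQ)
  haveI : G.IsQuasicoherent := hG.1
  have hGfp : CohB1.IsFP G := HomShQC.isFP_of_isCoh _ hG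
  have hGfl : FlatMod.IsFlatOver f G := TwistFlat.isFlatOver_tensor f Q hinv hflat
  have hfib := fun s : S => FibReg.fibre_props n (HomShQC.isFP_of_isCoh _ hQ) m s (hreg s) d hd
  have hR : ∀ z : S, ∃ N : CBC.Nhd f G, z ∈ N.V ∧ (N.D.K G).RExact 0 := fun z => by
    obtain ⟨N, h1, -, h2⟩ := CBC.exists_rExact_zero_of_fibres hGfp hGfl ⊤
      (fun y _ => (hfib y).1 1 le_rfl) (s := z) trivial
    exact ⟨N, h1, h2⟩
  refine ⟨fun y => ?_, fun i hi => ?_, ?_⟩
  · obtain ⟨N, h1, h2⟩ := hR y
    exact N.exists_free_nhd₀ hGfl h2 y h1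
  · have hz : IsZero ((Coh.Rpush f i).obj G) := CBC.isZero_Rpush hGfp hGfl fun y => (hfib y).1 i hi
    exact ((ModShf.toAbFunctor S).map_isZero hz).of_iso ((ModShf.rpushCompToAb f i).app G).symm
  · let ε := (Scheme.Modules.pullbackPushforwardAdjunction f).counit.app G
    have hA : Coh.IsQCoh ((Scheme.Modules.pullback f).obj ((Scheme.Modules.pushforward f).obj G)) := by
      haveI : ((Scheme.Modules.pushforward f).obj G).IsQuasicoherent := QCoh.isQuasicoherent_pushforward f G
      exact QCoh.isQuasicoherent_pullback f _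
    refine Preadditive.epi_of_isZero_cokernel _ ?_
    refine FibReg.isZero_of_pullbacks (CohDev.isCoh_cokernel ε hA hG) fun x => ?_
    refine ⟨f.fiber (f x), f.fiberι (f x), ?_, ?_⟩
    · rw [Scheme.Hom.range_fiberι]
      rfl
    · let z := f x
      haveI : IsIso (CohBC.bc0 f (S.fromSpecResidueField z) (f.fiberToSpecResidueField z) (f.fiberι z)
          (f.fiber_fac z) G) :=
        CBC.isIso_bc0_of_rExact (IsPullback.of_hasPullback f (S.fromSpecResidueField z))
          fun w => by
            obtain ⟨N, h1, h2⟩ := hR (S.fromSpecResidueField z w)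
            exact ⟨N, h1, h2⟩
      have he := FibReg.epi_pullback_counit (f.fiber_fac z) G inferInstance
        (FibReg.epi_counit_of_gg (f.fiberToSpecResidueField z) (hfib z).2)
      haveI := (Scheme.Modules.pullbackPushforwardAdjunction (f.fiberι z)).isLeftAdjoint
      haveI : Epi ((Scheme.Modules.pullback (f.fiberι z)).map ε) := he
      exact (isZero_cokernel_of_epi ((Scheme.Modules.pullback (f.fiberι z)).map ε)).of_iso
        (PreservesCokernel.iso (Scheme.Modules.pullback (f.fiberι z)) ε)

end Groth.Agent.BigVol.FibRegMain
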