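import Groth.Agent.CMReg.FieldBC
import Groth.Agent.EulerChar.Basic
import Groth.Agent.ZClosLib.CohDescent
import Groth.Agent.Snapper.BaseChange

/-!
Euler characteristics at field-valued points only depend on the underlying point.
-/

set_option autoImplicit false
set_option linter.style.haveILetI false

open CategoryTheory CategoryTheory.Limits AlgebraicGeometry

universe u

namespace Groth.Agent.BigVol.FieldPoint

variable {X S : Scheme.{u}} {f : X ⟶ S} [IsProper f] {F : X.Modules}

/-- Two fields: invariance of the Euler characteristic. -/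
theorem euler_baseChange {k K : Type u} [Field k] [Field K] [Algebra k K] {Y Z : Scheme.{u}}
    (r : Y ⟶ Spec (CommRingCat.of k)) [IsProper r] (p : Z ⟶ Y) (q : Z ⟶ Spec (CommRingCat.of K))
    (H : IsPullback p q r (Spec.map (CommRingCat.ofHom (algebraMap k K))))
    (G : Y.Modules) (hG : Coh.IsCoh G) :
    @Curv2.euler K _ Z ⟨q⟩ ((Scheme.Modules.pullback p).obj G) = @Curv2.euler k _ Y ⟨r⟩ G := by
  letI : Y.Over (Spec (CommRingCat.of k)) := ⟨r⟩
  letI : Z.Over (Spec (CommRingCat.of K)) := ⟨q⟩
  unfold Curv2.euler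
  refine finsum_congr fun i => ?_
  rw [CMReg.finrank_baseChange p q H G hG i]

/-- The Euler characteristic at a field-valued point, for a module with coherent fibres. -/
theorem euler_fieldPoint' (hFy : ∀ y : S, Coh.IsCoh ((Scheme.Modules.pullback (f.fiberι y)).obj F)) {K : Type u} [Field K] (g : Spec (CommRingCat.of K) ⟶ S)
    {X' : Scheme.{u}} (p : X' ⟶ X) (q : X' ⟶ Spec (CommRingCat.of K)) (H : IsPullback p q f g)
    (z : Spec (CommRingCat.of K)) :
    @Curv2.euler K _ X' ⟨q⟩ ((Scheme.Modules.pullback p).obj F) =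
      @Curv2.euler (S.residueField (g z)) _ (f.fiber (g z)) ⟨f.fiberToSpecResidueField (g z)⟩
        ((Scheme.Modules.pullback (f.fiberι (g z))).obj F) := by
  obtain ⟨⟨y, φ⟩, rfl⟩ := (Scheme.SpecToEquivOfField K S).symm.surjective g
  have hy : ((Scheme.SpecToEquivOfField K S).symm ⟨y, φ⟩) z = y :=
    S.fromSpecResidueField_apply y (Spec.map φ z)
  rw [hy]
  change IsPullback p q f (Spec.map φ ≫ S.fromSpecResidueField _) at H
  haveI : IsProper (f.fiberToSpecResidueField y) :=
    inferInstanceAs (IsProper (pullback.snd f (S.fromSpecResidueField y)))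
  let p' : X' ⟶ f.fiber y := pullback.lift p (q ≫ Spec.map φ) (by rw [H.w, Category.assoc])
  have hp' : p' ≫ f.fiberι y = p := pullback.lift_fst _ _ _
  have hsq : IsPullback p' q (f.fiberToSpecResidueField y) (Spec.map φ) := by
    refine IsPullback.of_right (h₁₂ := f.fiberι y) (v₁₃ := f) (h₂₂ := S.fromSpecResidueField y) ?_
      (pullback.lift_snd _ _ _) (IsPullback.of_hasPullback f (S.fromSpecResidueField y))
    rw [hp']
    exact H
  rw [← @euler_baseChange (S.residueField y) K _ _ φ.hom.toAlgebra _ _ (f.fiberToSpecResidueField y) _ p' q hsq _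
    (hFy y)]
  letI : X'.Over (Spec (CommRingCat.of K)) := ⟨q⟩
  unfold Curv2.euler
  refine finsum_congr fun i => ?_
  rw [Snapper.finrank_HH_iso K ((Scheme.Modules.pullbackCongr hp'.symm).app F ≪≫
    ((Scheme.Modules.pullbackComp p' (f.fiberι y)).app F).symm) i]
  rfl


/-- The Euler characteristic of a coherent module at a field-valued point. -/
theorem euler_fieldPoint (hF : Coh.IsCoh F) {K : Type u} [Field K] (g : Spec (CommRingCat.of K) ⟶ S)
    {X' : Scheme.{u}} (p : X' ⟶ X) (q : X' ⟶ Spec (CommRingCat.of K)) (H : IsPullback p q f g)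
    (z : Spec (CommRingCat.of K)) :
    @Curv2.euler K _ X' ⟨q⟩ ((Scheme.Modules.pullback p).obj F) =
      @Curv2.euler (S.residueField (g z)) _ (f.fiber (g z)) ⟨f.fiberToSpecResidueField (g z)⟩
        ((Scheme.Modules.pullback (f.fiberι (g z))).obj F) :=
  euler_fieldPoint' (fun y => ZClosLib.CohDescent.isCoh_pullback (f.fiberι y) F hF) g p q H z

end Groth.Agent.BigVol.FieldPoint
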