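import Groth.Agent.BigVol.Multi
import Groth.Agent.AmpleLib.GlobGen
import Groth.Agent.CohLin.Basic
import Groth.Agent.VBLib.Basic
import Mathlib.Algebra.Category.ModuleCat.Biproducts

/-!
`hⁱ(F ⊗ L^m)` is `rank F · hⁱ(L^m)` up to `O(m^(n-1))` on an integral projective scheme.
-/

set_option autoImplicit false
set_option linter.style.haveILetI false

open CategoryTheory CategoryTheory.Limits AlgebraicGeometry TopologicalSpace
open Groth.Agent.ProjTwist Groth.Agent.Props.GenLocus Groth.Agent.AmpleLib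
open Groth.Agent.PullStalk.Sky Groth.Agent.PullStalk.Exact Groth.Agent.KFlat.StalkTensor

universe u

noncomputable section

namespace Groth.Agent.BigVol.Rank

open CohBound

variable {X : Scheme.{u}} (k : Type u) [Field k] [X.Over (Spec (CommRingCat.of k))]

/-- `Hⁱ(X, -)` valued in `k`-modules. -/
def hFun (i : ℕ) : X.Modules ⥤ ModuleCat.{u} k where
  obj M := ModuleCat.of k (Coh.HH X M i)
  map φ := ModuleCat.ofHom (CohLin.overLin k (CohLin.hMap φ i))
  map_id M := ModuleCat.hom_ext (LinearMap.ext fun x => CohLin.hMap_id M i x)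
  map_comp φ ψ := ModuleCat.hom_ext (LinearMap.ext fun x => CohLin.hMap_comp φ ψ i x)

instance (i : ℕ) : (hFun (X := X) k i).Additive where
  map_add {_ _ φ ψ} := ModuleCat.hom_ext (LinearMap.ext fun x => CohLin.hMap_add φ ψ i x)

variable [IsProper (X ↘ Spec (CommRingCat.of k))]

theorem h_biproduct {r : ℕ} (f : Fin r → X.Modules) (hf : ∀ j, Coh.IsCoh (f j)) (i : ℕ) :
    h k (⨁ f) i = ∑ j, h k (f j) i := by
  let e : (hFun k i).obj (⨁ f) ≅ ModuleCat.of k (∀ j, (hFun k i).obj (f j)) :=
    (hFun k i).mapBiproduct f ≪≫ ModuleCat.biproductIsoPi _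
  have := fun j => EulerChar.finite_HH k _ (hf j) i
  haveI : ∀ j, Module.Finite k ((hFun k i).obj (f j)) := this
  refine (e.toLinearEquiv.finrank_eq).trans ?_
  exact Module.finrank_pi_fintype k

theorem hh_biproduct [IsNoetherian X] {r : ℕ} {L : X.Modules} (hL : PicF.IsInvertible L) (m i : ℕ) :
    hh k (⨁ fun _ : Fin r => Coh.structureModule X) L m i =
      r * hh k (Coh.structureModule X) L m i := by
  have hT := isInvertible_tensorPow hL m
  let T := (DCoh.tensorBi (X := X)).flip.obj (CohB1.tensorPow L m)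
  haveI : T.Additive := ⟨fun {A B f g} => congrArg (fun η => NatTrans.app η (CohB1.tensorPow L m))
    ((DCoh.tensorBi (X := X)).map_add (f := f) (g := g))⟩
  have hO : Coh.IsCoh (CohB1.tensorMod (Coh.structureModule X) (CohB1.tensorPow L m)) :=
    isCoh_tensor hT (ProperFin.isCoh_structureModule X)
  refine (Pn.finrank_hh_iso (k := k) (T.mapBiproduct fun _ : Fin r => Coh.structureModule X) i).trans ?_
  refine (h_biproduct k (fun _ : Fin r => T.obj (Coh.structureModule X)) (fun _ => hO) i).trans ?_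
  rw [Finset.sum_const, Finset.card_univ, Fintype.card_fin, smul_eq_mul]
  rfl

theorem isCoh_biproduct [IsNoetherian X] {r : ℕ} :
    Coh.IsCoh (⨁ fun _ : Fin r => Coh.structureModule X) :=
  CohDev.isCoh_of_iso
    ((Sigma.whiskerEquiv Equiv.ulift.{u} (f := fun _ : ULift.{u} (Fin r) => Coh.structureModule X)
      (g := fun _ : Fin r => Coh.structureModule X) fun _ => Iso.refl _) ≪≫ (biproduct.isoCoproduct _).symm)
    (Pn.isCoh_sigma (fun _ : ULift.{u} (Fin r) => Coh.structureModule X)
      (fun _ => ProperFin.isCoh_structureModule X))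

section generic

variable [IsIntegral X]

/-- A map from `O^r`, surjective at the generic point onto a rank `r` stalk, is bijective there. -/
theorem exists_generic_bijective [IsNoetherian X] {G : X.Modules} (hG : Coh.IsCoh G) {r : ℕ}
    (hr : Module.finrank (X.presheaf.stalk (genericPoint X)) (G.presheaf.stalk (genericPoint X)) = r)
    (hgg : Curv2.IsGloballyGenerated G) :
    ∃ φ : (⨁ fun _ : Fin r => Coh.structureModule X) ⟶ G,
      Function.Bijective (stalkLin φ (genericPoint X)) := by
  classical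
  let η := genericPoint X
  let K := X.presheaf.stalk η
  obtain ⟨ι, p, hp⟩ := hgg
  let p' : (∐ fun _ : ι => Coh.structureModule X) ⟶ G := p
  haveI : Epi p' := hp
  have hspan : Submodule.span K (Set.range fun σ : Γ(G, ⊤) ↦ germM G ⊤ η trivial σ) = ⊤ := by
    refine eq_top_iff.mpr fun y _ => ?_
    obtain ⟨V, hV, m, rfl⟩ := exists_germM_eq G η y
    exact germ_mem_span_of_epi p' m η hV
  letI : Field K := inferInstanceAs (Field X.functionField)
  haveI : Module.Finite K (G.presheaf.stalk η) := HomShQC.finite_stalk G hG.2 η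
  obtain ⟨v, hv, hvspan, -⟩ := Submodule.exists_fun_fin_finrank_span_eq K
    (Set.range fun σ : Γ(G, ⊤) ↦ germM G ⊤ η trivial σ)
  have hr' : (Set.range fun σ : Γ(G, ⊤) ↦ germM G ⊤ η trivial σ).finrank K = r := by
    rw [Set.finrank, hspan, finrank_top]
    exact hr
  choose σ hσ using hv
  let e := finCongr hr'.symm
  let φ := biproduct.desc fun j : Fin r => homOfSec (σ (e j))
  have hgerm : ∀ j : Fin r, ∃ u, stalkLin φ η u = v (e j) := fun j => by
    refine ⟨stalkLin (biproduct.ι (fun _ : Fin r => Coh.structureModule X) j) η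
      (germM (Coh.structureModule X) ⊤ η trivial (show Γ(X, ⊤) from 1)), ?_⟩
    rw [← CohDev.stalkLin_comp_apply, biproduct.ι_desc]
    refine (stalkLin_germ ..).trans ?_
    refine Eq.trans ?_ (hσ (e j))
    congr 1
    rw [app_eq (homOfSec (σ (e j))) ⊤ (show Γ(X, ⊤) from 1), sec_homOfSec, QCoh.res_self]
    exact one_smul _ _
  have hsurj : Function.Surjective (stalkLin φ η) := by
    rw [← LinearMap.range_eq_top]
    refine eq_top_iff.mpr ?_
    rw [← hspan, ← hvspan, Submodule.span_le]
    rintro _ ⟨j, rfl⟩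
    obtain ⟨u, hu⟩ := hgerm (e.symm j)
    exact ⟨u, hu.trans (congrArg v (e.apply_symm_apply j))⟩
  refine ⟨φ, ?_, hsurj⟩
  let one : K →ₗ[K] (Coh.structureModule X).presheaf.stalk η :=
    LinearMap.toSpanSingleton K _ (germM (Coh.structureModule X) ⊤ η trivial (show Γ(X, ⊤) from 1))
  let Ψ : (Fin r → K) →ₗ[K] (⨁ fun _ : Fin r => Coh.structureModule X).presheaf.stalk η :=
    ∑ j, (stalkLin (biproduct.ι (fun _ : Fin r => Coh.structureModule X) j) η) ∘ₗ one ∘ₗ LinearMap.proj j
  have hone : Function.Surjective one :=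
    (PicLaw.bijective_toSpanSingleton_germ (ProjMorph.isGen_one (⊤ : X.Opens)) (y := η) trivial).2
  have hΨ : Function.Surjective Ψ := fun y => by
    choose c hc using fun j => hone (stalkLin (biproduct.π (fun _ : Fin r => Coh.structureModule X) j) η y)
    refine ⟨c, ?_⟩
    rw [show Ψ c = ∑ j, stalkLin (biproduct.ι (fun _ : Fin r => Coh.structureModule X) j) η (one (c j))
      from by simp [Ψ]]
    simp only [hc]
    simp only [← CohDev.stalkLin_comp_apply]
    have hsum : ∀ (s : Finset (Fin r)) (f : Fin r → ((⨁ fun _ : Fin r => Coh.structureModule X) ⟶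
        ⨁ fun _ : Fin r => Coh.structureModule X)),
        ∑ j ∈ s, stalkLin (f j) η y = stalkLin (∑ j ∈ s, f j) η y := fun s f => by
      induction s using Finset.induction with
      | empty => simp [CohDev.stalkLin_zero_apply]
      | insert a s ha ih => rw [Finset.sum_insert ha, Finset.sum_insert ha, ih, CohDev.stalkLin_add_apply]
    rw [hsum, biproduct.total, CohDev.stalkLin_id_apply]
  have hd : Module.finrank K (Fin r → K) = Module.finrank K (G.presheaf.stalk η) := by
    rw [Module.finrank_fin_fun]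
    exact hr.symm
  have hcomp : Function.Injective ((stalkLin φ η) ∘ₗ Ψ) :=
    (LinearMap.injective_iff_surjective_of_finrank_eq_finrank hd).mpr (hsurj.comp hΨ)
  intro x y hxy
  obtain ⟨a, rfl⟩ := hΨ x
  obtain ⟨b, rfl⟩ := hΨ y
  exact congrArg Ψ (hcomp hxy)

end generic

variable [IsIntegral X] {A : X.Modules} (hA : CohB1.IsAmple A) {n : ℕ}
  (hn : topologicalKrullDim X = (n : WithBot ℕ∞))

include hA hn in
/-- `|hⁱ(F ⊗ L^m) - r hⁱ(L^m)| = O(m^(n-1))` for `r` the generic rank of `F`. -/
theorem exists_rank_close {F : X.Modules} (hF : Coh.IsCoh F) {r : ℕ}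
    (hr : Module.finrank (X.presheaf.stalk (genericPoint X)) (F.presheaf.stalk (genericPoint X)) = r)
    {L : X.Modules} (hL : PicF.IsInvertible L) (i : ℕ) :
    ∃ C : ℕ, ∀ m : ℕ, hh k F L m i ≤ r * hh k (Coh.structureModule X) L m i + C * g n m ∧
      r * hh k (Coh.structureModule X) L m i ≤ hh k F L m i + C * g n m := by
  haveI := EulerChar.isNoetherian k (X := X)
  letI := PicLaw.law X
  obtain ⟨n₀, hn₀⟩ := eventually_globallyGenerated hA hF.1 hF.2
  let P := CohB1.tensorPow A n₀
  have hP : PicF.IsInvertible P := isInvertible_tensorPow hA.1 n₀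
  let G := CohB1.tensorMod F P
  have hG : Coh.IsCoh G := isCoh_tensor hP hF
  have hr' : Module.finrank (X.presheaf.stalk (genericPoint X)) (G.presheaf.stalk (genericPoint X)) = r := by
    obtain ⟨e⟩ := EulerChar.stalk_ofRank (ProjTwist.isFinLocFreeOfRank_one hP) (genericPoint X)
    rw [← hr]
    exact ((stalkTensorEquiv F P (genericPoint X)).trans
      ((TensorProduct.congr (LinearEquiv.refl _ _) (e.symm.trans (LinearEquiv.funUnique (Fin 1) _ _))).trans
        (TensorProduct.rid _ _))).finrank_eq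
  obtain ⟨φ, hφ⟩ := exists_generic_bijective hG hr' (hn₀ n₀ le_rfl)
  let B : X.Modules := ⨁ fun _ : Fin r => Coh.structureModule X
  have hB : Coh.IsCoh B := isCoh_biproduct
  have hK : Coh.IsCoh (kernel φ) := VBLib.isCoh_kernel φ hB hG
  have hI : Coh.IsCoh (Abelian.image φ) := VBLib.isCoh_image φ hB hG
  have hQ : Coh.IsCoh (cokernel φ) := VBLib.isCoh_cokernel φ hB hG
  have small : ∀ {M : X.Modules}, Coh.IsCoh M → genericPoint X ∉ CohB1.support M →
      topologicalKrullDim (CohB1.support M) < (n : WithBot ℕ∞) := fun {M} hM hξ => by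
    refine Pn.dim_add_one_le_of_forall_specializes (Z := Set.univ) isClosed_univ
      (CohDev.isClosed_support hM) (fun ξ _ => ⟨genericPoint X, trivial, hξ, genericPoint_specializes ξ⟩)
      (Set.subset_univ _) ?_
    refine lt_of_le_of_lt ((Topology.IsEmbedding.subtypeVal).isInducing.topologicalKrullDim_le.trans hn.le) ?_
    exact_mod_cast Nat.lt_succ_self n
  have dQ := small hQ (CohDev.not_mem_support_cokernel φ hφ.2)
  have dK := small hK (fun hne => hne (subsingleton_of_forall_eq 0 fun t =>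
    Omega.Stalks.stalkLin_injective_of_mono (kernel.ι φ) _ (hφ.1 (by
      rw [map_zero, map_zero, ← CohDev.stalkLin_comp_apply, kernel.condition]
      exact CohDev.stalkLin_zero_apply _ t))))
  haveI : Epi (Abelian.factorThruImage φ) := inferInstance
  have hw : kernel.ι φ ≫ Abelian.factorThruImage φ = 0 := by
    rw [← cancel_mono (Abelian.image.ι φ), Category.assoc, Abelian.image.fac, kernel.condition, zero_comp]
  have hker : (ShortComplex.mk (kernel.ι φ) (Abelian.factorThruImage φ) hw).ShortExact := by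
    refine ShortComplex.ShortExact.mk' (ShortComplex.exact_of_f_is_kernel _ ?_) inferInstance ‹_›
    exact KernelFork.IsLimit.ofι' (kernel.ι φ) hw fun {W} t ht =>
      ⟨kernel.lift φ t (by rw [← Abelian.image.fac φ, ← Category.assoc, ht, zero_comp]), kernel.lift_ι _ _ _⟩
  have him : (ShortComplex.mk (Abelian.image.ι φ) (cokernel.π φ) (kernel.condition _)).ShortExact :=
    ShortComplex.ShortExact.mk' (ShortComplex.exact_of_f_is_kernel _ (kernelIsKernel (cokernel.π φ)))
      (inferInstanceAs (Mono (kernel.ι (cokernel.π φ)))) (inferInstanceAs (Epi (cokernel.π φ)))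
  obtain ⟨Ca, ha⟩ := exists_hh_lt k hA hL n _ hK dK i
  obtain ⟨Cb, hb⟩ := exists_hh_lt k hA hL n _ hK dK (i + 1)
  obtain ⟨Cc, hc'⟩ := exists_hh_lt k hA hL n _ hQ dQ i
  obtain ⟨Cd, hd⟩ := exists_hh_lt k hA hL n _ hQ dQ (i - 1)
  let x : Fin 2 → PicLoc.PicSet X := ![PicGrp.cls L hL, PicGrp.cls P hP]
  obtain ⟨Ce, he⟩ := Multi.exists_hc_single_close k hA x hF
    (Asymp.dim_support_le hn F) i
  refine ⟨Ca + Cb + Cc + Cd + Ce, fun m => ?_⟩
  have hLm := isInvertible_tensorPow hL m
  have ea : PicGrp.cls _ hLm = Multi.pw x ![(m : ℤ), 0] := by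
    rw [Multi.pw, Fin.prod_univ_two]
    simp [x]
    exact Subtype.ext (PicGrp.cls_pow_val hL m).symm
  have eb : PicGrp.cls _ (isInvertible_tensorMod hP hLm) = Multi.pw x (![(m : ℤ), 0] + Pi.single 1 1) := by
    rw [Multi.pw_single, ← ea]
    refine Eq.trans (b := PicGrp.cls P hP * PicGrp.cls _ hLm)
      (Subtype.ext (PicGrp.cls_mul_cls_val hP hLm).symm) ?_
    rw [mul_comm]
    rfl
  obtain ⟨e1, e2⟩ := he ![(m : ℤ), 0] 1
  rw [Multi.hc_eq k F _ ea, Multi.hc_eq k F _ eb] at e1 e2
  have hN : Multi.N ![(m : ℤ), 0] = m := by simp [Multi.N, Fin.sum_univ_two]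
  rw [hN] at e1 e2
  have hassoc : hh k G L m i = h k (CohB1.tensorMod F (CohB1.tensorMod P (CohB1.tensorPow L m))) i :=
    Pn.finrank_hh_iso (k := k) (tensAssoc F P _) i
  rw [← hassoc] at e1 e2
  obtain ⟨k1, k2, k3⟩ := hh_triangle k hker hK hB hI hL m i
  obtain ⟨q1, q2, -⟩ := hh_triangle k him hI hG hQ hL m i
  have hbp : hh k B L m i = r * hh k (Coh.structureModule X) L m i := hh_biproduct k hL m i
  have := ha m
  have := hb m
  have := hc' m
  have := hd m
  constructor <;> nlinarith

end Groth.Agent.BigVol.Rank
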