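import Groth.Agent.BigVol.PushCoh
import Groth.Agent.BigVol.Rank
import Groth.Agent.BigVol.Asymp
import Groth.Agent.EulerChar.FiniteMap
import Groth.Agent.EtStruct.QFinPts
import Groth.Agent.CycLib.FieldDelta
import Groth.Agent.AmpCrit.RelVan
import Groth.Agent.AmpleLib.Rel
import Groth.Agent.FormalFun.TowerVan
import Groth.Agent.ProjForm.Derived
import Groth.Agent.ProjForm.Unit
import Groth.Agent.Props.AffineCritFT
import Groth.Agent.S0036

/-!
Asymptotic cohomology along dominant generically finite morphisms.
-/

universe u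

open CategoryTheory CategoryTheory.Limits AlgebraicGeometry TopologicalSpace
open Groth.Agent.PullStalk.Sky Groth.Agent.PullStalk.Exact

set_option autoImplicit false
set_option linter.style.haveILetI false

noncomputable section

namespace Groth.Agent.BigVol.GenFin

section Stalk

variable {X Y : Scheme.{u}} (f : Y ⟶ X) [IsIntegral X] [IsIntegral Y]

/-- A point over the image of the generic point with finite residue extension is generic. -/
theorem eq_genericPoint [LocallyOfFiniteType f] (hfin : (f.residueFieldMap (genericPoint Y)).hom.Finite)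
    {y : Y} (hy : f y = f (genericPoint Y)) : y = genericPoint Y := by
  have hcl := (EtStruct.isClosed_asFiber_iff_finite f (genericPoint Y)).2 hfin
  obtain ⟨z, hz⟩ : ∃ z : f.fiber (f (genericPoint Y)), f.fiberι (f (genericPoint Y)) z = y := by
    have : y ∈ Set.range (f.fiberι (f (genericPoint Y))) := by rw [f.range_fiberι]; exact hy
    exact this
  have hs : f.asFiber (genericPoint Y) ⤳ z := by
    rw [← (f.fiberι (f (genericPoint Y))).isEmbedding.isInducing.specializes_iff, f.fiberι_asFiber, hz]
    exact genericPoint_specializes y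
  rw [← hz, show z = f.asFiber (genericPoint Y) from hs.mem_closed hcl rfl, f.fiberι_asFiber]

variable {P : Y.Modules}

/-- The germs of a pushed module at the image of the generic point. -/
def germ (P : Y.Modules) : ((Scheme.Modules.pushforward f).obj P).presheaf.stalk (f (genericPoint Y)) →+
    P.presheaf.stalk (genericPoint Y) :=
  AddMonoidHom.mk' (fun t => (P.presheaf.stalkPushforward Ab f.base (genericPoint Y)) t) fun a b => map_add _ a b

theorem germ_germ (W : X.Opens) (hW : f (genericPoint Y) ∈ W) (s : Γ(P, f ⁻¹ᵁ W)) :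
    germ f P (germM ((Scheme.Modules.pushforward f).obj P) W (f (genericPoint Y)) hW s) =
      germM P (f ⁻¹ᵁ W) (genericPoint Y) hW s :=
  (ConcreteCategory.comp_apply _ _ _).symm.trans (ConcreteCategory.congr_hom
    (TopCat.Presheaf.stalkPushforward_germ Ab f.base P.presheaf W (genericPoint Y) hW) s)

theorem germ_smul (r : X.presheaf.stalk (f (genericPoint Y)))
    (t : ((Scheme.Modules.pushforward f).obj P).presheaf.stalk (f (genericPoint Y))) :
    germ f P (r • t) = f.stalkMap (genericPoint Y) r • germ f P t := by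
  obtain ⟨W, hW, s, rfl⟩ := exists_germM_eq _ _ t
  obtain ⟨W', hW', a, rfl⟩ := X.presheaf.exists_germ_eq (x := f (genericPoint Y)) r
  rw [← X.presheaf.germ_res_apply (homOfLE (inf_le_right : W ⊓ W' ≤ W')) _ ⟨hW, hW'⟩ a,
    show germM _ W (f (genericPoint Y)) hW s = germM _ (W ⊓ W') (f (genericPoint Y)) ⟨hW, hW'⟩
      (((Scheme.Modules.pushforward f).obj P).presheaf.map (homOfLE inf_le_left).op s) from
      (((Scheme.Modules.pushforward f).obj P).presheaf.germ_res_apply
        (homOfLE (inf_le_left : W ⊓ W' ≤ W)) _ ⟨hW, hW'⟩ s).symm,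
    ← germM_smul, Scheme.Hom.germ_stalkMap_apply]
  refine (germ_germ f _ _ _).trans ?_
  refine Eq.trans ?_ (congrArg _ (germ_germ f _ _ _).symm)
  exact germM_smul P (f ⁻¹ᵁ (W ⊓ W')) (genericPoint Y) ⟨hW, hW'⟩ _ _

variable [IsProper f]

theorem bijective_germ (hP : PicF.IsInvertible P)
    (huniq : ∀ x : Y, f x = f (genericPoint Y) → x = genericPoint Y) : Function.Bijective (germ f P) := by
  constructor
  · refine (injective_iff_map_eq_zero _).2 fun t ht => ?_
    obtain ⟨W, hW, s, rfl⟩ := exists_germM_eq _ _ t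
    rw [germ_germ] at ht
    rw [show s = 0 from EulerChar.eq_zero_of_germ_generic (ProjTwist.isFinLocFreeOfRank_one hP)
      (U := f ⁻¹ᵁ W) hW s ht]
    exact map_zero _
  · intro c
    obtain ⟨N, hN, s, rfl⟩ := exists_germM_eq P (genericPoint Y) c
    let W : X.Opens := ⟨(f '' (N : Set Y)ᶜ)ᶜ, (f.isClosedMap _ N.2.isClosed_compl).isOpen_compl⟩
    have hW : f (genericPoint Y) ∈ W := fun ⟨x, hx, he⟩ => hx (huniq x he ▸ hN)
    have hle : f ⁻¹ᵁ W ≤ N := fun x hx => by_contra fun h => hx ⟨x, h, rfl⟩
    refine ⟨germM _ W _ hW (P.presheaf.map (homOfLE hle).op s), ?_⟩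
    refine (germ_germ f W hW _).trans ?_
    exact P.presheaf.germ_res_apply (homOfLE hle) _ _ s

/-- The generic rank of the direct image of an invertible module is the residue degree. -/
theorem finrank_stalk (hP : PicF.IsInvertible P) (hdom : f (genericPoint Y) = genericPoint X)
    (huniq : ∀ x : Y, f x = f (genericPoint Y) → x = genericPoint Y) :
    Module.finrank (X.presheaf.stalk (genericPoint X))
      (((Scheme.Modules.pushforward f).obj P).presheaf.stalk (genericPoint X)) =
      f.residueDegree (genericPoint Y) := by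
  have hgen : ∀ x : X, x = f (genericPoint Y) →
      Module.finrank (X.presheaf.stalk x) (((Scheme.Modules.pushforward f).obj P).presheaf.stalk x) =
      f.residueDegree (genericPoint Y) := by
    rintro x rfl
    obtain ⟨eO⟩ := EulerChar.stalk_ofRank (ProjTwist.isFinLocFreeOfRank_one hP) (genericPoint Y)
    letI := (f.stalkMap (genericPoint Y)).hom.toAlgebra
    letI := Module.compHom (P.presheaf.stalk (genericPoint Y)) (f.stalkMap (genericPoint Y)).hom
    haveI : IsScalarTower (X.presheaf.stalk (f (genericPoint Y))) (Y.presheaf.stalk (genericPoint Y))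
        (P.presheaf.stalk (genericPoint Y)) :=
      ⟨fun r s m => mul_smul ((f.stalkMap (genericPoint Y)).hom r) s m⟩
    let e : ((Scheme.Modules.pushforward f).obj P).presheaf.stalk (f (genericPoint Y))
        ≃ₗ[X.presheaf.stalk (f (genericPoint Y))] P.presheaf.stalk (genericPoint Y) :=
      LinearEquiv.ofBijective
        ({ toFun := germ f P
           map_add' := map_add _
           map_smul' := germ_smul f } :
          ((Scheme.Modules.pushforward f).obj P).presheaf.stalk (f (genericPoint Y))
            →ₗ[X.presheaf.stalk (f (genericPoint Y))] P.presheaf.stalk (genericPoint Y))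
        (bijective_germ f hP huniq)
    rw [e.finrank_eq, ← (((LinearEquiv.funUnique (Fin 1) (Y.presheaf.stalk (genericPoint Y))
      (Y.presheaf.stalk (genericPoint Y))).symm.trans eO).restrictScalars
        (X.presheaf.stalk (f (genericPoint Y)))).finrank_eq, Scheme.Hom.residueDegree]
    letI := (f.residueFieldMap (genericPoint Y)).hom.toAlgebra
    have hX' : IsField (X.presheaf.stalk (f (genericPoint Y))) := by
      rw [hdom]
      exact Field.toIsField X.functionField
    have hY' : IsField (Y.presheaf.stalk (genericPoint Y)) := Field.toIsField Y.functionField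
    have b : ∀ {Z : Scheme.{u}} (z : Z), IsField (Z.presheaf.stalk z) → Function.Bijective (Z.residue z) :=
      fun {Z} z h => by
        refine ⟨(injective_iff_map_eq_zero _).2 fun a ha => ?_, Z.residue_surjective z⟩
        have : a ∈ IsLocalRing.maximalIdeal (Z.presheaf.stalk z) := Ideal.Quotient.eq_zero_iff_mem.1 ha
        rwa [IsLocalRing.isField_iff_maximalIdeal_eq.1 h, Ideal.mem_bot] at this
    refine Algebra.finrank_eq_of_equiv_equiv (RingEquiv.ofBijective (X.residue _).hom (b _ hX'))
      (RingEquiv.ofBijective (Y.residue _).hom (b _ hY')) ?_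
    refine RingHom.ext fun a => ?_
    exact ConcreteCategory.congr_hom (Scheme.residue_residueFieldMap f (genericPoint Y)) a
  exact hgen _ hdom.symm

end Stalk

variable (k : Type u) [Field k] {X Y : Scheme.{u}}
  [X.Over (Spec (CommRingCat.of k))] [Y.Over (Spec (CommRingCat.of k))] [IsIntegral X] [IsIntegral Y]
  [IsProper (X ↘ Spec (CommRingCat.of k))] [IsProper (Y ↘ Spec (CommRingCat.of k))]
  (f : Y ⟶ X) (w : f ≫ (X ↘ Spec (CommRingCat.of k)) = Y ↘ Spec (CommRingCat.of k))
  (hdom : f (genericPoint Y) = genericPoint X) (hd0 : 0 < f.residueDegree (genericPoint Y))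

include hd0 in
omit [X.Over (Spec (CommRingCat.of k))] [Y.Over (Spec (CommRingCat.of k))] [IsProper (X ↘ Spec (CommRingCat.of k))] [IsProper (Y ↘ Spec (CommRingCat.of k))] [IsIntegral X] in
theorem residueFieldMap_finite : (f.residueFieldMap (genericPoint Y)).hom.Finite := by
  letI := (f.residueFieldMap (genericPoint Y)).hom.toAlgebra
  exact Module.finite_of_finrank_pos hd0

include w hdom hd0 in
theorem dim_eq : topologicalKrullDim Y = topologicalKrullDim X := by
  haveI : IsProper f := EulerChar.isProper_hom f w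
  obtain ⟨j, hj, hj'⟩ := CycLib.deltaCompat_fdelta k f (Y ↘ Spec (CommRingCat.of k))
    (X ↘ Spec (CommRingCat.of k)) w (genericPoint Y)
  have h0 : (letI := (f.residueFieldMap (genericPoint Y)).hom.toAlgebra
     Algebra.trdeg (X.residueField (f (genericPoint Y))) (Y.residueField (genericPoint Y))) = 0 := by
    letI := (f.residueFieldMap (genericPoint Y)).hom.toAlgebra
    haveI : Module.Finite (X.residueField (f (genericPoint Y))) (Y.residueField (genericPoint Y)) :=
      residueFieldMap_finite f hd0
    haveI : Algebra.IsAlgebraic (X.residueField (f (genericPoint Y))) (Y.residueField (genericPoint Y)) :=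
      Algebra.IsAlgebraic.of_finite _ _
    exact trdeg_eq_zero
  rw [h0] at hj
  obtain rfl : j = 0 := by exact_mod_cast hj.symm
  have : ((VarDim.dimPt k Y (genericPoint Y) : ℕ) : ℤ) = (VarDim.dimPt k X (f (genericPoint Y)) : ℕ) + ((0 : ℕ) : ℤ) := hj'
  rw [VarDim.topologicalKrullDim_eq_of_irreducible k (X := X),
    VarDim.topologicalKrullDim_eq_of_irreducible k (X := Y), ← hdom,
    show VarDim.dimPt k Y (genericPoint Y) = VarDim.dimPt k X (f (genericPoint Y)) by omega]

open CohBound Rank in
include w hdom hd0 in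
/-- `|hⁱ(Y, f^* L^m) - deg f · hⁱ(X, L^m)| = O(m^(n-1))`. -/
theorem exists_close_pullback {A : X.Modules} (hA : CohB1.IsAmple A) {B : Y.Modules} (hB : CohB1.IsAmple B)
    {n : ℕ} (hn : topologicalKrullDim X = (n : WithBot ℕ∞)) {L : X.Modules} (hL : PicF.IsInvertible L) (i : ℕ) :
    ∃ C : ℕ, ∀ m : ℕ,
      Module.finrank k (Coh.HH Y (CohB1.tensorPow ((Scheme.Modules.pullback f).obj L) m) i) ≤
          f.residueDegree (genericPoint Y) * Module.finrank k (Coh.HH X (CohB1.tensorPow L m) i) + C * g n m ∧
        f.residueDegree (genericPoint Y) * Module.finrank k (Coh.HH X (CohB1.tensorPow L m) i) ≤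
          Module.finrank k (Coh.HH Y (CohB1.tensorPow ((Scheme.Modules.pullback f).obj L) m) i) + C * g n m := by
  haveI : IsProper f := EulerChar.isProper_hom f w
  haveI := EulerChar.isNoetherian k (X := X)
  haveI := EulerChar.isNoetherian k (X := Y)
  let L' := (Scheme.Modules.pullback f).obj L
  have hL' : PicF.IsInvertible L' := PicCl.isInvertible_pullback f hL
  have hnY : topologicalKrullDim Y = (n : WithBot ℕ∞) := (dim_eq k f w hdom hd0).trans hn
  obtain ⟨r, hr⟩ := AmpCrit.RelVan.exists_bound f hB.1
    (fun W hW => (AmpleLib.isRelAmple_of_isAmple f hB).2 ⟨W, hW⟩) (Props.AffineCritFT.isCoh_structureModule (X := Y))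
  let P := CohB1.tensorPow B r
  have hP : PicF.IsInvertible P := AmpleLib.isInvertible_tensorPow hB.1 r
  have hzP : ∀ p : ℕ, IsZero ((Coh.Rpush f (p + 1)).obj P) := fun p =>
    (hr r le_rfl p).of_iso ((Coh.Rpush f (p + 1)).mapIso (ProjTwist.oneTens P).symm)
  have hPc : Coh.IsCoh P := BigVol.isCoh_of_isInvertible hP
  haveI := hPc.1
  have hfP : Coh.IsCoh ((Scheme.Modules.pushforward f).obj P) :=
    CohDev.isCoh_of_iso ((Scheme.Modules.pushforward f).rightDerivedZeroIsoSelf.app P)
      (Groth.Agent.S0036.result f P hPc 0)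
  have key : ∀ m, hh k P L' m i = hh k ((Scheme.Modules.pushforward f).obj P) L m i := fun m => by
    have hLm := AmpleLib.isInvertible_tensorPow hL m
    have hE := ProjForm.isFinLocFree_of_isInvertible hLm
    let E' := (Scheme.Modules.pullback f).obj (CohB1.tensorPow L m)
    haveI : (CohB1.tensorMod E' P).IsQuasicoherent :=
      (ProjTwist.isCoh_tensor hP (BigVol.isCoh_of_isInvertible (PicCl.isInvertible_pullback f hLm))).1
    have hz : ∀ p : ℕ, IsZero ((Coh.Rpush f (p + 1)).obj (CohB1.tensorMod E' P)) := fun p => by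
      obtain ⟨e⟩ := ProjForm.nonempty_rpush_tensor f P hE (p + 1)
      exact IsZero.of_iso (((ModSite.tensorBi X.sheaf).obj (CohB1.tensorPow L m)).map_isZero (hzP p)) e.symm
    obtain ⟨e⟩ := FormalFun.nonempty_pullback_tensorPow f hL m
    obtain ⟨e0⟩ := ProjForm.nonempty_rpush_tensor f P hE 0
    refine (ProjTwist.Pn.finrank_hh_iso (k := k)
      (ProjTwist.tensComm P _ ≪≫ ProjTwist.tensCongr e.symm (Iso.refl P)) i).trans ?_
    refine (PushCoh.finrank_push f w _ hz i).trans ?_
    exact ProjTwist.Pn.finrank_hh_iso (k := k)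
      (((Scheme.Modules.pushforward f).rightDerivedZeroIsoSelf.app _).symm ≪≫ e0.symm ≪≫
        ProjTwist.tensComm _ _ ≪≫
        ProjTwist.tensCongr ((Scheme.Modules.pushforward f).rightDerivedZeroIsoSelf.app P) (Iso.refl _)) i
  have r1 : Module.finrank (Y.presheaf.stalk (genericPoint Y)) (P.presheaf.stalk (genericPoint Y)) = 1 := by
    obtain ⟨e⟩ := EulerChar.stalk_ofRank (ProjTwist.isFinLocFreeOfRank_one hP) (genericPoint Y)
    rw [← e.finrank_eq, Module.finrank_fin_fun]
  have rd := finrank_stalk f hP hdom (fun x hx => eq_genericPoint f (residueFieldMap_finite f hd0) hx)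
  obtain ⟨C₁, h₁⟩ := exists_rank_close k hB hnY hPc r1 hL' i
  obtain ⟨C₂, h₂⟩ := exists_rank_close k hA hn hfP rd hL i
  refine ⟨C₁ + C₂, fun m => ?_⟩
  have eY : hh k (Coh.structureModule Y) L' m i = Module.finrank k (Coh.HH Y (CohB1.tensorPow L' m) i) :=
    ProjTwist.Pn.finrank_hh_iso (k := k) (ProjTwist.oneTens _) i
  have eX : hh k (Coh.structureModule X) L m i = Module.finrank k (Coh.HH X (CohB1.tensorPow L m) i) :=
    ProjTwist.Pn.finrank_hh_iso (k := k) (ProjTwist.oneTens _) i
  obtain ⟨a1, a2⟩ := h₁ m
  obtain ⟨b1, b2⟩ := h₂ m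
  rw [← key m] at b1 b2
  rw [eY] at a1 a2
  rw [eX] at b1 b2
  constructor <;> nlinarith

end Groth.Agent.BigVol.GenFin
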