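import Mathlib

/-!
Commuting operators of degree one on a sequence of finite modules over a Noetherian ring: if they
generate in large degrees, then so do they on the kernel of one of them.
-/

set_option autoImplicit false

open DirectSum

namespace Groth.Agent.BigVol.GradedKernel

variable {R : Type*} [CommRing R] {D : ℕ → Type*} [∀ p, AddCommGroup (D p)] [∀ p, Module R (D p)]
  {N : ℕ} (t : Fin (N + 1) → ∀ p, D p →ₗ[R] D (p + 1))

/-- A degree one family as an endomorphism of the direct sum. -/
noncomputable def T (l : Fin (N + 1)) : Module.End R (⨁ p, D p) :=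
  DirectSum.toModule R ℕ _ fun p => (DirectSum.lof R ℕ D (p + 1)).comp (t l p)

theorem T_lof (l : Fin (N + 1)) (p : ℕ) (x : D p) :
    T t l (DirectSum.lof R ℕ D p x) = DirectSum.lof R ℕ D (p + 1) (t l p x) :=
  DirectSum.toModule_lof R p x

theorem T_apply_succ (l : Fin (N + 1)) (e : ⨁ p, D p) (p : ℕ) : T t l e (p + 1) = t l p (e p) := by
  induction e using DirectSum.induction_on with
  | zero => simp
  | of i x =>
    show T t l (DirectSum.lof R ℕ D i x) (p + 1) = t l p (DirectSum.lof R ℕ D i x p)
    rw [T_lof]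
    by_cases h : i = p
    · subst h
      simp [DirectSum.lof_eq_of]
    · simp [DirectSum.lof_eq_of, DirectSum.of_eq_of_ne, Ne.symm h, h]
  | add a b ha hb => simp [ha, hb]

theorem T_comm (hc : ∀ l l' p x, t l' (p + 1) (t l p x) = t l (p + 1) (t l' p x)) (l l' : Fin (N + 1)) :
    T t l * T t l' = T t l' * T t l := by
  refine DirectSum.linearMap_ext R fun p => LinearMap.ext fun x => ?_
  show T t l (T t l' (DirectSum.lof R ℕ D p x)) = T t l' (T t l (DirectSum.lof R ℕ D p x))
  rw [T_lof, T_lof, T_lof, T_lof, hc]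

/-- Generation in large degrees passes to the kernel of `t 0`. -/
theorem exists_ker_generated [IsNoetherianRing R] [∀ p, Module.Finite R (D p)]
    (hc : ∀ l l' p x, t l' (p + 1) (t l p x) = t l (p + 1) (t l' p x)) {b₀ : ℕ}
    (hgen : ∀ p, b₀ ≤ p → ∀ z : D (p + 1), ∃ y : Fin (N + 1) → D p, z = ∑ l, t l p (y l)) :
    ∃ b₁ : ℕ, ∀ p, b₁ ≤ p → ∀ z : D (p + 1), t 0 (p + 1) z = 0 →
      ∃ y : Fin N → D p, (∀ l, t 0 p (y l) = 0) ∧ z = ∑ l, t l.succ p (y l) := by
  classical
  let S : Set (Module.End R (⨁ p, D p)) := Set.range (T t)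
  have hS : ∀ a ∈ S, ∀ b ∈ S, a * b = b * a := by
    rintro _ ⟨l, rfl⟩ _ ⟨l', rfl⟩
    exact T_comm t hc l l'
  let A := Algebra.adjoin R S
  letI : CommRing A := Algebra.adjoinCommRingOfComm R hS
  have hA : IsNoetherianRing A := by
    have : Algebra.FiniteType R A :=
      ⟨(Subalgebra.fg_top _).mpr (Subalgebra.fg_adjoin_finset (R := R) (Set.finite_range (T t)).toFinset |> fun h => by
        simpa [A, S] using h)⟩
    exact Algebra.FiniteType.isNoetherianRing R A
  let F : Finset (Σ p, D p) := (Finset.range (b₀ + 1)).sigma fun p =>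
    (Module.Finite.fg_top (R := R) (M := D p)).choose
  have htop : (⊤ : Submodule A (⨁ p, D p)) =
      Submodule.span A ((fun q : Σ p, D p => DirectSum.lof R ℕ D q.1 q.2) '' (F : Set (Σ p, D p))) := by
    refine (eq_top_iff.mpr fun e he => ?_).symm
    clear he
    induction e using DirectSum.induction_on with
    | zero => exact zero_mem _
    | add a b ha hb => exact add_mem ha hb
    | of i x =>
      show DirectSum.lof R ℕ D i x ∈ _
      induction i using Nat.strong_induction_on with
      | _ i ih =>
        by_cases hi : i ≤ b₀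
        · have hx : x ∈ Submodule.span R ((Module.Finite.fg_top (R := R) (M := D i)).choose : Set (D i)) := by
            rw [(Module.Finite.fg_top (R := R) (M := D i)).choose_spec]; trivial
          induction hx using Submodule.span_induction with
          | mem z hz =>
            exact Submodule.subset_span ⟨⟨i, z⟩, Finset.mem_sigma.mpr ⟨Finset.mem_range.mpr (by show i < b₀ + 1; omega), hz⟩, rfl⟩
          | zero => rw [map_zero]; exact zero_mem _
          | add a b _ _ ha hb => rw [map_add]; exact add_mem ha hb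
          | smul r a _ ha =>
            rw [map_smul, ← algebraMap_smul A r (DirectSum.lof R ℕ D i a)]
            exact Submodule.smul_mem _ _ ha
        · obtain ⟨j, rfl⟩ : ∃ j, i = j + 1 := ⟨i - 1, by omega⟩
          obtain ⟨y, rfl⟩ := hgen j (by omega) x
          rw [map_sum]
          refine Submodule.sum_mem _ fun l _ => ?_
          rw [← T_lof]
          exact Submodule.smul_mem _ (⟨T t l, Algebra.subset_adjoin ⟨l, rfl⟩⟩ : A) (ih j (by omega) (y l))
  have hfin : Module.Finite A (⨁ p, D p) :=
    ⟨htop ▸ Submodule.fg_span ((F.finite_toSet).image _)⟩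
  have hcomm : ∀ a ∈ Algebra.adjoin R S, a * T t 0 = T t 0 * a := fun a ha => by
    induction ha using Algebra.adjoin_induction with
    | mem z hz => exact hS z hz _ ⟨0, rfl⟩
    | algebraMap r => exact Algebra.commutes r (T t 0)
    | add a b _ _ ha hb => rw [add_mul, mul_add, ha, hb]
    | mul a b _ _ ha hb => rw [mul_assoc, hb, ← mul_assoc, ha, mul_assoc]
  let Q : Submodule A (⨁ p, D p) :=
    { carrier := {e | T t 0 e = 0}
      zero_mem' := map_zero _
      add_mem' := fun {a b} ha hb => by
        show T t 0 (a + b) = 0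
        rw [map_add, show T t 0 a = 0 from ha, show T t 0 b = 0 from hb, add_zero]
      smul_mem' := fun a e he => by
        show T t 0 (a.1 e) = 0
        rw [show T t 0 (a.1 e) = (T t 0 * a.1) e from rfl, ← hcomm a.1 a.2, Module.End.mul_apply,
          show T t 0 e = 0 from he, map_zero] }
  obtain ⟨G, hG⟩ := (isNoetherian_def.mp (inferInstance : IsNoetherian A (⨁ p, D p))) Q
  refine ⟨G.sup (fun g => (DFinsupp.support g).sup id), fun p hp z hz => ?_⟩
  let Sub : ∀ p, Submodule R (D (p + 1)) := fun p =>
    ⨆ l : Fin N, (LinearMap.ker (t 0 p)).map (t l.succ p)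
  have hz' : DirectSum.lof R ℕ D (p + 1) z ∈ Q := by
    show T t 0 _ = 0
    rw [T_lof, hz, map_zero]
  have act : ∀ a ∈ Algebra.adjoin R S, ∀ e ∈ Q, ∀ q : ℕ,
      (a e) (q + 1) ∈ Sub q ⊔ R ∙ e (q + 1) := fun a ha => by
    induction ha using Algebra.adjoin_induction with
    | mem w hw =>
      obtain ⟨l, rfl⟩ := hw
      intro e he q
      rw [T_apply_succ]
      have h0 : t 0 q (e q) = 0 := by
        rw [← T_apply_succ t 0 e q, show T t 0 e = 0 from he]
        rfl
      rcases Fin.eq_zero_or_eq_succ l with rfl | ⟨l, rfl⟩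
      · rw [h0]; exact zero_mem _
      · exact Submodule.mem_sup_left (Submodule.mem_iSup_of_mem l ⟨e q, h0, rfl⟩)
    | algebraMap r =>
      intro e _ q
      exact Submodule.mem_sup_right (Submodule.mem_span_singleton.mpr ⟨r, rfl⟩)
    | add a b _ _ ha hb => exact fun e he q => add_mem (ha e he q) (hb e he q)
    | mul a b ha' hb' ha hb =>
      intro e he q
      have hbe : b e ∈ Q := Q.smul_mem (⟨b, hb'⟩ : A) he
      exact (sup_le le_sup_left ((Submodule.span_singleton_le_iff_mem _ _).mpr (hb e he q)))
        (ha (b e) hbe q)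
  have key : ∀ e ∈ Submodule.span A (G : Set (⨁ p, D p)),
      e ∈ Q ∧ e (p + 1) ∈ Sub p := fun e he => by
    induction he using Submodule.span_induction with
    | mem g hg =>
      refine ⟨hG ▸ Submodule.subset_span hg, ?_⟩
      have : g (p + 1) = 0 := DFinsupp.notMem_support_iff.mp fun hmem => by
        have h1 : p + 1 ≤ (DFinsupp.support g).sup id := Finset.le_sup (f := id) hmem
        have h2 := Finset.le_sup (f := fun g : ⨁ p, D p => (DFinsupp.support g).sup id) hg
        omega
      rw [this]; exact zero_mem _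
    | zero => exact ⟨zero_mem _, by simp⟩
    | add a b _ _ ha hb => exact ⟨add_mem ha.1 hb.1, by simpa using add_mem ha.2 hb.2⟩
    | smul a e _ he =>
      exact ⟨Q.smul_mem a he.1,
        (sup_le le_rfl ((Submodule.span_singleton_le_iff_mem _ _).mpr he.2)) (act a.1 a.2 e he.1 p)⟩
  have hmem := (key _ (hG.symm ▸ hz')).2
  rw [DirectSum.lof_eq_of, DirectSum.of_eq_same] at hmem
  obtain ⟨w, hw, hsum⟩ := (Submodule.mem_iSup_iff_exists_finsupp _ _).mp hmem
  choose y hy hyw using fun l => Submodule.mem_map.mp (hw l)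
  refine ⟨y, hy, ?_⟩
  simp only [hyw]
  rw [← hsum, Finsupp.sum_fintype _ _ fun _ => rfl]

end Groth.Agent.BigVol.GradedKernel
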