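import Groth.Agent.BigVol.HilbKey
import Groth.Agent.BigVol.HilbBC

/-!
The Hilbert strata of a coherent module on projective space over a Noetherian scheme, and the
polynomial bounds on the Euler characteristics of the fibres.
-/

set_option autoImplicit false
set_option linter.style.haveILetI false

open CategoryTheory CategoryTheory.Limits AlgebraicGeometry TopologicalSpace Polynomial

universe u

noncomputable section

namespace Groth.Agent.BigVol.HilbClosed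

open Groth.Agent.TwistFlat

variable {S₀ : Scheme.{u}} [IsNoetherian S₀] (N : ℕ) {F₀ : (CohB1.ProjSpaceOver N S₀).Modules}

/-- The strata by Hilbert polynomials, in terms of the Euler characteristics of the fibres. -/
theorem exists_strata_chi [IsProper (CohB1.ProjSpaceOver.toBase N S₀)] (hF₀ : Coh.IsCoh F₀) :
    ∃ (M : ℕ) (c : ℕ) (St : Fin c → Scheme.{u}) (e : ∀ i, St i ⟶ S₀) (P : Fin c → ℚ[X]),
      (∀ i, IsImmersion (e i)) ∧ Function.Injective P ∧
      (∀ s : S₀, ∃ i, s ∈ Set.range (e i)) ∧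
      (∀ (i : Fin c) (s : S₀) (m : ℕ), s ∈ Set.range (e i) →
        (chiFib (CohB1.ProjSpaceOver.toBase N S₀) (Twist.twistOver N S₀ 1) F₀ s m : ℚ) =
          (P i).eval (m : ℚ)) ∧
      (∀ (i j : Fin c) (x : S₀) (m : ℕ), M ≤ m → x ∈ closure (Set.range (e i)) → x ∈ Set.range (e j) →
        (P i).eval (m : ℚ) ≤ (P j).eval (m : ℚ)) ∧
      ∀ (T : Scheme.{u}) [IsLocallyNoetherian T] (φ : T ⟶ S₀),
        FlatMod.IsFlatOver (CohB1.ProjSpaceOver.toBase N T)
            ((Scheme.Modules.pullback (FGA.projMap N φ)).obj F₀) ↔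
          ∃ g : T ⟶ ∐ St, g ≫ Limits.Sigma.desc e = φ := by
  obtain ⟨M, c, St, e, P, he, hinj, -, hcov, hval, hu⟩ := exists_hilb_strata N (F := F₀) hF₀
  have hL : RelAmple.IsRelAmple (CohB1.ProjSpaceOver.toBase N S₀) (Twist.twistOver N S₀ 1) :=
    ProjMor.isRelAmple_twistOver N S₀
  refine ⟨M, c, St, e, P, he, hinj, hcov, fun i s m hs => ?_, fun i j x m hm hx hxj => ?_, hu⟩
  · obtain ⟨Q, hQ⟩ := exists_poly_chiFib (CohB1.ProjSpaceOver.toBase N S₀) _ F₀ hL hF₀ s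
    obtain ⟨M', hM'⟩ := exists_forall_euler_eq_fibreRank (f := CohB1.ProjSpaceOver.toBase N S₀) hL hF₀
      (IsPullback.of_hasPullback (CohB1.ProjSpaceOver.toBase N S₀) (S₀.fromSpecResidueField s))
    have hQP : Q = P i := poly_eq_of_eventually (max M M') fun j hj => by
      rw [← hQ j, hval i s j ((le_max_left _ _).trans hj) hs]
      exact_mod_cast hM' j ((le_max_right _ _).trans hj)
    rw [hQ m, hQP]
  · obtain ⟨y, hy⟩ := (closure_nonempty_iff.1 ⟨x, hx⟩ : (Set.range (e i)).Nonempty)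
    haveI := isQCoh_push_tw hL hF₀ m
    rw [hval i y m hm hy, hval j x m hm hxj, Nat.cast_le]
    refine le_fibreRank_of_mem_closure _ (isFT_push_tw hL hF₀ m) (fun z hz => le_of_eq ?_) hx
    exact_mod_cast (hval i y m hm hy).symm.trans (hval i z m hm hz)

/-- The locus where the Euler characteristics of the fibres eventually dominate a polynomial. -/
theorem isClosed_chi_ge [IsProper (CohB1.ProjSpaceOver.toBase N S₀)] (hF₀ : Coh.IsCoh F₀)
    (Ψ : ℚ[X]) :
    IsClosed {s : S₀ | ∃ M : ℕ, ∀ m : ℕ, M ≤ m → Ψ.eval (m : ℚ) ≤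
      (chiFib (CohB1.ProjSpaceOver.toBase N S₀) (Twist.twistOver N S₀ 1) F₀ s m : ℚ)} := by
  obtain ⟨M, c, St, e, P, -, -, hcov, hval, hcl, -⟩ := exists_strata_chi N hF₀
  let Good : Fin c → Prop := fun i => ∃ M : ℕ, ∀ m : ℕ, M ≤ m → Ψ.eval (m : ℚ) ≤ (P i).eval (m : ℚ)
  rw [← closure_subset_iff_isClosed]
  intro x hx
  obtain ⟨j, hj⟩ := hcov x
  have hsub : {s : S₀ | ∃ M : ℕ, ∀ m : ℕ, M ≤ m → Ψ.eval (m : ℚ) ≤
      (chiFib (CohB1.ProjSpaceOver.toBase N S₀) (Twist.twistOver N S₀ 1) F₀ s m : ℚ)} ⊆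
      ⋃ i ∈ {i | Good i}, Set.range (e i) := by
    rintro s ⟨M', hM'⟩
    obtain ⟨i, hi⟩ := hcov s
    exact Set.mem_iUnion₂.2 ⟨i, ⟨M', fun m hm => hval i s m hi ▸ hM' m hm⟩, hi⟩
  have hx' := closure_mono hsub hx
  rw [(Set.toFinite _).closure_biUnion] at hx'
  obtain ⟨i, ⟨M', hM'⟩, hxi⟩ := Set.mem_iUnion₂.1 hx'
  exact ⟨max M M', fun m hm => (hM' m ((le_max_right _ _).trans hm)).trans
    ((hcl i j x m ((le_max_left _ _).trans hm) hxi hj).trans_eq (hval j x m hj).symm)⟩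

/-- A rational polynomial has eventually constant sign. -/
theorem eventually_nonneg_or_neg (R : ℚ[X]) :
    ∃ M : ℕ, (∀ n : ℕ, M ≤ n → 0 ≤ R.eval (n : ℚ)) ∨ ∀ n : ℕ, M ≤ n → R.eval (n : ℚ) < 0 := by
  have key : ∀ R : ℚ[X], 0 ≤ R.leadingCoeff → ∃ M : ℕ, ∀ n : ℕ, M ≤ n → 0 ≤ R.eval (n : ℚ) := fun R hR => by
    by_cases hd : 0 < R.degree
    · have h := (tendsto_natCast_atTop_atTop (R := ℚ)).eventually
        ((R.tendsto_atTop_of_leadingCoeff_nonneg hd hR).eventually_ge_atTop 0)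
      exact Filter.eventually_atTop.1 h
    · rw [Polynomial.eq_C_of_degree_le_zero (not_lt.1 hd)] at hR ⊢
      exact ⟨0, fun n _ => by simpa using hR⟩
  rcases le_or_gt 0 R.leadingCoeff with h | h
  · obtain ⟨M, hM⟩ := key R h
    exact ⟨M, Or.inl hM⟩
  · obtain ⟨M, hM⟩ := key (-R) (by simp [h.le])
    obtain ⟨M', hM'⟩ : ∃ M' : ℕ, ∀ n : ℕ, M' ≤ n → R.eval (n : ℚ) ≠ 0 := by
      have hfin : {n : ℕ | R.eval (n : ℚ) = 0}.Finite :=
        (R.finite_setOfPred_isRoot fun h0 => by simp [h0] at h).preimage (fun a _ b _ hab => Nat.cast_injective hab)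
      obtain ⟨B, hB⟩ := hfin.bddAbove
      exact ⟨B + 1, fun n hn h0 => absurd (hB h0) (by omega)⟩
    refine ⟨max M M', Or.inr fun n hn => lt_of_le_of_ne ?_ (hM' n ((le_max_right _ _).trans hn))⟩
    have := hM n ((le_max_left _ _).trans hn)
    simp only [eval_neg] at this
    linarith

/-- Eventual positivity is detected on multiples. -/
theorem exists_ge_of_multiples (R : ℚ[X]) {k : ℕ} (hk : 0 < k) (M : ℕ)
    (h : ∀ m : ℕ, M ≤ m → 0 ≤ R.eval ((k * m : ℕ) : ℚ)) : ∃ M' : ℕ, ∀ n : ℕ, M' ≤ n → 0 ≤ R.eval (n : ℚ) := by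
  obtain ⟨M₁, h₁ | h₁⟩ := eventually_nonneg_or_neg R
  · exact ⟨M₁, h₁⟩
  · have := h₁ (k * max M M₁) ((le_max_right _ _).trans (Nat.le_mul_of_pos_left _ hk))
    exact absurd (h _ (le_max_left M M₁)) (not_le.2 this)

end Groth.Agent.BigVol.HilbClosed
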