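import Groth.Agent.CBC.Stage
import Groth.Agent.FDesc.BaseChangeStalk
import Groth.Agent.CMReg.FieldBC

/-!
Flatness of a module over the source of a base change.
-/

set_option autoImplicit false
set_option linter.style.haveILetI false

open CategoryTheory CategoryTheory.Limits AlgebraicGeometry

universe u

noncomputable section

namespace Groth.Agent.BigVol.HilbFlat

variable {X Y S T T' X' : Scheme.{u}}

theorem isFlatOver_iso (f : X ⟶ S) {M N : X.Modules} (e : M ≅ N) (h : FlatMod.IsFlatOver f M) :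
    FlatMod.IsFlatOver f N := fun x => (CBC.isFlatOverAt_congr_iso f e x).1 (h x)

/-- Flatness is stable under base change. -/
theorem isFlatOver_bc {f : X ⟶ S} {F : X.Modules} {p : X' ⟶ X} {q : X' ⟶ T} {g : T ⟶ S}
    (H : IsPullback p q f g) (h : FlatMod.IsFlatOver f F) :
    FlatMod.IsFlatOver q ((Scheme.Modules.pullback p).obj F) :=
  fun x => FDesc.BaseChangeStalk.flatOverAt_baseChange H x F (h (p x))

/-- The pullback of `F` to `T` is flat over `T`. -/
abbrev FlatC (f : X ⟶ S) (F : X.Modules) (g : T ⟶ S) : Prop :=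
  FlatMod.IsFlatOver (pullback.snd f g) ((Scheme.Modules.pullback (pullback.fst f g)).obj F)

variable {f : X ⟶ S} {F : X.Modules}

/-- Any model of the base change may be used. -/
theorem flatC_iff {g : T ⟶ S} {p : X' ⟶ X} {q : X' ⟶ T} (H : IsPullback p q f g) :
    FlatC f F g ↔ FlatMod.IsFlatOver q ((Scheme.Modules.pullback p).obj F) := by
  let e := H.isoPullback
  have he₁ : e.hom ≫ pullback.fst f g = p := H.isoPullback_hom_fst
  have he₂ : e.hom ≫ pullback.snd f g = q := H.isoPullback_hom_snd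
  have he₁' : e.inv ≫ p = pullback.fst f g := H.isoPullback_inv_fst
  refine ⟨fun h => ?_, fun h => ?_⟩
  · exact isFlatOver_iso q ((Scheme.Modules.pullbackComp e.hom _).app F ≪≫
      (Scheme.Modules.pullbackCongr he₁).app F)
      (isFlatOver_bc (IsPullback.of_horiz_isIso ⟨by rw [he₂, Category.comp_id]⟩ :
        IsPullback e.hom q (pullback.snd f g) (𝟙 T)) h)
  · exact isFlatOver_iso _ ((Scheme.Modules.pullbackComp e.inv _).app F ≪≫
      (Scheme.Modules.pullbackCongr he₁').app F)
      (isFlatOver_bc (IsPullback.of_horiz_isIso ⟨by rw [Category.comp_id]; exact H.isoPullback_inv_snd⟩ :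
        IsPullback e.inv (pullback.snd f g) q (𝟙 T)) h)

/-- The square between two base changes. -/
theorem exists_square (f : X ⟶ S) (a : T' ⟶ T) (g : T ⟶ S) :
    ∃ p : pullback f (a ≫ g) ⟶ pullback f g, p ≫ pullback.fst f g = pullback.fst f (a ≫ g) ∧
      IsPullback p (pullback.snd f (a ≫ g)) (pullback.snd f g) a := by
  let p : pullback f (a ≫ g) ⟶ pullback f g := pullback.lift (pullback.fst f (a ≫ g))
    (pullback.snd f (a ≫ g) ≫ a) (by rw [Category.assoc]; exact pullback.condition)
  refine ⟨p, pullback.lift_fst _ _ _, IsPullback.of_right (h₁₂ := pullback.fst f g) (v₁₃ := f)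
    (h₂₂ := g) ?_ (pullback.lift_snd _ _ _) (IsPullback.of_hasPullback f g)⟩
  rw [pullback.lift_fst]
  exact IsPullback.of_hasPullback f (a ≫ g)

theorem flatC_comp (a : T' ⟶ T) {g : T ⟶ S} (h : FlatC f F g) : FlatC f F (a ≫ g) := by
  obtain ⟨p, hp, H⟩ := exists_square f a g
  exact isFlatOver_iso _ ((Scheme.Modules.pullbackComp p _).app F ≪≫
    (Scheme.Modules.pullbackCongr hp).app F) (isFlatOver_bc H h)

theorem flatC_local {g : T ⟶ S}
    (h : ∀ t : T, ∃ (T' : Scheme.{u}) (a : T' ⟶ T), IsOpenImmersion a ∧ t ∈ Set.range a ∧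
      FlatC f F (a ≫ g)) : FlatC f F g := by
  intro x
  obtain ⟨T', a, ha, ⟨t', ht'⟩, hfl⟩ := h (pullback.snd f g x)
  obtain ⟨p, hp, H⟩ := exists_square f a g
  obtain ⟨x', hx', -⟩ := Scheme.exists_preimage_of_isPullback H x t' ht'.symm
  subst hx'
  refine FDesc.BaseChangeStalk.flatOverAt_of_baseChange H x' _ ?_ ?_
  · haveI : IsIso (a.stalkMap (pullback.snd f (a ≫ g) x')) := inferInstance
    exact RingHom.Flat.of_bijective (ConcreteCategory.bijective_of_isIso _)
  · exact isFlatOver_iso _ (((Scheme.Modules.pullbackCongr hp.symm).app F) ≪≫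
      ((Scheme.Modules.pullbackComp p _).app F).symm) hfl x'

theorem flatC_field (f : X ⟶ S) (F : X.Modules) {K : Type u} [Field K]
    (g : Spec (CommRingCat.of K) ⟶ S) : FlatC f F g :=
  CMReg.isFlatOver_field _ _

end Groth.Agent.BigVol.HilbFlat
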