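import Groth.Agent.MagnetLib.RepGlue
import Mathlib.AlgebraicGeometry.Sites.BigZariski
import Mathlib.AlgebraicGeometry.Morphisms.Immersion
import Mathlib.AlgebraicGeometry.Morphisms.FinitePresentation

/-!
Gluing locally representable conditions on morphisms to a monomorphism.
-/

set_option autoImplicit false
set_option linter.style.haveILetI false

open CategoryTheory CategoryTheory.Limits AlgebraicGeometry Opposite

universe u

noncomputable section

namespace Groth.Agent.BigVol.HilbGlue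

/-- A condition on morphisms to `S` which is stable under composition, local on the source and
represented over every affine open by a monomorphism is represented by a monomorphism, which has
every target-local property of the local ones. -/
theorem exists_of_local {S : Scheme.{u}} (C : ∀ {T : Scheme.{u}}, (T ⟶ S) → Prop)
    (hcomp : ∀ {T T' : Scheme.{u}} (a : T' ⟶ T) (g : T ⟶ S), C g → C (a ≫ g))
    (hlocal : ∀ {T : Scheme.{u}} (g : T ⟶ S), (∀ t : T, ∃ (T' : Scheme.{u}) (a : T' ⟶ T),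
      IsOpenImmersion a ∧ t ∈ Set.range a ∧ C (a ≫ g)) → C g)
    (W : S.affineOpens → Scheme.{u}) (w : ∀ V, W V ⟶ V.1.toScheme) [∀ V, Mono (w V)]
    (hw : ∀ (V : S.affineOpens) (T : Scheme.{u}) (φ : T ⟶ V.1.toScheme),
      (∃ h, h ≫ w V = φ) ↔ C (φ ≫ V.1.ι)) :
    ∃ (Z : Scheme.{u}) (i : Z ⟶ S), Mono i ∧
      (∀ (T : Scheme.{u}) (g : T ⟶ S), (∃ h, h ≫ i = g) ↔ C g) ∧
      ∀ (P : MorphismProperty Scheme.{u}) [IsZariskiLocalAtTarget P], (∀ V, P (w V)) → P i := by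
  let F : (Over S)ᵒᵖ ⥤ Type u :=
    { obj := fun T => ULift.{u} (PLift (C T.unop.hom))
      map := fun {T T'} a => TypeCat.ofHom fun h => ⟨⟨by
        rw [← Over.w a.unop]; exact hcomp _ _ h.down.down⟩⟩ }
  have hF : Presieve.IsSheaf (Scheme.zariskiTopology.{u}.over S) F := by
    intro T R hR
    rw [← Presieve.isSeparatedFor_and_exists_isAmalgamation_iff_isSheafFor]
    refine ⟨fun x t₁ t₂ _ _ => Subsingleton.elim _ _, fun x _ => ?_⟩
    have hC : C T.hom := by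
      have h : Sieve.overEquiv T R ∈ Scheme.zariskiTopology.{u} T.left := hR
      obtain ⟨R', hR', hle⟩ := Precoverage.mem_toGrothendieck_iff_of_isStableUnderComposition.1 h
      refine hlocal _ fun t => ?_
      obtain ⟨T', a, ha, hta⟩ := (Presieve.mem_comap_jointlySurjectivePrecoverage_iff _).1 hR'.1 t
      exact ⟨T', a, hR'.2 ha, hta, (x _ ((Sieve.overEquiv_iff R a).1 (hle _ a ha))).down.down⟩
    exact ⟨⟨⟨hC⟩⟩, fun Y f hf => Subsingleton.elim _ _⟩
  have hY : ∃ Y : Over S, Nonempty (F.RepresentableBy Y) := by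
    refine MagnetLib.RepGlue.representable_of_openCover F hF
      (ι := S.affineOpens) (fun V => Over.mk (w V ≫ V.1.ι))
      (fun V => (⟨⟨(hw V _ (w V)).1 ⟨𝟙 _, Category.id_comp _⟩⟩⟩ :
        F.obj (op (Over.mk (w V ≫ V.1.ι)))))
      (fun V T a b _ => Over.OverMorphism.ext ((cancel_mono (w V ≫ V.1.ι)).1
        ((Over.w a).trans (Over.w b).symm)))
      (fun V T z => ⟨T.hom ⁻¹ᵁ V.1, fun T' a => ⟨?_, fun hU => ?_⟩⟩)
      (fun T z t => ?_)
    · rintro ⟨b, -⟩ _ ⟨t, rfl⟩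
      show T.hom (a.left t) ∈ V.1
      rw [← Scheme.Hom.comp_apply, Over.w a, ← Over.w b]
      exact (V.1.range_ι).le ⟨_, rfl⟩
    · have hr : Set.range T'.hom ⊆ Set.range V.1.ι := by
        rintro _ ⟨t, rfl⟩
        rw [Scheme.Opens.range_ι, ← Over.w a]
        exact hU ⟨t, rfl⟩
      have hfac := IsOpenImmersion.lift_fac V.1.ι T'.hom hr
      obtain ⟨b, hb⟩ := (hw V _ (IsOpenImmersion.lift V.1.ι T'.hom hr)).2
        (by rw [hfac, ← Over.w a]; exact hcomp _ _ z.down.down)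
      exact ⟨Over.homMk b (by show b ≫ w V ≫ V.1.ι = _; rw [← Category.assoc, hb, hfac]),
        Subsingleton.elim _ _⟩
    · obtain ⟨V, hV, htV, -⟩ := exists_isAffineOpen_mem_and_subset (U := (⊤ : S.Opens)) (x := T.hom t) trivial
      let U : T.left.Opens := T.hom ⁻¹ᵁ V
      have hr : Set.range (U.ι ≫ T.hom) ⊆ Set.range V.ι := by
        rintro _ ⟨x, rfl⟩
        rw [Scheme.Opens.range_ι]
        exact x.2
      have hfac := IsOpenImmersion.lift_fac V.ι (U.ι ≫ T.hom) hr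
      obtain ⟨b, hb⟩ := (hw ⟨V, hV⟩ _ (IsOpenImmersion.lift V.ι (U.ι ≫ T.hom) hr)).2
        (by rw [hfac]; exact hcomp _ _ z.down.down)
      exact ⟨⟨V, hV⟩, Over.mk (U.ι ≫ T.hom), Over.homMk U.ι rfl, inferInstanceAs (IsOpenImmersion U.ι),
        ⟨⟨t, htV⟩, rfl⟩, Over.homMk b (by show b ≫ w ⟨V, hV⟩ ≫ V.ι = _; rw [← Category.assoc, hb, hfac]; rfl),
        Subsingleton.elim _ _⟩
  obtain ⟨Y, ⟨r⟩⟩ := hY
  have huniv : ∀ (T : Scheme.{u}) (g : T ⟶ S), (∃ h, h ≫ Y.hom = g) ↔ C g := fun T g => by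
    refine ⟨fun ⟨h, hh⟩ => ?_, fun hg => ?_⟩
    · exact (r.homEquiv (Over.homMk h hh : Over.mk g ⟶ Y)).down.down
    · exact ⟨(r.homEquiv.symm (⟨⟨hg⟩⟩ : F.obj (op (Over.mk g)))).left, Over.w _⟩
  have hmono : Mono Y.hom := ⟨fun {T} a b hab => by
    have h := r.homEquiv.injective (Subsingleton.elim
      (r.homEquiv (Over.homMk a rfl : Over.mk (a ≫ Y.hom) ⟶ Y))
      (r.homEquiv (Over.homMk b hab.symm : Over.mk (a ≫ Y.hom) ⟶ Y)))
    exact congrArg CommaMorphism.left h⟩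
  refine ⟨Y.left, Y.hom, hmono, huniv, fun P _ hP => ?_⟩
  refine IsZariskiLocalAtTarget.of_iSup_eq_top (fun V : S.affineOpens => (V : S.Opens))
    (iSup_affineOpens_eq_top S) fun V => ?_
  have sq := isPullback_morphismRestrict Y.hom V.1
  obtain ⟨a, ha⟩ := (hw V _ (Y.hom ∣_ V.1)).2 ((huniv _ _).1 ⟨(Y.hom ⁻¹ᵁ V.1).ι, sq.w.symm⟩)
  obtain ⟨c, hc⟩ := (huniv _ (w V ≫ V.1.ι)).2 ((hw V _ (w V)).1 ⟨𝟙 _, Category.id_comp _⟩)
  let b := sq.lift (w V) c hc.symm
  have hb : b ≫ (Y.hom ∣_ V.1) = w V := sq.lift_fst _ _ _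
  haveI : Mono (Y.hom ∣_ V.1) :=
    (MorphismProperty.monomorphisms Scheme.{u}).of_isPullback sq.flip hmono
  let e : (Y.hom ⁻¹ᵁ V.1).toScheme ≅ W V :=
    { hom := a
      inv := b
      hom_inv_id := (cancel_mono (Y.hom ∣_ V.1)).1 (by rw [Category.assoc, hb, ha, Category.id_comp])
      inv_hom_id := (cancel_mono (w V)).1 (by rw [Category.assoc, ha, hb, Category.id_comp]) }
  haveI : IsIso e.hom := ⟨e.inv, e.hom_inv_id, e.inv_hom_id⟩
  have : P (e.hom ≫ w V) := (P.cancel_left_of_respectsIso e.hom (w V)).2 (hP V)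
  exact (show e.hom ≫ w V = Y.hom ∣_ V.1 from ha) ▸ this

end Groth.Agent.BigVol.HilbGlue
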