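import Groth.Agent.BigVol.HilbModel
import Groth.Agent.BigVol.Basic
import Groth.Agent.TwistFlat.HilbStrata
import Groth.Agent.EulerChar.Push

/-!
The Euler characteristics of the fibres of a family with an ample module in terms of a model on
projective space over a Noetherian base.
-/

set_option autoImplicit false
set_option linter.style.haveILetI false

open CategoryTheory CategoryTheory.Limits AlgebraicGeometry TopologicalSpace

universe u

noncomputable section

namespace Groth.Agent.BigVol.HilbKey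

open Groth.Agent.ProjTwist

variable {X S S₀ : Scheme.{u}}


/-- Twists of a push forward along a closed immersion. -/
theorem nonempty_tensorMod_push {P : Scheme.{u}} (ι : X ⟶ P) [IsClosedImmersion ι]
    (K : P.Modules) (E : X.Modules) :
    Nonempty (CohB1.tensorMod ((Scheme.Modules.pushforward ι).obj E) K ≅
      (Scheme.Modules.pushforward ι).obj (CohB1.tensorMod E ((Scheme.Modules.pullback ι).obj K))) :=
  ⟨tensComm ((Scheme.Modules.pushforward ι).obj E) K ≪≫
    (show CohB1.tensorMod K ((Scheme.Modules.pushforward ι).obj E) ≅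
        (Scheme.Modules.pushforward ι).obj (CohB1.tensorMod ((Scheme.Modules.pullback ι).obj K) E) from
      (ChgRings.projIso ι E).app K) ≪≫
    (Scheme.Modules.pushforward ι).mapIso (tensComm ((Scheme.Modules.pullback ι).obj K) E)⟩

/-- The twists of the model. -/
theorem nonempty_model_twist {L F : X.Modules} (hL : PicF.IsInvertible L)
    {k N : ℕ} (g : S ⟶ S₀) (F₀ : (CohB1.ProjSpaceOver N S₀).Modules)
    (ι : X ⟶ CohB1.ProjSpaceOver N S) [IsClosedImmersion ι]
    (eG : (Scheme.Modules.pullback (FGA.projMap N g)).obj F₀ ≅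
      (Scheme.Modules.pushforward ι).obj F)
    (eL : CohB1.tensorPow L k ≅
      (Scheme.Modules.pullback (ι ≫ FGA.projMap N g)).obj (Twist.twistOver N S₀ 1)) (m : ℕ) :
    Nonempty ((Scheme.Modules.pullback (FGA.projMap N g)).obj
        (CohB1.tensorMod F₀ (CohB1.tensorPow (Twist.twistOver N S₀ 1) m)) ≅
      (Scheme.Modules.pushforward ι).obj (CohB1.tensorMod F (CohB1.tensorPow L (k * m)))) := by
  obtain ⟨e1⟩ := AmpleLib.exists_iso_pullback_tensorPow (ι ≫ FGA.projMap N g)
    (KRRLib.isInvertible_twistOver (n := N) (T := S₀) 1) m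
  obtain ⟨e2⟩ := FormalFun.nonempty_tensorPow_congr eL.symm m
  obtain ⟨e3⟩ := nonempty_pow_mul hL k m
  obtain ⟨e4⟩ := nonempty_tensorMod_push ι ((Scheme.Modules.pullback (FGA.projMap N g)).obj
    (CohB1.tensorPow (Twist.twistOver N S₀ 1) m)) F
  exact ⟨KFlat.PullTensor.pullTensorIso (FGA.projMap N g) F₀ _ ≪≫ tensCongr eG (Iso.refl _) ≪≫ e4 ≪≫
    (Scheme.Modules.pushforward ι).mapIso (tensCongr (Iso.refl F)
      ((Scheme.Modules.pullbackComp ι (FGA.projMap N g)).app _ ≪≫ e1 ≪≫ e2 ≪≫ e3))⟩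

/-- The Euler characteristics of the fibres are those of the model. -/
theorem chiFib_eq [IsNoetherian S₀] (f : X ⟶ S) [IsProper f] {L F : X.Modules}
    (hL : PicF.IsInvertible L) [Coh.IsQCoh F]
    {k N : ℕ} (g : S ⟶ S₀) {F₀ : (CohB1.ProjSpaceOver N S₀).Modules} (hF₀ : Coh.IsCoh F₀)
    [IsProper (CohB1.ProjSpaceOver.toBase N S₀)]
    (ι : X ⟶ CohB1.ProjSpaceOver N S) [IsClosedImmersion ι]
    (hι : ι ≫ CohB1.ProjSpaceOver.toBase N S = f)
    (eG : (Scheme.Modules.pullback (FGA.projMap N g)).obj F₀ ≅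
      (Scheme.Modules.pushforward ι).obj F)
    (eL : CohB1.tensorPow L k ≅
      (Scheme.Modules.pullback (ι ≫ FGA.projMap N g)).obj (Twist.twistOver N S₀ 1))
    (s : S) (m : ℕ) :
    TwistFlat.chiFib f L F s (k * m) =
      TwistFlat.chiFib (CohB1.ProjSpaceOver.toBase N S₀) (Twist.twistOver N S₀ 1) F₀ (g s) m := by
  let K := S.residueField s
  let x := S.fromSpecResidueField s
  let πS := CohB1.ProjSpaceOver.toBase N S
  let p := pullback.fst πS x
  let q := pullback.snd πS x
  let j : f.fiber s ⟶ pullback πS x := pullback.lift (f.fiberι s ≫ ι) (f.fiberToSpecResidueField s)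
    (by rw [Category.assoc, hι]; exact pullback.condition)
  have hj₁ : j ≫ p = f.fiberι s ≫ ι := pullback.lift_fst _ _ _
  have hj₂ : j ≫ q = f.fiberToSpecResidueField s := pullback.lift_snd _ _ _
  have hsq : IsPullback (f.fiberι s) j ι p := by
    refine IsPullback.of_bot (v₂₁ := q) (v₂₂ := πS) ?_ hj₁.symm (IsPullback.of_hasPullback πS x)
    rw [hι, hj₂]
    exact IsPullback.of_hasPullback f x
  have hbig : IsPullback (p ≫ FGA.projMap N g) q (CohB1.ProjSpaceOver.toBase N S₀) (x ≫ g) :=
    (IsPullback.of_hasPullback πS x).paste_horiz (TwistFlat.isPullback_projMap N g)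
  haveI : IsClosedImmersion j := MorphismProperty.of_isPullback (P := @IsClosedImmersion) hsq ‹_›
  haveI : IsLocallyNoetherian (CohB1.ProjSpaceOver N S₀) :=
    LocallyOfFiniteType.isLocallyNoetherian (CohB1.ProjSpaceOver.toBase N S₀)
  haveI : CompactSpace (CohB1.ProjSpaceOver N S₀) :=
    QuasiCompact.compactSpace_of_compactSpace (CohB1.ProjSpaceOver.toBase N S₀)
  haveI : AlgebraicGeometry.IsNoetherian (CohB1.ProjSpaceOver N S₀) := {}
  let G := CohB1.tensorMod F₀ (CohB1.tensorPow (Twist.twistOver N S₀ 1) m)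
  have hG : Coh.IsCoh G := by
    have hinv := AmpleLib.isInvertible_tensorPow (KRRLib.isInvertible_twistOver (n := N) (T := S₀) 1) m
    exact CohDev.isCoh_of_iso (tensComm _ _) (CohDev.isCoh_tens (isFinLocFreeOfRank_one hinv) hF₀)
  obtain ⟨eM⟩ := nonempty_model_twist hL g F₀ ι eG eL m
  let M := CohB1.tensorMod F (CohB1.tensorPow L (k * m))
  haveI : F.IsQuasicoherent := ‹Coh.IsQCoh F›
  haveI : Coh.IsQCoh M := TwistFlat.isQCoh_twist F L hL _
  obtain ⟨eB⟩ := HilbModel.nonempty_bc ι p (f.fiberι s) j hsq M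
  obtain ⟨z⟩ : Nonempty ↥(Spec (CommRingCat.of K)) := inferInstance
  have h := FieldPoint.euler_fieldPoint (f := CohB1.ProjSpaceOver.toBase N S₀) hG (x ≫ g)
    (p ≫ FGA.projMap N g) q hbig z
  have hz : (x ≫ g) z = g s := congrArg g (Scheme.fromSpecResidueField_apply s z)
  have h' := h
  clear h
  change _ = TwistFlat.chiFib (CohB1.ProjSpaceOver.toBase N S₀) (Twist.twistOver N S₀ 1) F₀
    ((x ≫ g) z) m at h'
  rw [hz] at h'
  refine Eq.trans ?_ h'
  letI : (pullback πS x).Over (Spec (CommRingCat.of K)) := ⟨q⟩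
  letI : (f.fiber s).Over (Spec (CommRingCat.of K)) := ⟨f.fiberToSpecResidueField s⟩
  haveI : IsProper ((pullback πS x) ↘ Spec (CommRingCat.of K)) :=
    show IsProper q from MorphismProperty.of_isPullback (P := @IsProper) hbig ‹_›
  haveI : IsProper ((f.fiber s) ↘ Spec (CommRingCat.of K)) :=
    inferInstanceAs (IsProper (pullback.snd f (S.fromSpecResidueField s)))
  haveI hMs : Coh.IsQCoh ((Scheme.Modules.pullback (f.fiberι s)).obj M) :=
    QCoh.isQuasicoherent_pullback (f.fiberι s) M
  have h2 := EulerChar.euler_push (k := (K : Type u)) j hj₂ ((Scheme.Modules.pullback (f.fiberι s)).obj M) hMs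
  exact h2.symm.trans (EulerChar.euler_iso K (eB.symm ≪≫ (Scheme.Modules.pullback p).mapIso eM.symm ≪≫
    (Scheme.Modules.pullbackComp p (FGA.projMap N g)).app G))

end Groth.Agent.BigVol.HilbKey
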