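import Groth.Agent.BigVol.HilbClosed
import Groth.Agent.Props.AmpleFrames

/-!
Restriction of a proper finitely presented family with a relatively ample module to an affine open
of the base, and the model there.
-/

set_option autoImplicit false
set_option linter.style.haveILetI false

open CategoryTheory CategoryTheory.Limits AlgebraicGeometry TopologicalSpace Polynomial

universe u

noncomputable section

namespace Groth.Agent.BigVol.HilbLocal

open Groth.Agent.TwistFlat

variable {X S : Scheme.{u}} {f : X ⟶ S} [IsProper f] [LocallyOfFinitePresentation f] {L F : X.Modules}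

omit [IsProper f] [LocallyOfFinitePresentation f] in
/-- Invertibility of a relatively ample module. -/
theorem isInvertible (hL : RelAmple.IsRelAmple f L) : PicF.IsInvertible L :=
  AmpleLib.isInvertible_of_isRelAmple hL

/-- Over an affine open the Euler characteristics of the fibres on multiples of some `k > 0` are
those of a coherent module on a projective space over a Noetherian base. -/
theorem exists_local_model (hL : RelAmple.IsRelAmple f L) (hF : CohB1.IsFP F) {V : S.Opens}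
    (hV : IsAffineOpen V) :
    ∃ (k N : ℕ) (S₀ : Scheme.{u}) (g : V.toScheme ⟶ S₀)
      (F₀ : (CohB1.ProjSpaceOver N S₀).Modules)
      (ι : (f ⁻¹ᵁ V).toScheme ⟶ CohB1.ProjSpaceOver N V.toScheme),
      0 < k ∧ IsAffine S₀ ∧ Algebra.FiniteType ℤ Γ(S₀, ⊤) ∧ IsNoetherian S₀ ∧ Coh.IsCoh F₀ ∧ IsClosedImmersion ι ∧
        ι ≫ CohB1.ProjSpaceOver.toBase N V.toScheme = f ∣_ V ∧
        Nonempty ((Scheme.Modules.pullback (FGA.projMap N g)).obj F₀ ≅
          (Scheme.Modules.pushforward ι).obj ((Scheme.Modules.pullback (f ⁻¹ᵁ V).ι).obj F)) ∧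
        ∀ (v : V.toScheme) (m : ℕ), chiFib f L F (V.ι v) (k * m) =
          chiFib (CohB1.ProjSpaceOver.toBase N S₀) (Twist.twistOver N S₀ 1) F₀ (g v) m := by
  haveI : IsAffine V.toScheme := hV
  haveI := FibCodepth.isQuasicoherent_of_isFP hF
  obtain ⟨hFq, hF'⟩ := ConsPairLib.isFP_pullback (f ⁻¹ᵁ V).ι F hF
  haveI := hFq
  have hL' : CohB1.IsAmple ((Scheme.Modules.pullback (f ⁻¹ᵁ V).ι).obj L) :=
    Props.AmpleFrames.isAmple_of_iso ((Scheme.Modules.restrictFunctorIsoPullback _).app _) (hL.2 ⟨V, hV⟩)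
  obtain ⟨k, N, S₀, g, F₀, ι, hk, hS₀, hft, hS₀', hF₀, hι, hιf, ⟨eG⟩, ⟨eL⟩⟩ :=
    HilbModel.exists_model (f ∣_ V) hL' ((Scheme.Modules.pullback (f ⁻¹ᵁ V).ι).obj F) hF'
  haveI := hS₀'
  haveI := hι
  haveI : IsProper (CohB1.ProjSpaceOver.toBase N S₀) := isProper_toBase N S₀
  refine ⟨k, N, S₀, g, F₀, ι, hk, hS₀, hft, hS₀', hF₀, hι, hιf, ⟨eG⟩, fun v m => ?_⟩
  rw [← HilbKey.chiFib_eq (f ∣_ V) (PicCl.isInvertible_pullback (f ⁻¹ᵁ V).ι (isInvertible hL)) g hF₀ ι hιf eG eL v m,
    HilbBC.chiFib_bc (isInvertible hL) hF (isPullback_morphismRestrict f V).flip v (k * m)]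

/-- The locus where the Euler characteristics of the fibres eventually dominate a polynomial is
closed. -/
theorem isClosed_ge (hL : RelAmple.IsRelAmple f L) (hF : CohB1.IsFP F) (Φ : ℚ[X]) :
    IsClosed {s : S | ∃ N : ℕ, ∀ n : ℕ, N ≤ n → Φ.eval (n : ℚ) ≤ (chiFib f L F s n : ℚ)} := by
  classical
  have hcov : TopologicalSpace.IsOpenCover (fun V : S.affineOpens => (V : S.Opens)) :=
    iSup_affineOpens_eq_top S
  rw [hcov.isClosed_iff_coe_preimage]
  intro V
  obtain ⟨k, N, S₀, g, F₀, ι, hk, -, -, hS₀', hF₀, -, -, -, hχ⟩ := exists_local_model hL hF V.2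
  haveI := hS₀'
  haveI : IsProper (CohB1.ProjSpaceOver.toBase N S₀) := isProper_toBase N S₀
  let E := {s : S₀ | ∃ M : ℕ, ∀ m : ℕ, M ≤ m → (Φ.comp ((k : ℚ[X]) * Polynomial.X)).eval (m : ℚ) ≤
    (chiFib (CohB1.ProjSpaceOver.toBase N S₀) (Twist.twistOver N S₀ 1) F₀ s m : ℚ)}
  have hpre : g ⁻¹' E = {v : V.1.toScheme | ∃ N : ℕ, ∀ n : ℕ, N ≤ n →
      Φ.eval (n : ℚ) ≤ (chiFib f L F (V.1.ι v) n : ℚ)} := by
    ext v
    refine ⟨fun ⟨M, hM⟩ => ?_, fun ⟨M, hM⟩ => ⟨M, fun m hm => ?_⟩⟩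
    · obtain ⟨Q, hQ⟩ := HilbBC.exists_poly (f := f) (isInvertible hL) hF (V.1.ι v)
      obtain ⟨M', hM'⟩ := HilbClosed.exists_ge_of_multiples (Q - Φ) hk M fun m hm => by
        have := hM m hm
        simp only [eval_comp, eval_mul, eval_natCast, eval_X] at this
        rw [← hχ v m, hQ (k * m)] at this
        simp only [eval_sub, Nat.cast_mul] at this ⊢
        linarith
      exact ⟨M', fun n hn => by rw [hQ n]; simpa [sub_nonneg] using hM' n hn⟩
    · rw [← hχ v m]
      simpa using hM (k * m) (hm.trans (Nat.le_mul_of_pos_left _ hk))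
  have h := (HilbClosed.isClosed_chi_ge N hF₀ (Φ.comp ((k : ℚ[X]) * Polynomial.X))).preimage g.continuous
  rw [hpre] at h
  exact h

end Groth.Agent.BigVol.HilbLocal
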