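import Groth.Agent.BigVol.HilbClosed
import Groth.Agent.BigVol.HilbFlat
import Groth.Agent.HomShQC.Basic

/-!
A Hilbert stratum over a finite type affine scheme represents flatness with the given Hilbert
polynomial on all schemes.
-/

set_option autoImplicit false
set_option linter.style.haveILetI false

open CategoryTheory CategoryTheory.Limits AlgebraicGeometry TopologicalSpace Polynomial

universe u

noncomputable section

namespace Groth.Agent.BigVol.HilbUniv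

open Groth.Agent.TwistFlat

variable {S₀ : Scheme.{u}} (N : ℕ) (F₀ : (CohB1.ProjSpaceOver N S₀).Modules)

/-- The pullback of `F₀` to `P^N_T` is flat over `T`. -/
abbrev Flat0 {T : Scheme.{u}} (φ : T ⟶ S₀) : Prop :=
  FlatMod.IsFlatOver (CohB1.ProjSpaceOver.toBase N T) ((Scheme.Modules.pullback (FGA.projMap N φ)).obj F₀)

theorem flat0_iff {T : Scheme.{u}} (φ : T ⟶ S₀) :
    Flat0 N F₀ φ ↔ HilbFlat.FlatC (CohB1.ProjSpaceOver.toBase N S₀) F₀ φ :=
  (HilbFlat.flatC_iff (isPullback_projMap N φ)).symm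

theorem flat0_comp {T T' : Scheme.{u}} (a : T' ⟶ T) {φ : T ⟶ S₀} (h : Flat0 N F₀ φ) :
    Flat0 N F₀ (a ≫ φ) :=
  (flat0_iff N F₀ _).2 (HilbFlat.flatC_comp a ((flat0_iff N F₀ φ).1 h))

variable [IsAffine S₀] [IsNoetherian S₀] [Algebra.FiniteType ℤ Γ(S₀, ⊤)] {F₀}

/-- A flat pullback to an affine scheme comes from a flat pullback to a Noetherian scheme. -/
theorem exists_flat_factor (hF₀ : Coh.IsCoh F₀) {A : CommRingCat.{u}} (φ : Spec A ⟶ S₀)
    (h : Flat0 N F₀ φ) :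
    ∃ (T' : Scheme.{u}) (_ : IsLocallyNoetherian T') (a : Spec A ⟶ T') (b : T' ⟶ S₀),
      a ≫ b = φ ∧ Flat0 N F₀ b := by
  let ψ : Γ(S₀, ⊤) →ₐ[ℤ] A := RingHom.toIntAlgHom ((φ.appTop ≫ (Scheme.ΓSpecIso A).hom).hom)
  let A₁ : Subalgebra ℤ A := ψ.range
  have hA₁ : A₁.FG := by
    have := (Algebra.FiniteType.out (R := ℤ) (A := Γ(S₀, ⊤))).map ψ
    rwa [Algebra.map_top] at this
  let b₁ : Spec (CommRingCat.of A₁) ⟶ S₀ :=
    Spec.map (CommRingCat.ofHom ψ.rangeRestrict.toRingHom) ≫ S₀.isoSpec.inv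
  let a₁ : Spec A ⟶ Spec (CommRingCat.of A₁) := Spec.map (CommRingCat.ofHom A₁.val.toRingHom)
  have hab : a₁ ≫ b₁ = φ := by
    rw [← cancel_mono S₀.isoSpec.hom, Category.assoc, Category.assoc, Iso.inv_hom_id,
      Category.comp_id, ← Spec.map_comp]
    have e : CommRingCat.ofHom ψ.rangeRestrict.toRingHom ≫ CommRingCat.ofHom A₁.val.toRingHom =
        φ.appTop ≫ (Scheme.ΓSpecIso A).hom := by
      ext x
      rfl
    rw [e, Spec.map_comp, ← Scheme.isoSpec_Spec_hom, Scheme.isoSpec_hom_naturality]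
  haveI : Coh.IsQCoh F₀ := hF₀.1
  haveI : IsProper (CohB1.ProjSpaceOver.toBase N S₀) := isProper_toBase N _
  haveI : IsLocallyNoetherian (CohB1.ProjSpaceOver N S₀) :=
    LocallyOfFiniteType.isLocallyNoetherian (CohB1.ProjSpaceOver.toBase N S₀)
  obtain ⟨hG₁q, hG₁⟩ := ConsPairLib.isFP_pullback (FGA.projMap N b₁) F₀ (HomShQC.isFP_of_isCoh _ hF₀)
  haveI := hG₁q
  haveI : IsProper (CohB1.ProjSpaceOver.toBase N (Spec (CommRingCat.of A₁))) := isProper_toBase N _
  haveI : Algebra.FiniteType ℤ A₁ := (Subalgebra.fg_iff_finiteType A₁).mp hA₁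
  haveI : IsNoetherianRing A₁ := Algebra.FiniteType.isNoetherianRing ℤ A₁
  haveI : LocallyOfFinitePresentation (CohB1.ProjSpaceOver.toBase N (Spec (CommRingCat.of A₁))) :=
    inferInstance
  have h₁ : FlatMod.IsFlatOver (CohB1.ProjSpaceOver.toBase N (Spec (CommRingCat.of A)))
      ((Scheme.Modules.pullback (FGA.projMap N a₁)).obj ((Scheme.Modules.pullback (FGA.projMap N b₁)).obj F₀)) :=
    HilbFlat.isFlatOver_iso _ ((Scheme.Modules.pullbackCongr
      (by rw [HilbModel.projMap_comp, hab])).app F₀ ≪≫ ((Scheme.Modules.pullbackComp _ _).app F₀).symm) h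
  obtain ⟨A₂, hA₂, hle, hfl⟩ := CBC.exists_flat_stage A₁ hA₁ (CohB1.ProjSpaceOver.toBase N _)
    (CohB1.ProjSpaceOver.toBase N _) (FGA.projMap N a₁) (isPullback_projMap N a₁)
    ((Scheme.Modules.pullback (FGA.projMap N b₁)).obj F₀) hG₁ h₁
  haveI : Algebra.FiniteType ℤ A₂ := (Subalgebra.fg_iff_finiteType A₂).mp hA₂
  haveI : IsNoetherianRing A₂ := Algebra.FiniteType.isNoetherianRing ℤ A₂
  refine ⟨Spec (CommRingCat.of A₂), inferInstance, Spec.map (CommRingCat.ofHom A₂.val.toRingHom),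
    Spec.map (CommRingCat.ofHom (CBC.incl hle)) ≫ b₁, ?_, (flat0_iff N F₀ _).2 ?_⟩
  · rw [← Category.assoc, ← Spec.map_comp]
    exact hab
  · obtain ⟨p, hp, H⟩ := HilbFlat.exists_square (CohB1.ProjSpaceOver.toBase N S₀)
      (Spec.map (CommRingCat.ofHom (CBC.incl hle))) b₁
    refine (HilbFlat.flatC_iff (((IsPullback.of_hasPullback _ _).paste_horiz
      (isPullback_projMap N b₁)) : IsPullback (pullback.fst (CohB1.ProjSpaceOver.toBase N _)
        (Spec.map (CommRingCat.ofHom (CBC.incl hle))) ≫ FGA.projMap N b₁) _ _ _)).2 ?_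
    exact HilbFlat.isFlatOver_iso _ ((Scheme.Modules.pullbackComp _ _).app F₀) hfl

/-- The stratum of a polynomial. -/
theorem exists_stratum [IsProper (CohB1.ProjSpaceOver.toBase N S₀)] (hF₀ : Coh.IsCoh F₀) (Φ : ℚ[X]) :
    ∃ (W : Scheme.{u}) (e : W ⟶ S₀), IsImmersion e ∧
      Set.range e = {s : S₀ | ∀ m : ℕ,
        (chiFib (CohB1.ProjSpaceOver.toBase N S₀) (Twist.twistOver N S₀ 1) F₀ s m : ℚ) = Φ.eval (m : ℚ)} ∧
      ∀ (T : Scheme.{u}) (φ : T ⟶ S₀),
        (∃ h, h ≫ e = φ) ↔ Flat0 N F₀ φ ∧ ∀ t : T, φ t ∈ Set.range e := by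
  classical
  obtain ⟨M, c, St, e, P, he, hinj, hcov, hval, -, hu⟩ := HilbClosed.exists_strata_chi N hF₀
  have hmem : ∀ (i : Fin c) (s : S₀), s ∈ Set.range (e i) → ((∀ m : ℕ,
      (chiFib (CohB1.ProjSpaceOver.toBase N S₀) (Twist.twistOver N S₀ 1) F₀ s m : ℚ) = Φ.eval (m : ℚ)) ↔
      P i = Φ) := fun i s hs =>
    ⟨fun h => poly_eq_of_eventually 0 fun m _ => by rw [← hval i s m hs, h m],
      fun h m => by rw [hval i s m hs, h]⟩
  by_cases hΦ : ∃ i, P i = Φ
  · obtain ⟨i, hi⟩ := hΦ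
    haveI := he
    have hdisj : ∀ (j : Fin c) (s : S₀), s ∈ Set.range (e i) → s ∈ Set.range (e j) → j = i :=
      fun j s h h' => hinj (((hmem j s h').1 ((hmem i s h).2 hi)).trans hi.symm)
    refine ⟨St i, e i, he i, Set.ext fun s => ⟨fun hs => (hmem i s hs).2 hi, fun hs => ?_⟩, fun T φ => ?_⟩
    · obtain ⟨j, hj⟩ := hcov s
      rwa [← hinj (((hmem j s hj).1 hs).trans hi.symm)]
    · haveI : IsLocallyNoetherian (St i) := LocallyOfFiniteType.isLocallyNoetherian (e i)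
      refine ⟨fun ⟨h, hh⟩ => ?_, fun ⟨hfl, hpt⟩ => ?_⟩
      · subst hh
        exact ⟨flat0_comp N F₀ h ((hu (St i) (e i)).2 ⟨Limits.Sigma.ι St i, Limits.Sigma.ι_desc e i⟩),
          fun t => ⟨h t, rfl⟩⟩
      · let 𝒰 := T.affineCover
        have key : ∀ (R : CommRingCat.{u}) (ρ : Spec R ⟶ T), ∃ h : Spec R ⟶ St i, h ≫ e i = ρ ≫ φ := by
          intro R ρ
          obtain ⟨T', _, a, b, hab, hb⟩ := exists_flat_factor N hF₀ (ρ ≫ φ) (flat0_comp N F₀ _ hfl)
          obtain ⟨g, hg⟩ := (hu T' b).1 hb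
          have hag : (a ≫ g) ≫ Limits.Sigma.desc e = ρ ≫ φ := by rw [Category.assoc, hg, hab]
          have hr : Set.range (a ≫ g) ⊆ Set.range (Limits.Sigma.ι St i) := by
            rintro _ ⟨z, rfl⟩
            obtain ⟨j, y, hy⟩ : ∃ (j : Fin c) (y : St j), Limits.Sigma.ι St j y = (a ≫ g) z := by
              obtain ⟨⟨j⟩, y, hy⟩ := (Scheme.IsLocallyDirected.openCover (Discrete.functor St)).exists_eq ((a ≫ g) z)
              exact ⟨j, y, hy⟩
            have h1 : e j y = (ρ ≫ φ) z := by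
              have h2 := congrArg (fun m : Spec R ⟶ S₀ => m z) hag
              have h3 := congrArg (fun m : St j ⟶ S₀ => m y) (Limits.Sigma.ι_desc e j)
              refine h3.symm.trans (Eq.trans ?_ h2)
              exact congrArg (Limits.Sigma.desc e) hy
            obtain rfl := hdisj j _ (hpt (ρ z)) ⟨y, h1⟩
            exact ⟨y, hy⟩
          refine ⟨IsOpenImmersion.lift (Limits.Sigma.ι St i) (a ≫ g) hr, ?_⟩
          rw [← Limits.Sigma.ι_desc e i, IsOpenImmersion.lift_fac_assoc, hag]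
        replace key : ∀ x, ∃ h : 𝒰.X x ⟶ St i, h ≫ e i = 𝒰.f x ≫ φ := fun x => key _ (𝒰.f x)
        choose h hh using key
        refine ⟨𝒰.glueMorphisms h fun x y => ?_, 𝒰.hom_ext _ _ fun x => ?_⟩
        · rw [← cancel_mono (e i), Category.assoc, Category.assoc, hh, hh, ← Category.assoc,
            pullback.condition, Category.assoc]
        · rw [𝒰.ι_glueMorphisms_assoc, hh]
  · have hempty : ∀ s : S₀, ¬ ∀ m : ℕ,
        (chiFib (CohB1.ProjSpaceOver.toBase N S₀) (Twist.twistOver N S₀ 1) F₀ s m : ℚ) = Φ.eval (m : ℚ) :=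
      fun s hs => hΦ ⟨_, (hmem _ s (hcov s).choose_spec).1 hs⟩
    refine ⟨∅, Scheme.emptyTo S₀, inferInstance, ?_, fun T φ => ⟨fun ⟨h, hh⟩ => ?_, fun ⟨_, hpt⟩ => ?_⟩⟩
    · rw [Set.range_eq_empty]
      exact (Set.eq_empty_of_forall_notMem fun s hs => hempty s hs).symm
    · haveI : IsEmpty T := ⟨fun t => (h t).elim⟩
      exact ⟨fun x => isEmptyElim (CohB1.ProjSpaceOver.toBase N T x), fun t => isEmptyElim t⟩
    · haveI : IsEmpty T := ⟨fun t => (hpt t).choose.elim⟩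
      exact ⟨isInitialOfIsEmpty.to _, isInitialOfIsEmpty.hom_ext _ _⟩

end Groth.Agent.BigVol.HilbUniv
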