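import Groth.Agent.BigVol.HilbLocal
import Groth.Agent.BigVol.HilbUniv
import Groth.Agent.BigVol.HilbGlue
import Groth.Agent.S9349

/-!
The flattening stratum of a Hilbert polynomial.
-/

set_option autoImplicit false
set_option linter.style.haveILetI false

open CategoryTheory CategoryTheory.Limits AlgebraicGeometry TopologicalSpace Polynomial

universe u

noncomputable section

namespace Groth.Agent.BigVol.HilbStratum

open Groth.Agent.TwistFlat

/-- Flatness over the source of a base change, through a closed embedding in projective space. -/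
theorem flatC_iff_flat0 {U V S₀ T : Scheme.{u}} {N : ℕ} (f : U ⟶ V)
    (ι : U ⟶ CohB1.ProjSpaceOver N V) [IsClosedImmersion ι]
    (hι : ι ≫ CohB1.ProjSpaceOver.toBase N V = f) (G : U.Modules) [Coh.IsQCoh G] (g : V ⟶ S₀)
    {F₀ : (CohB1.ProjSpaceOver N S₀).Modules}
    (eG : (Scheme.Modules.pullback (FGA.projMap N g)).obj F₀ ≅ (Scheme.Modules.pushforward ι).obj G)
    (φ : T ⟶ V) : HilbFlat.FlatC f G φ ↔ HilbUniv.Flat0 N F₀ (φ ≫ g) := by
  let j : pullback f φ ⟶ CohB1.ProjSpaceOver N T := (isPullback_projMap N φ).lift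
    (pullback.fst f φ ≫ ι) (pullback.snd f φ) (by rw [Category.assoc, hι]; exact pullback.condition)
  have hj₁ : j ≫ FGA.projMap N φ = pullback.fst f φ ≫ ι := IsPullback.lift_fst _ _ _ _
  have hj₂ : j ≫ CohB1.ProjSpaceOver.toBase N T = pullback.snd f φ := IsPullback.lift_snd _ _ _ _
  have hsq : IsPullback (pullback.fst f φ) j ι (FGA.projMap N φ) := by
    refine IsPullback.of_bot (v₂₁ := CohB1.ProjSpaceOver.toBase N T)
      (v₂₂ := CohB1.ProjSpaceOver.toBase N V) ?_ hj₁.symm (isPullback_projMap N φ)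
    rw [hι, hj₂]
    exact IsPullback.of_hasPullback f φ
  haveI : IsClosedImmersion j := MorphismProperty.of_isPullback (P := @IsClosedImmersion) hsq ‹_›
  obtain ⟨eB⟩ := HilbModel.nonempty_bc ι (FGA.projMap N φ) (pullback.fst f φ) j hsq G
  haveI : G.IsQuasicoherent := ‹Coh.IsQCoh G›
  have hq : Coh.IsQCoh ((Scheme.Modules.pullback (pullback.fst f φ)).obj G) :=
    QCoh.isQuasicoherent_pullback _ G
  have h9 := S9349.result j (CohB1.ProjSpaceOver.toBase N T)
    ((Scheme.Modules.pullback (pullback.fst f φ)).obj G) hq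
  rw [hj₂] at h9
  let e : (Scheme.Modules.pullback (FGA.projMap N (φ ≫ g))).obj F₀ ≅
      (Coh.push j).obj ((Scheme.Modules.pullback (pullback.fst f φ)).obj G) :=
    (Scheme.Modules.pullbackCongr (HilbModel.projMap_comp N φ g).symm).app F₀ ≪≫
      ((Scheme.Modules.pullbackComp _ _).app F₀).symm ≪≫
      (Scheme.Modules.pullback (FGA.projMap N φ)).mapIso eG ≪≫ eB
  exact h9.trans ⟨HilbFlat.isFlatOver_iso _ e.symm, HilbFlat.isFlatOver_iso _ e⟩

variable {X S : Scheme.{u}} {f : X ⟶ S} [IsProper f] [LocallyOfFinitePresentation f] {L F : X.Modules}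

/-- The flattening condition with Hilbert polynomial `Φ`. -/
abbrev Cond (f : X ⟶ S) [IsProper f] (L F : X.Modules) (Φ : ℚ[X]) {T : Scheme.{u}} (g : T ⟶ S) : Prop :=
  HilbFlat.FlatC f F g ∧ ∀ (t : T) (n : ℕ), (chiFib f L F (g t) n : ℚ) = Φ.eval (n : ℚ)

/-- The stratum over an affine open. -/
theorem exists_local (hL : RelAmple.IsRelAmple f L) (hF : CohB1.IsFP F) (Φ : ℚ[X]) (V : S.affineOpens) :
    ∃ (W : Scheme.{u}) (w : W ⟶ V.1.toScheme), IsImmersion w ∧ QuasiCompact w ∧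
      LocallyOfFinitePresentation w ∧
      ∀ (T : Scheme.{u}) (φ : T ⟶ V.1.toScheme), (∃ h, h ≫ w = φ) ↔ Cond f L F Φ (φ ≫ V.1.ι) := by
  obtain ⟨k, N, S₀, g, F₀, ι, hk, hS₀, hft, hS₀', hF₀, hι, hιf, ⟨eG⟩, hχ⟩ :=
    HilbLocal.exists_local_model hL hF V.2
  haveI := hS₀; haveI := hS₀'; haveI := hft; haveI := hι
  haveI : IsProper (CohB1.ProjSpaceOver.toBase N S₀) := isProper_toBase N S₀
  obtain ⟨St, e, he, hr, hu⟩ := HilbUniv.exists_stratum N hF₀ (Φ.comp ((k : ℚ[X]) * Polynomial.X))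
  haveI := he
  haveI : TopologicalSpace.NoetherianSpace St := e.isEmbedding.isInducing.noetherianSpace
  haveI : QuasiCompact e := ⟨fun U _ _ => TopologicalSpace.NoetherianSpace.isCompact _⟩
  haveI : LocallyOfFinitePresentation e := inferInstance
  refine ⟨pullback g e, pullback.fst g e, inferInstance, inferInstance, inferInstance, fun T φ => ?_⟩
  haveI := FibCodepth.isQuasicoherent_of_isFP hF
  haveI : Coh.IsQCoh ((Scheme.Modules.pullback (f ⁻¹ᵁ V.1).ι).obj F) :=
    QCoh.isQuasicoherent_pullback _ F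
  have hpt : ∀ v : V.1.toScheme, g v ∈ Set.range e ↔
      ∀ n : ℕ, (chiFib f L F (V.1.ι v) n : ℚ) = Φ.eval (n : ℚ) := fun v => by
    rw [hr, Set.mem_ofPred_eq]
    refine ⟨fun h => ?_, fun h m => ?_⟩
    · obtain ⟨Q, hQ⟩ := HilbBC.exists_poly (f := f) (HilbLocal.isInvertible hL) hF (V.1.ι v)
      have hQΦ : Q.comp ((k : ℚ[X]) * Polynomial.X) = Φ.comp ((k : ℚ[X]) * Polynomial.X) :=
        poly_eq_of_eventually 0 fun m _ => by
          rw [← h m, ← hχ v m, hQ (k * m)]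
          simp
      have : Q = Φ := Polynomial.eq_of_infinite_eval_eq Q Φ
        ((Set.infinite_range_of_injective (f := fun j : ℕ => ((k * j : ℕ) : ℚ))
          fun a b hab => Nat.eq_of_mul_eq_mul_left hk (Nat.cast_injective (R := ℚ) hab)).mono (by
            rintro _ ⟨j, rfl⟩
            have := congrArg (Polynomial.eval (j : ℚ)) hQΦ
            simpa using this))
      intro n
      rw [hQ n, this]
    · rw [← hχ v m, h (k * m)]
      simp
  have hflat : HilbFlat.FlatC f F (φ ≫ V.1.ι) ↔ HilbUniv.Flat0 N F₀ (φ ≫ g) := by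
    rw [← flatC_iff_flat0 (f ∣_ V.1) ι hιf ((Scheme.Modules.pullback (f ⁻¹ᵁ V.1).ι).obj F) g eG φ,
      HilbFlat.flatC_iff ((IsPullback.of_hasPullback (f ∣_ V.1) φ).paste_horiz
        (isPullback_morphismRestrict f V.1).flip)]
    exact ⟨HilbFlat.isFlatOver_iso _ ((Scheme.Modules.pullbackComp _ _).app F).symm,
      HilbFlat.isFlatOver_iso _ ((Scheme.Modules.pullbackComp _ _).app F)⟩
  constructor
  · rintro ⟨h, rfl⟩
    obtain ⟨hfl, hpts⟩ := (hu T ((h ≫ pullback.fst g e) ≫ g)).1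
      ⟨h ≫ pullback.snd g e, by rw [Category.assoc, Category.assoc, pullback.condition]⟩
    exact ⟨hflat.2 hfl, fun t => (hpt _).1 (hpts t)⟩
  · rintro ⟨hfl, hpts⟩
    obtain ⟨h, hh⟩ := (hu T (φ ≫ g)).2 ⟨hflat.1 hfl, fun t => (hpt _).2 (hpts t)⟩
    exact ⟨pullback.lift φ h hh.symm, pullback.lift_fst _ _ _⟩

/-- The stratum over `S`. -/
theorem exists_stratum (hL : RelAmple.IsRelAmple f L) (hF : CohB1.IsFP F) (Φ : ℚ[X]) :
    ∃ (W : Scheme.{u}) (i : W ⟶ S), IsImmersion i ∧ QuasiCompact i ∧ LocallyOfFinitePresentation i ∧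
      Set.range i = {s : S | ∀ n : ℕ, (chiFib f L F s n : ℚ) = Φ.eval (n : ℚ)} ∧
      ∀ (T : Scheme.{u}) (g : T ⟶ S), (∃ h, h ≫ i = g) ↔ Cond f L F Φ g := by
  choose W w hw₁ hw₂ hw₃ hw using fun V => exists_local hL hF Φ V
  obtain ⟨Z, i, -, huniv, hP⟩ := HilbGlue.exists_of_local (fun {T} g => Cond f L F Φ g)
    (fun a g h => ⟨HilbFlat.flatC_comp a h.1, fun t => h.2 (a t)⟩)
    (fun {T} g h => ⟨HilbFlat.flatC_local fun t => by
      obtain ⟨T', a, ha, ht, hc⟩ := h t
      exact ⟨T', a, ha, ht, hc.1⟩, fun t n => by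
      obtain ⟨T', a, ha, ⟨t', rfl⟩, hc⟩ := h t
      exact hc.2 t' n⟩)
    W w hw
  refine ⟨Z, i, hP @IsImmersion hw₁, hP @QuasiCompact hw₂, hP @LocallyOfFinitePresentation hw₃,
    Set.ext fun s => ⟨?_, fun hs => ?_⟩, huniv⟩
  · rintro ⟨z, rfl⟩
    exact ((huniv Z i).1 ⟨𝟙 _, Category.id_comp _⟩).2 z
  · obtain ⟨h, hh⟩ := (huniv _ (S.fromSpecResidueField s)).2
      ⟨HilbFlat.flatC_field f F (K := S.residueField s) (S.fromSpecResidueField s), fun z n => by
        rw [Scheme.fromSpecResidueField_apply]; exact hs n⟩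
    obtain ⟨z⟩ : Nonempty ↥(Spec (S.residueField s)) := inferInstance
    refine ⟨h z, ?_⟩
    rw [← Scheme.Hom.comp_apply, hh]
    exact Scheme.fromSpecResidueField_apply s z

end Groth.Agent.BigVol.HilbStratum
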