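import Mathlib

/-!
Hopf's lemma: over an algebraically closed field `k`, for finite dimensional nonzero `k`-subspaces
`V`, `W` of a field, `dim (V W) ≥ dim V + dim W - 1`; and the same for vectors with tensor products
as products.
-/

set_option autoImplicit false

open scoped TensorProduct Pointwise

namespace Groth.Agent.BigVol.HopfLemma

variable {k F : Type*} [Field k] [IsAlgClosed k] [Field F] [Algebra k F]

theorem mem_range_of_mul_mem {V : Submodule k F} (hV : V.FG) (hne : V ≠ ⊥) {w : F}
    (h : ∀ v ∈ V, w * v ∈ V) : w ∈ (⊥ : Subalgebra k F) := by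
  obtain ⟨v, hv, hv0⟩ := Submodule.exists_mem_ne_zero_of_ne_bot hne
  have hw : IsIntegral k w := isIntegral_of_smul_mem_submodule V hne hV w h
  have := IsAlgClosed.degree_eq_one_of_irreducible k (minpoly.irreducible hw)
  exact Algebra.mem_bot.mpr (RingHom.mem_range.mp (minpoly.degree_eq_one_iff.mp this))

theorem finrank_map_mulLeft {c : F} (hc : c ≠ 0) (V : Submodule k F) :
    Module.finrank k (V.map (LinearMap.mulLeft k c)) = Module.finrank k V :=
  (Submodule.equivMapOfInjective (LinearMap.mulLeft k c) (mul_right_injective₀ hc) V).symm.finrank_eq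

theorem finrank_mul_add_one_of_one_mem : ∀ (b : ℕ) (V W : Submodule k F) [Module.Finite k V]
    [Module.Finite k W], Module.finrank k W = b → (1 : F) ∈ V → (1 : F) ∈ W →
    Module.finrank k V + Module.finrank k W ≤ Module.finrank k ↥(V * W) + 1 := by
  intro b
  induction b using Nat.strong_induction_on with
  | _ b ih =>
    intro V W _ _ hb hV hW
    have hVfg : V.FG := (Submodule.fg_top V).mp Module.Finite.fg_top
    have hWfg : W.FG := (Submodule.fg_top W).mp Module.Finite.fg_top
    haveI : Module.Finite k ↥(V * W) := Module.Finite.iff_fg.mpr (hVfg.mul hWfg)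
    by_cases h : ∀ e ∈ V, ∀ w ∈ W, e * w ∈ V
    · have hW1 : W ≤ k ∙ (1 : F) := fun w hw => by
        obtain ⟨c, rfl⟩ := Algebra.mem_bot.mp (mem_range_of_mul_mem hVfg
          (fun h0 => one_ne_zero ((Submodule.mem_bot k).mp (h0 ▸ hV))) (w := w)
          fun v hv => mul_comm v w ▸ h v hv w hw)
        exact Submodule.mem_span_singleton.mpr ⟨c, (Algebra.algebraMap_eq_smul_one c).symm⟩
      have h1 : Module.finrank k W ≤ 1 :=
        (Submodule.finrank_mono hW1).trans (finrank_span_singleton (one_ne_zero (α := F))).le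
      have h2 : V ≤ V * W := fun v hv => mul_one v ▸ Submodule.mul_mem_mul hv hW
      have := Submodule.finrank_mono h2
      omega
    · push Not at h
      obtain ⟨e, he, w, hw, hew⟩ := h
      have he0 : e ≠ 0 := fun h0 => hew (by rw [h0, zero_mul]; exact zero_mem V)
      let A := W.map (LinearMap.mulLeft k e)
      let W' := (V ⊓ A).map (LinearMap.mulLeft k e⁻¹)
      let V' := V ⊔ A
      haveI : Module.Finite k V' := Module.Finite.iff_fg.mpr (hVfg.sup (hWfg.map _))
      have hinf : (V ⊓ A).FG := by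
        haveI : FiniteDimensional k ↥(V ⊓ A) := Submodule.finiteDimensional_of_le inf_le_left
        exact (Submodule.fg_top _).mp Module.Finite.fg_top
      haveI : Module.Finite k W' := Module.Finite.iff_fg.mpr (hinf.map _)
      have hW'W : W' ≤ W := by
        rintro _ ⟨_, ⟨-, z, hz, rfl⟩, rfl⟩
        simpa [LinearMap.mulLeft_apply, inv_mul_cancel_left₀ he0] using hz
      have hnot : w ∉ W' := by
        rintro ⟨z, ⟨hzV, -⟩, hz⟩
        refine hew ?_
        rw [← hz, LinearMap.mulLeft_apply, mul_inv_cancel_left₀ he0]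
        exact hzV
      have hlt : Module.finrank k W' < b := hb ▸ Submodule.finrank_lt_finrank_of_lt
        (lt_of_le_of_ne hW'W fun h' => hnot (h' ▸ hw))
      have h1V : (1 : F) ∈ V' := Submodule.mem_sup_left hV
      have h1W : (1 : F) ∈ W' :=
        ⟨e, ⟨he, 1, hW, mul_one e⟩, inv_mul_cancel₀ he0⟩
      have hle : V' * W' ≤ V * W := by
        rw [Submodule.sup_mul]
        refine sup_le (mul_le_mul' le_rfl hW'W) (Submodule.mul_le.mpr ?_)
        rintro _ ⟨z, hz, rfl⟩ _ ⟨y, ⟨hy, -⟩, rfl⟩
        rw [LinearMap.mulLeft_apply, LinearMap.mulLeft_apply,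
          show e * z * (e⁻¹ * y) = y * z by field_simp]
        exact Submodule.mul_mem_mul hy hz
      have key := ih _ hlt V' W' rfl h1V h1W
      have := Submodule.finrank_mono hle
      have hsum := Submodule.finrank_sup_add_finrank_inf_eq V A
      have hA : Module.finrank k A = Module.finrank k W := finrank_map_mulLeft he0 W
      have hW' : Module.finrank k W' = Module.finrank k ↥(V ⊓ A) := finrank_map_mulLeft (inv_ne_zero he0) _
      have hV' : Module.finrank k V' = Module.finrank k ↥(V ⊔ A) := rfl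
      omega

theorem finrank_mul_add_one (V W : Submodule k F) [Module.Finite k V] [Module.Finite k W]
    (hV : V ≠ ⊥) (hW : W ≠ ⊥) :
    Module.finrank k V + Module.finrank k W ≤ Module.finrank k ↥(V * W) + 1 := by
  obtain ⟨v, hv, hv0⟩ := Submodule.exists_mem_ne_zero_of_ne_bot hV
  obtain ⟨w, hw, hw0⟩ := Submodule.exists_mem_ne_zero_of_ne_bot hW
  have key := finrank_mul_add_one_of_one_mem _ (V.map (LinearMap.mulLeft k v⁻¹))
    (W.map (LinearMap.mulLeft k w⁻¹)) rfl ⟨v, hv, inv_mul_cancel₀ hv0⟩ ⟨w, hw, inv_mul_cancel₀ hw0⟩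
  have h : V.map (LinearMap.mulLeft k v⁻¹) * W.map (LinearMap.mulLeft k w⁻¹) ≤
      (V * W).map (LinearMap.mulLeft k (v⁻¹ * w⁻¹)) := by
    refine Submodule.mul_le.mpr ?_
    rintro _ ⟨a, ha, rfl⟩ _ ⟨b, hb, rfl⟩
    exact ⟨a * b, Submodule.mul_mem_mul ha hb, by simp [LinearMap.mulLeft_apply]; ring⟩
  haveI : Module.Finite k ↥(V * W) := Module.Finite.iff_fg.mpr
    (((Submodule.fg_top V).mp Module.Finite.fg_top).mul ((Submodule.fg_top W).mp Module.Finite.fg_top))
  have := Submodule.finrank_mono h
  rw [finrank_map_mulLeft (mul_ne_zero (inv_ne_zero hv0) (inv_ne_zero hw0))] at this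
  rw [finrank_map_mulLeft (inv_ne_zero hv0), finrank_map_mulLeft (inv_ne_zero hw0)] at key
  omega

/-- Hopf's lemma for a pairing that becomes a product in a field. -/
theorem finrank_add_le_of_pairing {V W P : Type*} [AddCommGroup V] [Module k V] [Module.Finite k V]
    [AddCommGroup W] [Module k W] [Module.Finite k W] [AddCommGroup P] [Module k P] [Module.Finite k P]
    [Nontrivial V] [Nontrivial W] (φ : V →ₗ[k] F) (ψ : W →ₗ[k] F) (χ : P →ₗ[k] F)
    (hφ : Function.Injective φ) (hψ : Function.Injective ψ)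
    (h : ∀ v w, φ v * ψ w ∈ LinearMap.range χ) :
    Module.finrank k V + Module.finrank k W ≤ Module.finrank k P + 1 := by
  have hle : LinearMap.range φ * LinearMap.range ψ ≤ LinearMap.range χ := by
    refine Submodule.mul_le.mpr ?_
    rintro _ ⟨v, rfl⟩ _ ⟨w, rfl⟩
    exact h v w
  obtain ⟨v, hv⟩ := exists_ne (0 : V)
  obtain ⟨w, hw⟩ := exists_ne (0 : W)
  have key := finrank_mul_add_one (LinearMap.range φ) (LinearMap.range ψ)
    (fun h0 => hv (hφ (((Submodule.mem_bot k).mp (h0 ▸ ⟨v, rfl⟩)).trans (map_zero φ).symm)))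
    (fun h0 => hw (hψ (((Submodule.mem_bot k).mp (h0 ▸ ⟨w, rfl⟩)).trans (map_zero ψ).symm)))
  rw [LinearMap.finrank_range_of_inj hφ, LinearMap.finrank_range_of_inj hψ] at key
  have := (Submodule.finrank_mono hle).trans χ.finrank_range_le
  omega

open Polynomial

variable {K : Type*} [Field K] [Algebra k K]

omit [IsAlgClosed k] in
/-- A polynomial-valued coordinate map `K^r → K(T)` -/
theorem sum_coeff {r : ℕ} (v : Fin r → K) (e : Fin r → ℕ) (he : Function.Injective e) :
    ((∑ i, monomial (e i) (v i)) = 0) → v = 0 := fun h => funext fun i => by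
  have := congrArg (fun p => Polynomial.coeff p (e i)) h
  simpa [Polynomial.coeff_monomial, he.eq_iff] using this

/-- Hopf's lemma for a pairing in coordinates. -/
theorem finrank_add_le_of_coord {V W P : Type*} [AddCommGroup V] [Module k V] [Module.Finite k V]
    [AddCommGroup W] [Module k W] [Module.Finite k W] [AddCommGroup P] [Module k P] [Module.Finite k P]
    [Nontrivial V] [Nontrivial W] {r s : ℕ} (φ : V →ₗ[k] Fin r → K) (ψ : W →ₗ[k] Fin s → K)
    (χ : P →ₗ[k] Fin r → Fin s → K) (hφ : Function.Injective φ) (hψ : Function.Injective ψ)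
    (h : ∀ v w, ∃ p, ∀ i j, χ p i j = φ v i * ψ w j) :
    Module.finrank k V + Module.finrank k W ≤ Module.finrank k P + 1 := by
  classical
  let F := RatFunc K
  let f : ∀ {n : ℕ}, (Fin n → ℕ) → (Fin n → K) →ₗ[k] F := fun {n} e =>
    ∑ i, ((IsScalarTower.toAlgHom k K[X] F).toLinearMap.comp
      (((Polynomial.monomial (e i)).restrictScalars k).comp (LinearMap.proj i)))
  have f_apply : ∀ {n : ℕ} (e : Fin n → ℕ) (v : Fin n → K),
      f e v = algebraMap K[X] F (∑ i, monomial (e i) (v i)) := fun e v => by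
    simp [f, map_sum, LinearMap.sum_apply]
  have f_inj : ∀ {n : ℕ} (e : Fin n → ℕ), Function.Injective e → Function.Injective (f e) :=
    fun e he => (injective_iff_map_eq_zero _).mpr fun v hv => by
      rw [f_apply] at hv
      exact sum_coeff v e he ((map_eq_zero_iff _ (RatFunc.algebraMap_injective K)).mp hv)
  let e₁ : Fin r → ℕ := fun i => i
  let e₂ : Fin s → ℕ := fun j => r * j
  let e₃ : Fin r → Fin s → ℕ := fun i j => i + r * j
  let χ' : P →ₗ[k] F := (∑ i, (f (e₃ i)).comp (LinearMap.proj i)).comp χ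
  refine finrank_add_le_of_pairing ((f e₁).comp φ) ((f e₂).comp ψ) χ'
    ((f_inj e₁ Fin.val_injective).comp hφ) ?_ fun v w => ?_
  · rcases Nat.eq_zero_or_pos r with hr | hr
    · exfalso
      subst hr
      obtain ⟨v, hv⟩ := exists_ne (0 : V)
      exact hv (hφ (Subsingleton.elim _ _))
    · exact (f_inj e₂ fun a b hab => Fin.ext (Nat.eq_of_mul_eq_mul_left hr hab)).comp hψ
  · obtain ⟨p, hp⟩ := h v w
    refine ⟨p, ?_⟩
    simp only [χ', LinearMap.comp_apply, LinearMap.sum_apply, LinearMap.proj_apply, f_apply]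
    rw [← map_sum, ← map_mul, Finset.sum_mul_sum]
    refine congrArg _ (Finset.sum_congr rfl fun i _ => Finset.sum_congr rfl fun j _ => ?_)
    rw [hp, monomial_mul_monomial]

end Groth.Agent.BigVol.HopfLemma
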