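import Groth.Agent.ProjTwist.Pn.Multiplication
import Groth.Agent.AmpleLib.Locus

/-!
The base point free pencil trick in Castelnuovo-Mumford form on any scheme: for sections `g` of `L`
generating everywhere and `M` an inverse of `L`, the multiplication `H⁰(F)^r → H⁰(F ⊗ L)` is
surjective if `H^q(F ⊗ L ⊗ M^(q+1)) = 0` for `1 ≤ q < r`.
-/

set_option autoImplicit false

open CategoryTheory CategoryTheory.Limits AlgebraicGeometry TopologicalSpace Opposite

universe u

noncomputable section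

namespace Groth.Agent.BigVol.KoszulSurj

open Groth.Agent.ProjTwist Groth.Agent.Props.GenLocus Groth.Agent.AmpleLib

variable {X : Scheme.{u}} {L M : X.Modules}

/-- `- ⊗ M` -/
abbrev tensF (M : X.Modules) : X.Modules ⥤ X.Modules := (DCoh.tensorBi (X := X)).flip.obj M

instance additive_tensF (M : X.Modules) : (tensF M).Additive :=
  ⟨fun {A B f g} => congrArg (fun η => NatTrans.app η M) ((DCoh.tensorBi (X := X)).map_add (f := f) (g := g))⟩

variable (i : CohB1.tensorMod M L ≅ Coh.structureModule X)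

/-- `(G ⊗ M) ⊗ L ≅ G` -/
def downUp : tensF M ⋙ tensF L ≅ 𝟭 X.Modules :=
  assocNat M L (Coh.structureModule X) i ≪≫ KFlat.ProjFormula.unitRight X

/-- `(G ⊗ L) ⊗ M ≅ G` -/
def upDown : tensF L ⋙ tensF M ≅ 𝟭 X.Modules :=
  assocNat L M (Coh.structureModule X) (tensComm L M ≪≫ i) ≪≫ KFlat.ProjFormula.unitRight X

/-- multiplication by `g`, `G ⊗ M ⟶ G` -/
def mulG (g : Γ(L, ⊤)) : tensF M ⟶ 𝟭 X.Modules := mulDown (mulNat L (homOfSec g)) (downUp i)

theorem mulG_bijAt (g : Γ(L, ⊤)) (y : X) (hy : y ∈ locus g) : Kosz.BijAt (mulG i g) y := fun G =>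
  Pn.stalkLin_comp_bijective _ _ y
    (stalkLin_bijective_of_app _ (locus g)
      (fun V hV => mulSecHom_bijective L (homOfSec g) (locus g)
        (by rw [sec_homOfSec]; exact isGen_locus g) _ V hV) y hy)
    (Pn.stalkLin_iso_bijective ((downUp i).app G) y)

theorem subsingleton_isZero {G : X.Modules} (hG : IsZero G) (q : ℕ) : Subsingleton (Coh.HH X G q) :=
  subsingleton_of_forall_eq 0 fun x => by
    have h : CohLin.hMap (𝟙 G) q x = CohLin.hMap (0 : G ⟶ G) q x := by rw [hG.eq_of_src (𝟙 G) 0]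
    rw [CohLin.hMap_id] at h
    rw [h]
    exact map_zero (CohLin.hMapHom G G q x)

theorem subsingleton_biprod {A B : X.Modules} (q : ℕ) [Subsingleton (Coh.HH X A q)]
    [Subsingleton (Coh.HH X B q)] : Subsingleton (Coh.HH X (A ⊞ B) q) :=
  subsingleton_of_forall_eq 0 fun x => by
    have h : x = CohLin.hMap (biprod.inl : A ⟶ A ⊞ B) q (CohLin.hMap biprod.fst q x) +
        CohLin.hMap (biprod.inr : B ⟶ A ⊞ B) q (CohLin.hMap biprod.snd q x) := by
      rw [← CohLin.hMap_comp, ← CohLin.hMap_comp, ← CohLin.hMap_add, biprod.total, CohLin.hMap_id]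
    rw [h, Subsingleton.elim (CohLin.hMap (biprod.fst : A ⊞ B ⟶ A) q x) 0,
      Subsingleton.elim (CohLin.hMap (biprod.snd : A ⊞ B ⟶ B) q x) 0, map_zero, map_zero, add_zero]

theorem subsingleton_of_iso {A B : X.Modules} (e : A ≅ B) (q : ℕ) [Subsingleton (Coh.HH X A q)] :
    Subsingleton (Coh.HH X B q) :=
  (CohLin.hIso e q).symm.injective.subsingleton

variable (r : ℕ)

/-- vanishing needed from the terms in degree `p` -/
def Good (p : ℕ) (A : X.Modules) : Prop :=
  ∀ c q : ℕ, 1 ≤ q → q < r → p + c = q + 1 → Subsingleton (Coh.HH X ((fun G => (tensF M).obj G)^[c] A) q)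

theorem iterate_isZero {A : X.Modules} (hA : IsZero A) :
    ∀ c : ℕ, IsZero ((fun G => (tensF M).obj G)^[c] A)
  | 0 => hA
  | c + 1 => by
    rw [Function.iterate_succ_apply']
    exact (tensF M).map_isZero (iterate_isZero hA c)

theorem nonempty_iterate_biprod {A B : X.Modules} : ∀ c : ℕ,
    Nonempty ((fun G => (tensF M).obj G)^[c] (A ⊞ B) ≅
      ((fun G => (tensF M).obj G)^[c] A) ⊞ ((fun G => (tensF M).obj G)^[c] B))
  | 0 => ⟨Iso.refl _⟩
  | c + 1 => by
    obtain ⟨e⟩ := nonempty_iterate_biprod (A := A) (B := B) c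
    have : PreservesBinaryBiproducts (tensF M) := preservesBinaryBiproducts_of_preservesBiproducts _
    simp only [Function.iterate_succ_apply']
    exact ⟨(tensF M).mapIso e ≪≫ (tensF M).mapBiprod _ _⟩

theorem good_term (F : X.Modules) (l : List (tensF M ⟶ 𝟭 X.Modules))
    (h : ∀ q, 1 ≤ q → q < r → Subsingleton (Coh.HH X ((fun G => (tensF M).obj G)^[q + 1] F) q)) (p : ℕ) :
    Good (M := M) r p (Kosz.term F (Kosz.kosz F l).Y p) := by
  refine Kosz.kosz_term (Good (M := M) r) ?_ ?_ ?_ ?_ l p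
  · intro c q h1 h2 hc
    obtain rfl : c = q + 1 := by omega
    exact h q h1 h2
  · exact fun p A hA c q _ _ _ => subsingleton_isZero (iterate_isZero hA c) q
  · intro p A B hA hB c q h1 h2 hc
    have := hA c q h1 h2 hc
    have := hB c q h1 h2 hc
    have := subsingleton_biprod (A := (fun G => (tensF M).obj G)^[c] A)
      (B := (fun G => (tensF M).obj G)^[c] B) q
    exact subsingleton_of_iso (nonempty_iterate_biprod c).some.symm q
  · intro p A hA c q h1 h2 hc
    have := hA (c + 1) q h1 h2 (by omega)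
    rw [Function.iterate_succ_apply] at this
    exact this

/-- A map to `F` through which all `mulG g : F ⊗ M → F` factor is surjective on `H⁰`. -/
theorem surjective_h0_of_factor {F : X.Modules} (g : Fin r → Γ(L, ⊤))
    (hg : ∀ x : X, ∃ j, x ∈ locus (g j))
    (hvan : ∀ q, 1 ≤ q → q < r → Subsingleton (Coh.HH X ((fun G => (tensF M).obj G)^[q + 1] F) q))
    {B : X.Modules} (σ : B ⟶ F)
    (hσ : ∀ j, ∃ ι : (tensF M).obj F ⟶ B, ι ≫ σ = Kosz.ta (mulG i (g j)) F) :
    Function.Surjective (CohLin.hMap σ 0) := by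
  let l := List.ofFn fun j => mulG i (g j)
  let K := Kosz.kosz F l
  have hb : ∀ y, K.ExactAt y := fun y => by
    obtain ⟨j, hj⟩ := hg y
    exact Kosz.exactAt_kosz F l y ⟨_, List.mem_ofFn.mpr ⟨j, rfl⟩, mulG_bijAt i (g j) y hj⟩
  have hgood := good_term r F l hvan
  have hY : ∀ q, 1 ≤ q → q < r → Subsingleton (Coh.HH X (K.Y q) q) := fun q h1 h2 =>
    hgood (q + 1) 0 q h1 h2 rfl
  have syz : ∀ p, (ShortComplex.mk (kernel.ι (K.d (p + 1))) (kernel.lift _ _ (K.dd p))
      ((cancel_mono (kernel.ι (K.d p))).mp ((Category.assoc _ _ _).trans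
        ((congrArg (kernel.ι (K.d (p + 1)) ≫ ·) (kernel.lift_ι _ _ _)).trans
          ((kernel.condition _).trans zero_comp.symm))))).ShortExact := by
    intro p
    have : Epi (kernel.lift _ _ (K.dd p)) := by
      refine Omega.Stalks.epi_of_stalk fun y t => ?_
      obtain ⟨w, hw⟩ := (hb y).2 p (PullStalk.Exact.stalkLin (kernel.ι (K.d p)) y t) (by
        rw [← Omega.Stalks.stalkLin_comp, kernel.condition, Omega.Stalks.stalkLin_zero])
      refine ⟨w, Omega.Stalks.stalkLin_injective_of_mono (kernel.ι (K.d p)) y ?_⟩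
      rw [← Omega.Stalks.stalkLin_comp, kernel.lift_ι]
      exact hw
    refine ShortComplex.ShortExact.mk' ?_ (inferInstanceAs (Mono (kernel.ι _))) this
    refine ShortComplex.exact_of_f_is_kernel _ (KernelFork.IsLimit.ofι' _ _ fun {A} a ha => ?_)
    refine ⟨kernel.lift _ a ?_, kernel.lift_ι _ _ _⟩
    have h' : (a ≫ kernel.lift _ _ (K.dd p)) ≫ kernel.ι (K.d p) = 0 := by rw [ha, zero_comp]
    exact (congrArg (a ≫ ·) (kernel.lift_ι _ _ (K.dd p))).symm.trans ((Category.assoc _ _ _).symm.trans h')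
  have hsyz : ∀ c p, r ≤ p + c → Subsingleton (Coh.HH X (kernel (K.d p)) (p + 1)) := by
    intro c
    induction c with
    | zero =>
      intro p hp
      have hz : IsZero (K.Y p) := Kosz.isZero_kosz l p (by simpa [l] using hp)
      exact subsingleton_isZero (IsZero.of_mono (kernel.ι (K.d p)) hz) _
    | succ c ih =>
      intro p hp
      have h₁ := ih (p + 1) (by omega)
      have h₂ : Subsingleton (Coh.HH X (K.Y (p + 1)) (p + 1)) := by
        rcases Nat.lt_or_ge (p + 1) r with hlt | hge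
        · exact hY _ (Nat.le_add_left 1 p) hlt
        · exact subsingleton_isZero (Kosz.isZero_kosz l (p + 1) (by simpa [l] using hge)) _
      exact @CohLin.subsingleton_X₃ X _ (syz p) (p + 1) h₂ h₁
  intro x
  have hepi : Epi (K.d 0) := Omega.Stalks.epi_of_stalk fun y => (hb y).1
  have hS : (ShortComplex.mk (kernel.ι (K.d 0)) (K.d 0) (kernel.condition _)).ShortExact :=
    ShortComplex.ShortExact.mk' (ShortComplex.exact_of_f_is_kernel _ (kernelIsKernel _)) inferInstance hepi
  have := hsyz r 0 (by omega)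
  obtain ⟨y, hy⟩ := CohLin.exists_hMap_g_eq hS x (Subsingleton.elim _ _)
  obtain ⟨f, hf⟩ := Kosz.kosz_d_zero_factor l σ fun τ hτ => by
    obtain ⟨j, rfl⟩ := List.mem_ofFn.mp hτ
    exact hσ j
  refine ⟨CohLin.hMap f 0 y, ?_⟩
  rw [← CohLin.hMap_comp, hf]
  exact hy

include i in
/-- Every global section of `F ⊗ L` is a sum of products by the `g j`. -/
theorem exists_eq_sum_tmul {F : X.Modules} (g : Fin r → Γ(L, ⊤)) (hg : ∀ x : X, ∃ j, x ∈ locus (g j))
    (hvan : ∀ q, 1 ≤ q → q < r →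
      Subsingleton (Coh.HH X ((fun G => (tensF M).obj G)^[q + 1] (CohB1.tensorMod F L)) q))
    (x : Γ(CohB1.tensorMod F L, ⊤)) :
    ∃ y : Fin r → Γ(F, ⊤), x = ∑ j, Props.GenTensor.tmul (y j) (g j) := by
  classical
  let T' := tensF L
  let e : (tensF M).obj (T'.obj F) ≅ F := (upDown i).app F
  let θ : T'.obj F ⟶ T'.obj F := T'.map e.inv ≫ (downUp i).hom.app (T'.obj F)
  haveI : IsIso θ := inferInstance
  have : HasBiproduct (fun _ : ULift.{u} (Fin r) => F) := inferInstance
  let σ : (⨁ fun _ : ULift.{u} (Fin r) => F) ⟶ T'.obj F :=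
    biproduct.desc fun j => (mulNat L (homOfSec (g j.down))).app F
  have hsur := surjective_h0_of_factor i r (F := T'.obj F) g hg hvan (σ ≫ θ) fun j => by
    refine ⟨e.hom ≫ biproduct.ι (fun _ : ULift.{u} (Fin r) => F) ⟨j⟩, ?_⟩
    rw [Category.assoc, biproduct.ι_desc_assoc]
    exact (Pn.mulDown_factor (mulNat L (homOfSec (g j))) (downUp i) e).symm
  obtain ⟨z, hz⟩ := hsur (CohLin.hMap θ 0 ((ProperFin.h0Sec _).symm x))
  rw [CohLin.hMap_comp] at hz
  have hz' := (CohLin.hIso (asIso θ) 0).injective hz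
  refine ⟨fun j => ProperFin.h0Sec F (CohLin.hMap (biproduct.π (fun _ : ULift.{u} (Fin r) => F) ⟨j⟩) 0 z), ?_⟩
  have hσ : σ = ∑ j : Fin r, biproduct.π (fun _ : ULift.{u} (Fin r) => F) ⟨j⟩ ≫
      (mulNat L (homOfSec (g j))).app F := by
    refine biproduct.hom_ext' _ _ fun a => ?_
    rw [biproduct.ι_desc, Preadditive.comp_sum, Finset.sum_eq_single a.down]
    · rw [biproduct.ι_π_self_assoc]
    · intro j _ hj
      rw [biproduct.ι_π_ne_assoc _ (fun e => hj (congrArg ULift.down e).symm), zero_comp]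
    · exact fun h => absurd (Finset.mem_univ _) h
  have h1 := congrArg (ProperFin.h0Sec (CohB1.tensorMod F L)) hz'
  refine (h1.trans ((ProperFin.h0Sec (CohB1.tensorMod F L)).apply_symm_apply x)).symm.trans ?_
  rw [hσ]
  refine (congrArg (ProperFin.h0Sec _) (map_sum (CohLin.hMapHom _ _ 0 z) _ _)).trans ?_
  rw [map_sum]
  refine Finset.sum_congr rfl fun j _ => ?_
  refine (congrArg (ProperFin.h0Sec _) (CohLin.hMap_comp _ _ 0 z)).trans ?_
  refine (ProperFin.h0Sec_hMap _ _).trans ?_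
  refine congrArg (Props.GenTensor.tmul _) ?_
  rw [sec_homOfSec]
  exact QCoh.res_self _ le_top (g j)

end Groth.Agent.BigVol.KoszulSurj

end
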