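import Groth.Agent.BigVol.Asymp
import Groth.Agent.Snapper.Twist
import Groth.Agent.PicLaw.Swap
import Groth.Prelude.Def_ClSub2

/-!
`hⁱ(F ⊗ L₁^a₁ ⊗ ⋯ ⊗ L_r^a_r)` for integer exponents: growth and Lipschitz bounds, uniform in `a`.
-/

set_option autoImplicit false
set_option linter.style.haveILetI false

open CategoryTheory CategoryTheory.Limits AlgebraicGeometry TopologicalSpace Filter
open Groth.Agent.ProjTwist Groth.Agent.AmpleLib Groth.Agent.BigVol.CohBound

universe u

noncomputable section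

namespace Groth.Agent.BigVol.Multi

variable {X : Scheme.{u}}

attribute [local instance] PicLaw.law

/-- A module in a class. -/
def rep (x : PicLoc.PicSet X) : X.Modules := x.2.choose

theorem rep_spec (x : PicLoc.PicSet X) :
    ∃ h : PicF.IsInvertible (rep x), PicGrp.cls (rep x) h = x :=
  ⟨x.2.choose_spec.2, Subtype.ext x.2.choose_spec.1⟩

theorem nonempty_rep_iso {T : X.Modules} (hT : PicF.IsInvertible T) {x : PicLoc.PicSet X}
    (h : PicGrp.cls T hT = x) : Nonempty (rep x ≅ T) := by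
  obtain ⟨hr, e⟩ := rep_spec x
  exact (PicGrp.cl_eq_cl_iff _ _).mp (congrArg Subtype.val (e.trans h.symm))

/-- `∑ |a_j|` -/
def N {r : ℕ} (a : Fin r → ℤ) : ℕ := ∑ j, (a j).natAbs

/-- `∏ x_j ^ a_j` -/
def pw {G : Type*} [CommGroup G] {r : ℕ} (x : Fin r → G) (a : Fin r → ℤ) : G := ∏ j, x j ^ a j

theorem N_eq_zero {r : ℕ} {a : Fin r → ℤ} (h : N a = 0) : a = 0 := funext fun j =>
  Int.natAbs_eq_zero.mp (Finset.sum_eq_zero_iff.mp h j (Finset.mem_univ j))

theorem pw_zero {G : Type*} [CommGroup G] {r : ℕ} (x : Fin r → G) : pw x 0 = 1 :=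
  Finset.prod_eq_one fun _ _ => zpow_zero _

theorem pw_single {G : Type*} [CommGroup G] {r : ℕ} (x : Fin r → G) (a : Fin r → ℤ) (j : Fin r) :
    pw x (a + Pi.single j 1) = pw x a * x j := by
  rw [pw, pw, ← Finset.prod_eq_single (s := Finset.univ) (f := fun l => x l ^ (Pi.single j (1 : ℤ) : Fin r → ℤ) l) j
    (fun l _ hl => by simp [hl]) (fun h => absurd (Finset.mem_univ j) h) |>.trans (by simp : _ = x j),
    ← Finset.prod_mul_distrib]
  exact Finset.prod_congr rfl fun l _ => zpow_add _ _ _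

/-- A nonzero exponent vector is one step away from a smaller one. -/
theorem exists_step {r : ℕ} {a : Fin r → ℤ} (h : 0 < N a) :
    ∃ (j : Fin r) (b : Fin r → ℤ), N b + 1 = N a ∧
      (a = b + Pi.single j 1 ∨ b = a + Pi.single j 1) := by
  obtain ⟨j, hj⟩ : ∃ j, a j ≠ 0 := by
    by_contra! hc
    simp [N, hc] at h
  have key : ∀ b : Fin r → ℤ, (∀ l, l ≠ j → b l = a l) → (b j).natAbs + 1 = (a j).natAbs →
      N b + 1 = N a := fun b hb hbj => by
    rw [N, N, ← Finset.add_sum_erase _ _ (Finset.mem_univ j), ← Finset.add_sum_erase _ _ (Finset.mem_univ j),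
      Finset.sum_congr rfl fun l hl => by rw [hb l (Finset.ne_of_mem_erase hl)]]
    omega
  rcases lt_or_gt_of_ne hj with hneg | hpos
  · exact ⟨j, a + Pi.single j 1, key _ (fun l hl => by simp [hl]) (by simp; omega), Or.inr rfl⟩
  · exact ⟨j, a - Pi.single j 1, key _ (fun l hl => by simp [hl]) (by simp; omega),
      Or.inl (sub_add_cancel _ _).symm⟩

section classes

theorem toNat_pow_mul {G : Type*} [CommGroup G] (y : G) (c : ℤ) :
    y ^ c.toNat * y⁻¹ ^ (-c).toNat = y ^ c := by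
  rw [inv_pow, ← zpow_natCast, ← zpow_natCast, ← zpow_neg, ← zpow_add]
  congr 1
  omega

theorem exists_cls_tensorList {ι : Type*} (f : ι → X.Modules) (hf : ∀ i, PicF.IsInvertible (f i)) :
    ∀ l : List ι, ∃ h : PicF.IsInvertible (FGA.tensorList (l.map f)),
      PicGrp.cls _ h = (l.map fun i => PicGrp.cls (f i) (hf i)).prod
  | [] => ⟨LFFrame.isInvertible_structureModule X, PicGrp.cls_structureModule_eq_one⟩
  | i :: l => by
    obtain ⟨h, e⟩ := exists_cls_tensorList f hf l
    refine ⟨AmpleLib.isInvertible_tensorMod (hf i) h, ?_⟩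
    refine Eq.trans (Subtype.ext (PicGrp.cls_mul_cls_val (hf i) h).symm :
      PicGrp.cls _ _ = PicGrp.cls (f i) (hf i) * PicGrp.cls _ h) ?_
    exact (congrArg (fun t => PicGrp.cls (f i) (hf i) * t) e).trans List.prod_cons.symm

theorem exists_cls_ztwist {r : ℕ} (L M : Fin r → X.Modules) (hL : ∀ j, PicF.IsInvertible (L j))
    (hM : ∀ j, ClSub.IsInverseOf (L j) (M j)) (a : Fin r → ℤ) :
    ∃ h : PicF.IsInvertible (W4c5asymptcohfn.ztwist X L M a),
      PicGrp.cls _ h = pw (fun j => PicGrp.cls (L j) (hL j)) a := by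
  have hMi : ∀ j, PicF.IsInvertible (M j) := fun j =>
    PicLaw.isInvertible_of_tensor_left (hL j)
      (PicCl.isInvertible_of_iso (hM j).some.symm (LFFrame.isInvertible_structureModule X))
  have hinv : ∀ j, PicGrp.cls (M j) (hMi j) = (PicGrp.cls (L j) (hL j))⁻¹ := fun j => by
    refine eq_inv_of_mul_eq_one_right (Subtype.ext ?_)
    rw [PicGrp.cls_mul_cls_val, PicGrp.one_val]
    exact (PicGrp.cl_eq_cl_iff _ _).mpr (hM j)
  have hm : ∀ (P : Fin r → X.Modules) (hP : ∀ j, PicF.IsInvertible (P j)) (m : Fin r → ℕ),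
      ∃ h : PicF.IsInvertible (FGA.multiTwist P m),
        PicGrp.cls _ h = ∏ j, PicGrp.cls (P j) (hP j) ^ m j := fun P hP m => by
    obtain ⟨h, e⟩ := exists_cls_tensorList (fun j => CohB1.tensorPow (P j) (m j))
      (fun j => AmpleLib.isInvertible_tensorPow (hP j) (m j)) (List.finRange r)
    refine ⟨h, ?_⟩
    rw [Fin.prod_univ_def]
    refine e.trans (congrArg List.prod (List.map_congr_left fun j _ => ?_))
    exact Subtype.ext (PicGrp.cls_pow_val (hP j) (m j)).symm
  obtain ⟨h₁, e₁⟩ := hm L hL fun j => (a j).toNat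
  obtain ⟨h₂, e₂⟩ := hm M hMi fun j => (-(a j)).toNat
  refine ⟨AmpleLib.isInvertible_tensorMod h₁ h₂, ?_⟩
  have h3 : (∏ j, PicGrp.cls (L j) (hL j) ^ (a j).toNat) * ∏ j, PicGrp.cls (M j) (hMi j) ^ (-(a j)).toNat =
      pw (fun j => PicGrp.cls (L j) (hL j)) a := by
    rw [← Finset.prod_mul_distrib]
    refine Finset.prod_congr rfl fun j _ => ?_
    rw [hinv j]
    exact toNat_pow_mul (PicGrp.cls (L j) (hL j)) (a j)
  refine Eq.trans ?_ ((congrArg₂ (· * ·) e₁ e₂).trans h3)
  exact Subtype.ext (PicGrp.cls_mul_cls_val h₁ h₂).symm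

end classes

variable (k : Type u) [Field k] [X.Over (Spec (CommRingCat.of k))]

/-- `hⁱ(F ⊗ x)` for a class `x` -/
abbrev hc (F : X.Modules) (x : PicLoc.PicSet X) (i : ℕ) : ℕ := h k (CohB1.tensorMod F (rep x)) i

theorem hc_eq (F : X.Modules) {T : X.Modules} (hT : PicF.IsInvertible T) {x : PicLoc.PicSet X}
    (hx : PicGrp.cls T hT = x) (i : ℕ) : hc k F x i = h k (CohB1.tensorMod F T) i :=
  Pn.finrank_hh_iso (tensCongr (Iso.refl F) (nonempty_rep_iso hT hx).some) i

variable [IsProper (X ↘ Spec (CommRingCat.of k))] {A : X.Modules} (hA : CohB1.IsAmple A)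

include hA in
theorem exists_close_hc [IsNoetherian X] {F : X.Modules} (hF : Coh.IsCoh F) (l : PicLoc.PicSet X) :
    ∃ (FP FQ : X.Modules), Coh.IsCoh FP ∧ Coh.IsCoh FQ ∧
      (∀ d : ℕ, topologicalKrullDim (CohB1.support F) < ((d + 1 : ℕ) : WithBot ℕ∞) →
        topologicalKrullDim (CohB1.support FP) < (d : WithBot ℕ∞) ∧
          topologicalKrullDim (CohB1.support FQ) < (d : WithBot ℕ∞)) ∧
      ∀ (x : PicLoc.PicSet X) (i : ℕ),
        hc k F (x * l) i ≤ hc k F x i + hc k FP x i + hc k FQ (x * l) (i - 1) ∧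
          hc k F x i ≤ hc k F (x * l) i + hc k FQ (x * l) i + hc k FP x (i - 1) := by
  obtain ⟨hl, el⟩ := rep_spec l
  obtain ⟨FP, FQ, cP, cQ, hd, hs⟩ := exists_close_twist k hA hl hF
  refine ⟨FP, FQ, cP, cQ, hd, fun x i => ?_⟩
  obtain ⟨hx, ex⟩ := rep_spec x
  have hxl : PicGrp.cls (CohB1.tensorMod (rep x) (rep l)) (AmpleLib.isInvertible_tensorMod hx hl) = x * l := by
    refine (Subtype.ext (PicGrp.cls_mul_cls_val hx hl).symm : PicGrp.cls _ _ = _ * _).trans ?_
    rw [ex, el]
  simp only [hc_eq k _ _ hxl]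
  exact hs (rep x) hx i

include hA in
/-- `hⁱ(F ⊗ x^a) = O((|a| + 1)^(d-1))` for `dim Supp F < d`, uniformly in `a`. -/
theorem exists_hc_lt {r : ℕ} (x : Fin r → PicLoc.PicSet X) : ∀ (d : ℕ) (F : X.Modules),
    Coh.IsCoh F → topologicalKrullDim (CohB1.support F) < (d : WithBot ℕ∞) →
    ∀ i : ℕ, ∃ C : ℕ, ∀ a : Fin r → ℤ, hc k F (pw x a) i ≤ C * g d (N a)
  | 0, F, _, hd, i => by
    haveI := EulerChar.isNoetherian k (X := X)
    refine ⟨0, fun a => ?_⟩
    obtain ⟨hx, ex⟩ := rep_spec (pw x a)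
    have h1 := hh_eq_zero k hd (rep (pw x a)) 1 i
    refine le_of_eq_of_le ?_ (Nat.zero_le _)
    rw [← h1]
    exact Pn.finrank_hh_iso (tensCongr (Iso.refl F) (oneTens (rep (pw x a))).symm) i
  | d + 1, F, hF, hd, i => by
    haveI := EulerChar.isNoetherian k (X := X)
    choose FP FQ cP cQ hdim hstep using fun j : Fin r => exists_close_hc k hA hF (x j)
    choose C₁ h₁ using fun j : Fin r => exists_hc_lt x d (FP j) (cP j) (hdim j d hd).1 i
    choose C₂ h₂ using fun j : Fin r => exists_hc_lt x d (FQ j) (cQ j) (hdim j d hd).2 (i - 1)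
    choose C₃ h₃ using fun j : Fin r => exists_hc_lt x d (FP j) (cP j) (hdim j d hd).1 (i - 1)
    choose C₄ h₄ using fun j : Fin r => exists_hc_lt x d (FQ j) (cQ j) (hdim j d hd).2 i
    let D := ∑ j, (C₁ j + C₂ j + C₃ j + C₄ j) * 2 ^ d
    refine ⟨hc k F 1 i + D, fun a => ?_⟩
    induction hN : N a generalizing a with
    | zero =>
      rw [N_eq_zero hN, pw_zero]
      simp only [g, zero_add, one_pow, mul_one]
      exact Nat.le_add_right _ _
    | succ n ih =>
      obtain ⟨j, b, hb, hab⟩ := exists_step (a := a) (by omega)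
      have hbn : N b = n := by omega
      have hD : (C₁ j + C₂ j + C₃ j + C₄ j) * 2 ^ d ≤ D :=
        Finset.single_le_sum (fun l _ => Nat.zero_le _) (Finset.mem_univ j)
          (f := fun j => (C₁ j + C₂ j + C₃ j + C₄ j) * 2 ^ d)
      have hg := g_step d n
      have hg2 := g_shift d n
      have h2 : 1 ≤ 2 ^ d := Nat.one_le_two_pow
      have hih := ih b hbn
      have hDg := Nat.mul_le_mul_right (g d n) hD
      have hDD := Nat.mul_le_mul_left (hc k F 1 i + D) hg
      rcases hab with rfl | rfl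
      · have hs := (hstep j (pw x b) i).1
        have a1 := h₁ j b
        have a2 := h₂ j (b + Pi.single j 1)
        rw [← pw_single] at hs
        rw [hN] at a2
        rw [hbn] at a1
        have a2' := a2.trans (Nat.mul_le_mul_left _ hg2)
        nlinarith
      · have hs := (hstep j (pw x a) i).2
        have a1 := h₃ j a
        have a2 := h₄ j (a + Pi.single j 1)
        rw [← pw_single] at hs
        rw [hN] at a1
        rw [hbn] at a2
        have a1' := a1.trans (Nat.mul_le_mul_left _ hg2)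
        nlinarith

theorem N_add_single {r : ℕ} (a : Fin r → ℤ) (j : Fin r) (c : ℤ) :
    N (a + Pi.single j c) ≤ N a + c.natAbs := by
  have h : ∑ l, ((Pi.single j c : Fin r → ℤ) l).natAbs = c.natAbs :=
    (Finset.sum_eq_single j (fun l _ hl => by simp [hl]) (by simp)).trans (by simp)
  rw [N, N, ← h, ← Finset.sum_add_distrib]
  exact Finset.sum_le_sum fun l _ => Int.natAbs_add_le _ _

include hA in
/-- Changing one exponent by one changes `hⁱ` by `O((|a| + 1)^(d-1))`. -/
theorem exists_hc_single_close {r : ℕ} (x : Fin r → PicLoc.PicSet X) {d : ℕ} {F : X.Modules}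
    (hF : Coh.IsCoh F) (hd : topologicalKrullDim (CohB1.support F) ≤ (d : WithBot ℕ∞)) (i : ℕ) :
    ∃ C : ℕ, ∀ (a : Fin r → ℤ) (j : Fin r),
      hc k F (pw x (a + Pi.single j 1)) i ≤ hc k F (pw x a) i + C * g d (N a) ∧
        hc k F (pw x a) i ≤ hc k F (pw x (a + Pi.single j 1)) i + C * g d (N a) := by
  haveI := EulerChar.isNoetherian k (X := X)
  have hd' : topologicalKrullDim (CohB1.support F) < ((d + 1 : ℕ) : WithBot ℕ∞) :=
    lt_of_le_of_lt hd (by exact_mod_cast Nat.lt_succ_self d)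
  choose FP FQ cP cQ hdim hstep using fun j : Fin r => exists_close_hc k hA hF (x j)
  choose C₁ h₁ using fun j : Fin r => exists_hc_lt k hA x d (FP j) (cP j) (hdim j d hd').1 i
  choose C₂ h₂ using fun j : Fin r => exists_hc_lt k hA x d (FQ j) (cQ j) (hdim j d hd').2 (i - 1)
  choose C₃ h₃ using fun j : Fin r => exists_hc_lt k hA x d (FP j) (cP j) (hdim j d hd').1 (i - 1)
  choose C₄ h₄ using fun j : Fin r => exists_hc_lt k hA x d (FQ j) (cQ j) (hdim j d hd').2 i
  refine ⟨∑ j, (C₁ j + C₂ j + C₃ j + C₄ j) * 2 ^ d, fun a j => ?_⟩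
  have hD : (C₁ j + C₂ j + C₃ j + C₄ j) * 2 ^ d ≤ ∑ l, (C₁ l + C₂ l + C₃ l + C₄ l) * 2 ^ d :=
    Finset.single_le_sum (fun l _ => Nat.zero_le _) (Finset.mem_univ j)
      (f := fun j => (C₁ j + C₂ j + C₃ j + C₄ j) * 2 ^ d)
  have hDg := Nat.mul_le_mul_right (g d (N a)) hD
  have hg : g d (N (a + Pi.single j 1)) ≤ 2 ^ d * g d (N a) :=
    (Asymp.g_mono d (N_add_single a j 1)).trans (g_shift d (N a))
  have h2 : 1 ≤ 2 ^ d := Nat.one_le_two_pow
  obtain ⟨s1, s2⟩ := hstep j (pw x a) i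
  rw [← pw_single] at s1 s2
  have a1 := h₁ j a
  have a2 := (h₂ j (a + Pi.single j 1)).trans (Nat.mul_le_mul_left _ hg)
  have a3 := h₃ j a
  have a4 := (h₄ j (a + Pi.single j 1)).trans (Nat.mul_le_mul_left _ hg)
  constructor <;> nlinarith

include hA in
/-- `hⁱ` is Lipschitz in the exponents, with constant `O((|a| + |b - a| + 1)^(d-1))`. -/
theorem exists_hc_lipschitz {r : ℕ} (x : Fin r → PicLoc.PicSet X) {d : ℕ} {F : X.Modules}
    (hF : Coh.IsCoh F) (hd : topologicalKrullDim (CohB1.support F) ≤ (d : WithBot ℕ∞)) (i : ℕ) :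
    ∃ C : ℕ, ∀ a b : Fin r → ℤ,
      hc k F (pw x a) i ≤ hc k F (pw x b) i + N (b - a) * (C * g d (N a + N (b - a))) ∧
        hc k F (pw x b) i ≤ hc k F (pw x a) i + N (b - a) * (C * g d (N a + N (b - a))) := by
  obtain ⟨C, hC⟩ := exists_hc_single_close k hA x hF hd i
  refine ⟨C, fun a b => ?_⟩
  induction hn : N (b - a) generalizing a with
  | zero =>
    rw [sub_eq_zero.mp (N_eq_zero hn)]
    omega
  | succ n ih =>
    obtain ⟨j, c, hc', hab⟩ := exists_step (a := b - a) (by omega)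
    rcases hab with hcase | hcase
    · have e : b - (a + Pi.single j 1) = c := by rw [← sub_sub, hcase]; abel
      obtain ⟨i1, i2⟩ := ih (a + Pi.single j 1) (by rw [e]; omega)
      obtain ⟨s1, s2⟩ := hC a j
      have hN := N_add_single a j 1
      have g1 := Nat.mul_le_mul_left C (Asymp.g_mono d (show N a ≤ N a + (n + 1) by omega))
      have g2 := Nat.mul_le_mul_left n (Nat.mul_le_mul_left C (Asymp.g_mono d
        (show N (a + Pi.single j 1) + n ≤ N a + (n + 1) by simp at hN; omega)))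
      rw [Nat.succ_mul]
      constructor <;> linarith
    · have e : b - (a + Pi.single j (-1)) = c := by
        rw [hcase, Pi.single_neg]; abel
      obtain ⟨i1, i2⟩ := ih (a + Pi.single j (-1)) (by rw [e]; omega)
      obtain ⟨s1, s2⟩ := hC (a + Pi.single j (-1)) j
      rw [add_assoc, ← Pi.single_add, neg_add_cancel, Pi.single_zero, add_zero] at s1 s2
      have hN := N_add_single a j (-1)
      have g1 := Nat.mul_le_mul_left C (Asymp.g_mono d
        (show N (a + Pi.single j (-1)) ≤ N a + (n + 1) by simp at hN; omega))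
      have g2 := Nat.mul_le_mul_left n (Nat.mul_le_mul_left C (Asymp.g_mono d
        (show N (a + Pi.single j (-1)) + n ≤ N a + (n + 1) by simp at hN; omega)))
      rw [Nat.succ_mul]
      constructor <;> linarith

end Groth.Agent.BigVol.Multi
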