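import Groth.Agent.BigVol.Multi

/-!
Homogeneous and Lipschitz bounds for the asymptotic cohomological functions.
-/

set_option autoImplicit false
set_option linter.style.haveILetI false

open CategoryTheory CategoryTheory.Limits AlgebraicGeometry TopologicalSpace Filter
open Groth.Agent.ProjTwist Groth.Agent.AmpleLib Groth.Agent.BigVol.CohBound Groth.Agent.BigVol.Asymp

universe u

noncomputable section

namespace Groth.Agent.BigVol.Multi

theorem limsup_le_add {n C : ℕ} {f f' e : ℕ → ℕ} {c : ℝ} (hf' : ∀ m, f' m ≤ C * (m + 1) ^ n)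
    (he : Tendsto (Asymp.seq n e) atTop (nhds c)) (h : ∀ m, f m ≤ f' m + e m) :
    limsup (Asymp.seq n f) atTop ≤ limsup (Asymp.seq n f') atTop + c := by
  refine le_of_forall_gt_imp_ge_of_dense fun b hb => ?_
  obtain ⟨t, ht, htb⟩ := exists_between (show limsup (Asymp.seq n f') atTop < b - c by linarith)
  refine limsup_le_of_le (cobounded n f) ?_
  filter_upwards [eventually_lt_of_limsup_lt ht (bounded hf'),
    he.eventually (eventually_le_nhds (show c < b - t by linarith))] with m h1 h2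
  have h3 : ((f m : ℕ) : ℝ) ≤ f' m + (e m : ℝ) := by exact_mod_cast h m
  have h4 : Asymp.seq n f m ≤ Asymp.seq n f' m + Asymp.seq n e m := by
    simp only [Asymp.seq]
    rw [← add_div, ← add_mul]
    exact div_le_div_of_nonneg_right (mul_le_mul_of_nonneg_right h3 (by positivity)) (by positivity)
  linarith

theorem tendsto_pow_one (n C P : ℕ) :
    Tendsto (Asymp.seq n fun m => C * (m * P + 1) ^ n) atTop
      (nhds ((C * n.factorial : ℕ) * (P : ℝ) ^ n)) := by
  have h1 : Tendsto (fun m : ℕ => ((C * n.factorial : ℕ) : ℝ) * ((P : ℝ) + 1 / (m : ℝ)) ^ n) atTop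
      (nhds ((C * n.factorial : ℕ) * (P : ℝ) ^ n)) := by
    simpa using ((tendsto_one_div_atTop_nhds_zero_nat.const_add (P : ℝ)).pow n).const_mul
      ((C * n.factorial : ℕ) : ℝ)
  refine h1.congr' ((eventually_ge_atTop 1).mono fun m hm => ?_)
  have hm0 : (m : ℝ) ≠ 0 := by positivity
  simp only [Asymp.seq]
  rw [show (P : ℝ) + 1 / (m : ℝ) = ((m : ℝ) * P + 1) / m by field_simp, div_pow]
  push_cast
  ring

/-- `P^(n-1)`, and `0` for `n = 0` -/
def g' : ℕ → ℕ → ℕ
  | 0, _ => 0
  | e + 1, P => P ^ e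

theorem tendsto_g (n C D P : ℕ) :
    Tendsto (Asymp.seq n fun m => m * D * (C * g n (m * P))) atTop
      (nhds ((C * n.factorial : ℕ) * ((D : ℝ) * (g' n P : ℝ)))) := by
  cases n with
  | zero =>
    have h0 : Asymp.seq 0 (fun m => m * D * (C * g 0 (m * P))) = fun _ => (0 : ℝ) := by
      funext m
      simp [Asymp.seq, g]
    rw [h0]
    simp [g']
  | succ e =>
    have h1 : Tendsto (fun m : ℕ => ((C * (e + 1).factorial : ℕ) : ℝ) * ((D : ℝ) * ((P : ℝ) + 1 / (m : ℝ)) ^ e))
        atTop (nhds ((C * (e + 1).factorial : ℕ) * ((D : ℝ) * (P : ℝ) ^ e))) := by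
      simpa using (((tendsto_one_div_atTop_nhds_zero_nat.const_add (P : ℝ)).pow e).const_mul
        (D : ℝ)).const_mul ((C * (e + 1).factorial : ℕ) : ℝ)
    simp only [g', Nat.cast_pow]
    refine h1.congr' ((eventually_ge_atTop 1).mono fun m hm => ?_)
    have hm0 : (m : ℝ) ≠ 0 := by positivity
    simp only [Asymp.seq, g]
    rw [show (P : ℝ) + 1 / (m : ℝ) = ((m : ℝ) * P + 1) / m by field_simp, div_pow]
    push_cast
    field_simp
    ring

theorem N_nsmul {r : ℕ} (m : ℕ) (a : Fin r → ℤ) : N (m • a) = m * N a := by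
  simp [N, Finset.mul_sum, Int.natAbs_mul]

variable {X : Scheme.{u}}

attribute [local instance] PicLaw.law

theorem pw_nsmul {G : Type*} [CommGroup G] {r : ℕ} (x : Fin r → G) (m : ℕ) (a : Fin r → ℤ) :
    pw x (m • a) = pw x a ^ m := by
  rw [pw, pw, ← Finset.prod_pow]
  refine Finset.prod_congr rfl fun j _ => ?_
  rw [Pi.smul_apply, nsmul_eq_mul, mul_comm, zpow_mul, zpow_natCast]

variable (k : Type u) [Field k] [X.Over (Spec (CommRingCat.of k))]

theorem hc_pow (i : ℕ) {T : X.Modules} (hT : PicF.IsInvertible T) {x : PicLoc.PicSet X}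
    (hx : PicGrp.cls T hT = x) (m : ℕ) :
    Module.finrank k (Coh.HH X (CohB1.tensorPow T m) i) =
      hc k (Coh.structureModule X) (x ^ m) i := by
  have h1 : PicGrp.cls (CohB1.tensorPow T m) (isInvertible_tensorPow hT m) = x ^ m := by
    rw [← hx]
    exact Subtype.ext (PicGrp.cls_pow_val hT m).symm
  rw [hc_eq k _ _ h1]
  exact Pn.finrank_hh_iso (structure_tensor (isInvertible_tensorPow hT m)).some.symm i

variable [IsProper (X ↘ Spec (CommRingCat.of k))] {A : X.Modules} (hA : CohB1.IsAmple A) {n : ℕ}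
  (hn : topologicalKrullDim X = (n : WithBot ℕ∞))

include hA hn in
/-- `ĥⁱ(x^a) ≤ C |a|^n`. -/
theorem exists_hhat_le {r : ℕ} (x : Fin r → PicLoc.PicSet X) (i : ℕ) :
    ∃ C : ℕ, ∀ (a : Fin r → ℤ) (T : X.Modules) (hT : PicF.IsInvertible T),
      PicGrp.cls T hT = pw x a → W4c5asymptcohfn.hhat k X n i T ≤ (C : ℝ) * (N a : ℝ) ^ n := by
  haveI := EulerChar.isNoetherian k (X := X)
  obtain ⟨C, hC⟩ := exists_hc_lt k hA x (n + 1) _ (ProperFin.isCoh_structureModule X)
    (lt_of_le_of_lt (dim_support_le hn _) (by exact_mod_cast Nat.lt_succ_self n)) i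
  refine ⟨C * n.factorial, fun a T hT hx => ?_⟩
  refine le_of_forall_gt_imp_ge_of_dense fun b hb => limsup_le_of_le (cobounded n _) ?_
  filter_upwards [(tendsto_pow_one n C (N a)).eventually (eventually_le_nhds hb)] with m hm
  refine le_trans ?_ hm
  refine div_le_div_of_nonneg_right (mul_le_mul_of_nonneg_right ?_ (by positivity)) (by positivity)
  rw [hc_pow k i hT hx, ← pw_nsmul]
  have h := hC (m • a)
  rw [N_nsmul] at h
  exact_mod_cast h

include hA hn in
/-- `|ĥⁱ(x^a) - ĥⁱ(x^b)| ≤ C |b - a| (|a| + |b - a|)^(n-1)`. -/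
theorem exists_abs_hhat_sub_le {r : ℕ} (x : Fin r → PicLoc.PicSet X) (i : ℕ) :
    ∃ C : ℕ, ∀ (a b : Fin r → ℤ) (T T' : X.Modules) (hT : PicF.IsInvertible T)
      (hT' : PicF.IsInvertible T'), PicGrp.cls T hT = pw x a → PicGrp.cls T' hT' = pw x b →
      |W4c5asymptcohfn.hhat k X n i T - W4c5asymptcohfn.hhat k X n i T'| ≤
        (C : ℝ) * ((N (b - a) : ℝ) * (g' n (N a + N (b - a)) : ℝ)) := by
  haveI := EulerChar.isNoetherian k (X := X)
  have hO := ProperFin.isCoh_structureModule X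
  obtain ⟨C₀, hC₀⟩ := exists_hc_lt k hA x (n + 1) _ hO
    (lt_of_le_of_lt (dim_support_le hn _) (by exact_mod_cast Nat.lt_succ_self n)) i
  obtain ⟨C, hC⟩ := exists_hc_lipschitz k hA x hO (dim_support_le hn _) i
  refine ⟨C * n.factorial, fun a b T T' hT hT' hx hx' => ?_⟩
  have bd : ∀ (c : Fin r → ℤ) (m : ℕ),
      hc k (Coh.structureModule X) (pw x (m • c)) i ≤ C₀ * (N c + 1) ^ n * (m + 1) ^ n := fun c m => by
    refine (hC₀ _).trans ?_
    rw [N_nsmul, mul_assoc, ← mul_pow]
    refine Nat.mul_le_mul_left _ (Nat.pow_le_pow_left ?_ n)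
    nlinarith
  have key : ∀ m : ℕ, N (m • b - m • a) * (C * g n (N (m • a) + N (m • b - m • a))) =
      m * N (b - a) * (C * g n (m * (N a + N (b - a)))) := fun m => by
    rw [← smul_sub, N_nsmul, N_nsmul, Nat.mul_add]
  have e : ∀ {S : X.Modules} (hS : PicF.IsInvertible S) (c : Fin r → ℤ),
      PicGrp.cls S hS = pw x c →
      W4c5asymptcohfn.hhat k X n i S =
        limsup (Asymp.seq n fun m => hc k (Coh.structureModule X) (pw x (m • c)) i) atTop := fun {S} hS c hc' => by
    unfold W4c5asymptcohfn.hhat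
    congr 1
    funext m
    rw [hc_pow k i hS hc', ← pw_nsmul]
  rw [e hT a hx, e hT' b hx', abs_sub_le_iff, sub_le_iff_le_add', sub_le_iff_le_add']
  exact ⟨limsup_le_add (bd b) (tendsto_g n C (N (b - a)) (N a + N (b - a))) fun m => by
      have := (hC (m • a) (m • b)).1
      rwa [key] at this,
    limsup_le_add (bd a) (tendsto_g n C (N (b - a)) (N a + N (b - a))) fun m => by
      have := (hC (m • a) (m • b)).2
      rwa [key] at this⟩

theorem N_le {r : ℕ} (a : Fin r → ℤ) : (N a : ℝ) ≤ r * ‖(fun j => ((a j : ℤ) : ℝ))‖ := by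
  rw [N, Nat.cast_sum]
  refine le_trans (Finset.sum_le_card_nsmul _ _ ‖(fun j => ((a j : ℤ) : ℝ))‖ fun j _ => ?_) (by simp)
  refine le_trans (le_of_eq ?_) (norm_le_pi_norm (fun j => ((a j : ℤ) : ℝ)) j)
  rw [Real.norm_eq_abs, Nat.cast_natAbs, Int.cast_abs]

end Groth.Agent.BigVol.Multi
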