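import Groth.Agent.IntProd70.Nakai
import Groth.Agent.NumTriv.Proper
import Groth.Agent.HilbLoc.Normal
import Groth.Agent.FormalFun.TowerVan
import Groth.Agent.BigVol.SemiAmple

/-!
Numerically equivalent invertible modules have the same Euler characteristics after twisting.
-/

set_option autoImplicit false
set_option linter.style.haveILetI false

open CategoryTheory CategoryTheory.Limits AlgebraicGeometry TopologicalSpace

universe u

namespace Groth.Agent.BigVol.NumEquiv

open ProjTwist

section Isos

variable {X : Scheme.{u}}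

theorem nonempty_middleFour (A B C D : X.Modules) :
    Nonempty (CohB1.tensorMod (CohB1.tensorMod A B) (CohB1.tensorMod C D) ≅
      CohB1.tensorMod (CohB1.tensorMod A C) (CohB1.tensorMod B D)) :=
  ⟨tensAssoc A B _ ≪≫
    tensCongr (Iso.refl A) ((tensAssoc B C D).symm ≪≫ tensCongr (tensComm B C) (Iso.refl D) ≪≫
      tensAssoc C B D) ≪≫
    (tensAssoc A C _).symm⟩

theorem nonempty_tensorPow_tensor (L M : X.Modules) : ∀ n : ℕ,
    Nonempty (CohB1.tensorPow (CohB1.tensorMod L M) n ≅
      CohB1.tensorMod (CohB1.tensorPow L n) (CohB1.tensorPow M n))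
  | 0 => ⟨(oneTens _).symm⟩
  | n + 1 => by
    obtain ⟨e⟩ := nonempty_tensorPow_tensor L M n
    obtain ⟨e'⟩ := nonempty_middleFour (CohB1.tensorPow L n) (CohB1.tensorPow M n) L M
    exact ⟨tensCongr e (Iso.refl _) ≪≫ e'⟩

end Isos

variable (k : Type u) [Field k] [Infinite k] {X : Scheme.{u}} [X.Over (Spec (CommRingCat.of k))]
  [IsProper (X ↘ (Spec (CommRingCat.of k)))]

/-- Tensor products of numerically equal factors have equal Euler characteristics. -/
theorem euler_tensorList_congr {ι : Type*} {A B M : ι → X.Modules}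
    (hA : ∀ i, PicF.IsInvertible (A i)) (hM : ∀ i, NumTriv.Num1 k (M i))
    (e : ∀ i, Nonempty (B i ≅ CohB1.tensorMod (A i) (M i))) :
    ∀ (l : List ι) {F : X.Modules}, Coh.IsCoh F →
      Curv2.euler k X (CohB1.tensorMod (FGA.tensorList (l.map B)) F) =
        Curv2.euler k X (CohB1.tensorMod (FGA.tensorList (l.map A)) F) := by
  haveI := EulerChar.isNoetherian k (X := X)
  have hB : ∀ i, PicF.IsInvertible (B i) := fun i =>
    PicCl.isInvertible_of_iso (e i).some.symm (AmpleLib.isInvertible_tensorMod (hA i) (hM i).1)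
  intro l
  induction l with
  | nil => intro F _; rfl
  | cons a l ih =>
    intro F hF
    have hBF := Snapper.isCoh_tensorMod k (hB a) hF
    have hT : PicF.IsInvertible (FGA.tensorList (l.map A)) := Snapper.isInvertible_tensorList fun N hN => by
      obtain ⟨i, -, rfl⟩ := List.mem_map.1 hN
      exact hA i
    simp only [List.map_cons, FGA.tensorList]
    calc Curv2.euler k X (CohB1.tensorMod (CohB1.tensorMod (B a) (FGA.tensorList (l.map B))) F)
        = Curv2.euler k X (CohB1.tensorMod (FGA.tensorList (l.map B)) (CohB1.tensorMod (B a) F)) :=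
          EulerChar.euler_iso k (tensCongr (tensComm _ _) (Iso.refl F) ≪≫ tensAssoc _ _ _)
      _ = Curv2.euler k X (CohB1.tensorMod (FGA.tensorList (l.map A)) (CohB1.tensorMod (B a) F)) := ih hBF
      _ = Curv2.euler k X (CohB1.tensorMod
            (CohB1.tensorMod (CohB1.tensorMod (A a) (FGA.tensorList (l.map A))) F) (M a)) :=
          EulerChar.euler_iso k (tensCongr (Iso.refl _) (tensCongr (e a).some (Iso.refl F) ≪≫
            tensAssoc _ _ F ≪≫ tensCongr (Iso.refl _) (tensComm (M a) F) ≪≫ (tensAssoc _ F (M a)).symm) ≪≫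
            (tensAssoc _ _ (M a)).symm ≪≫ tensCongr ((tensAssoc _ _ F).symm ≪≫
              tensCongr (tensComm _ _) (Iso.refl F)) (Iso.refl _))
      _ = _ := NumTriv.euler_tens_eq'
          (Snapper.isCoh_tensorMod k (AmpleLib.isInvertible_tensorMod (hA a) hT) hF) (hM a)

omit [Infinite k] in
/-- Numerically equivalent modules have numerically trivial difference. -/
theorem num1_of_test {L L' : X.Modules} (hL : PicF.IsInvertible L) (hL' : PicF.IsInvertible L')
    (hnum : ∀ C : X.IdealSheafData, IsIntegral C.subscheme →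
      topologicalKrullDim (C.support : Set X) = 1 →
        Curv2.euler k X (CohB1.tensorMod (ClSub.quotMod C) L) =
          Curv2.euler k X (CohB1.tensorMod (ClSub.quotMod C) L')) :
    ∃ M : X.Modules, NumTriv.Num1 k M ∧ Nonempty (L' ≅ CohB1.tensorMod L M) := by
  obtain ⟨Li, hLi, ⟨eLi⟩⟩ := PicLaw.exists_inverse hL
  let M := CohB1.tensorMod L' Li
  have hM : PicF.IsInvertible M := AmpleLib.isInvertible_tensorMod hL' hLi
  let eM : L' ≅ CohB1.tensorMod L M :=
    (tensOne L').symm ≪≫ tensCongr (Iso.refl L') eLi.symm ≪≫ (tensAssoc L' L Li).symm ≪≫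
      tensCongr (tensComm L' L) (Iso.refl Li) ≪≫ tensAssoc L L' Li
  refine ⟨M, NumTriv.num1_of_isNumEquivZero k hM ?_, ⟨eM⟩⟩
  intro Y i _ hY hdim
  let C := i.ker
  haveI : IsIso i.toImage := inferInstance
  haveI : IsIntegral C.subscheme := by
    haveI : Nonempty C.subscheme := ⟨i.toImage (genericPoint Y)⟩
    exact isIntegral_of_isOpenImmersion (inv i.toImage)
  have hsupp : (C.support : Set X) = Set.range i := by
    rw [i.support_ker, i.isClosedEmbedding.isClosed_range.closure_eq]
  have hdC : topologicalKrullDim (C.support : Set X) = 1 := by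
    rw [hsupp, ← IsHomeomorph.topologicalKrullDim_eq _ i.isEmbedding.toHomeomorph.isHomeomorph]
    exact hdim
  letI : C.subscheme.Over (Spec (CommRingCat.of k)) := ⟨C.subschemeι ≫ (X ↘ Spec (CommRingCat.of k))⟩
  haveI : IsProper (C.subscheme ↘ Spec (CommRingCat.of k)) :=
    inferInstanceAs (IsProper (C.subschemeι ≫ (X ↘ Spec (CommRingCat.of k))))
  have hd : topologicalKrullDim C.subscheme = 1 := by
    rw [IsHomeomorph.topologicalKrullDim_eq _ C.subschemeι.isEmbedding.toHomeomorph.isHomeomorph,
      C.range_subschemeι]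
    exact hdC
  -- the test number of `M` vanishes
  have hsum : Curv2.euler k X (CohB1.tensorMod (ClSub.quotMod C) M) = Curv2.euler k X (ClSub.quotMod C) := by
    have h := hnum C inferInstance hdC
    rw [EulerChar.euler_iso k (tensCongr (Iso.refl (ClSub.quotMod C)) eM), ← sub_left_inj
      (a := Curv2.euler k X (ClSub.quotMod C)), CurveTest.euler_sub_eq_deg k C hL,
      CurveTest.euler_sub_eq_deg k C (AmpleLib.isInvertible_tensorMod hL hM)] at h
    obtain ⟨e⟩ := PicLaw.pullback_tensor C.subschemeι hL hM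
    have ht : Curv2.deg k C.subscheme (CohB1.tensorMod ((Scheme.Modules.pullback C.subschemeι).obj L)
        ((Scheme.Modules.pullback C.subschemeι).obj M)) (1 * 1) =
        (1 : ℕ) * Curv2.deg k C.subscheme ((Scheme.Modules.pullback C.subschemeι).obj M) 1 +
          (1 : ℕ) * Curv2.deg k C.subscheme ((Scheme.Modules.pullback C.subschemeι).obj L) 1 :=
      EulerChar.deg_tens k (ProjTwist.isFinLocFreeOfRank_one (PicCl.isInvertible_pullback _ hL)) hd.le
        (ProjTwist.isFinLocFreeOfRank_one (PicCl.isInvertible_pullback _ hM))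
    rw [EulerChar.deg_iso k e] at h
    rw [Nat.mul_one, Nat.cast_one, one_mul, one_mul, ← h] at ht
    refine sub_eq_zero.1 ?_
    rw [CurveTest.euler_sub_eq_deg k C hM]
    linarith
  letI : Y.Over (Spec (CommRingCat.of k)) := ⟨i ≫ (X ↘ Spec (CommRingCat.of k))⟩
  haveI : IsProper (Y ↘ Spec (CommRingCat.of k)) :=
    inferInstanceAs (IsProper (i ≫ (X ↘ Spec (CommRingCat.of k))))
  haveI := EulerChar.isNoetherian k (X := Y)
  haveI : (Coh.structureModule Y).IsQuasicoherent := ProjTwist.isQuasicoherent_structureModule Y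
  have hpush := EulerChar.euler_push i rfl (Coh.structureModule Y) inferInstance (k := k)
  have h1 : Curv2.euler k Y ((Scheme.Modules.pullback i).obj M) =
      Curv2.euler k Y (Coh.structureModule Y) := by
    rw [← EulerChar.euler_iso k (oneTens ((Scheme.Modules.pullback i).obj M)),
      NumTriv.euler_closed_tens (k := k) i rfl hM (ProperFin.isCoh_structureModule Y),
      ← EulerChar.euler_iso k (tensCongr (HilbLoc.quotModIso i) (Iso.refl M)), hsum,
      EulerChar.euler_iso k (HilbLoc.quotModIso i)]
    exact hpush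
  show @FGA.eulerCharLE k _ Y _ _ 1 - @FGA.eulerCharLE k _ Y _ _ 1 = 0
  rw [Snapper.eulerCharLE_eq k (X := Y) hdim.le, Snapper.eulerCharLE_eq k (X := Y) hdim.le]
  exact sub_eq_zero.2 h1

/-- Numerically equivalent modules have equal multi-Euler characteristics. -/
theorem euler_tensorPows_congr {L L' : X.Modules} (hL : PicF.IsInvertible L) (hL' : PicF.IsInvertible L')
    (hnum : ∀ C : X.IdealSheafData, IsIntegral C.subscheme →
      topologicalKrullDim (C.support : Set X) = 1 →
        Curv2.euler k X (CohB1.tensorMod (ClSub.quotMod C) L) =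
          Curv2.euler k X (CohB1.tensorMod (ClSub.quotMod C) L'))
    {F : X.Modules} (hF : Coh.IsCoh F) (d : ℕ) (n : Fin d → ℕ) :
    Curv2.euler k X (Curv2.tensorPows F d (fun _ => L') n) =
      Curv2.euler k X (Curv2.tensorPows F d (fun _ => L) n) := by
  obtain ⟨M, hM, ⟨e⟩⟩ := num1_of_test k hL hL' hnum
  rw [EulerChar.euler_iso k (IntProd70.tensorPows_iso F d _ n).some,
    EulerChar.euler_iso k (IntProd70.tensorPows_iso F d _ n).some]
  exact euler_tensorList_congr k (A := fun i => CohB1.tensorPow L (n i))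
    (M := fun i => CohB1.tensorPow M (n i)) (fun i => AmpleLib.isInvertible_tensorPow hL _)
    (fun i => NumTriv.num1_pow k hM _) (fun i => by
      obtain ⟨t⟩ := FormalFun.nonempty_tensorPow_congr e (n i)
      obtain ⟨t'⟩ := nonempty_tensorPow_tensor L M (n i)
      exact ⟨t ≪≫ t'⟩) _ hF

end Groth.Agent.BigVol.NumEquiv
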