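import Groth.Agent.BigVol.NumTrivH0
import Groth.Agent.BigVol.Asymp
import Groth.Agent.BigVol.NumEquiv
import Groth.Agent.NumTriv.Ample
import Groth.Agent.HilbPolyX.Dim
import Groth.Agent.ModFlat.Assoc
import Mathlib.Algebra.Homology.ShortComplex.SnakeLemma

/-!
`hⁱ(L^m ⊗ M) = hⁱ(L^m) + O(m^(n-1))`, uniformly in numerically trivial `M`.
-/

set_option autoImplicit false
set_option linter.style.haveILetI false

open CategoryTheory CategoryTheory.Limits AlgebraicGeometry TopologicalSpace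
open Groth.Agent.ProjTwist Groth.Agent.AmpleLib Groth.Agent.BigVol.CohBound
open Groth.Agent.PullStalk.Sky Groth.Agent.PullStalk.Exact
open Groth.Agent.Props.GenLocus

universe u

noncomputable section

namespace Groth.Agent.BigVol.NumShift

variable {X : Scheme.{u}}

/-- `F ⊗ t` -/
abbrev tmap (F : X.Modules) {T T' : X.Modules} (t : T ⟶ T') :
    CohB1.tensorMod F T ⟶ CohB1.tensorMod F T' :=
  ((DCoh.tensorBi (X := X)).obj F).map t

/-- The cokernel of `F ⊗ t`. -/
abbrev Q (F : X.Modules) {T T' : X.Modules} (t : T ⟶ T') : X.Modules := cokernel (tmap F t)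

/-- `t` is bijective on the stalks at the points of `S`. -/
def Good (S : Set X) {T T' : X.Modules} (t : T ⟶ T') : Prop :=
  ∀ y ∈ S, Function.Bijective (stalkLin t y)

theorem tmap_bijective (F : X.Modules) {T T' : X.Modules} (t : T ⟶ T') {y : X}
    (h : Function.Bijective (stalkLin t y)) : Function.Bijective (stalkLin (tmap F t) y) := by
  have he : ∀ z, KFlat.StalkTensor.stalkTensorEquiv F T' y (stalkLin (tmap F t) y z) =
      (stalkLin t y).lTensor (F.presheaf.stalk y) (KFlat.StalkTensor.stalkTensorEquiv F T y z) := fun z =>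
    LinearMap.congr_fun (congrArg ModuleCat.Hom.hom (KFlat.StalkCx.stIso_right y F t)) z
  have hb : Function.Bijective ((stalkLin t y).lTensor (F.presheaf.stalk y)) :=
    (TensorProduct.congr (LinearEquiv.refl _ _) (LinearEquiv.ofBijective _ h)).bijective
  have h' : Function.Bijective fun z =>
      KFlat.StalkTensor.stalkTensorEquiv F T' y (stalkLin (tmap F t) y z) := by
    rw [funext he]
    exact hb.comp (KFlat.StalkTensor.stalkTensorEquiv F T y).bijective
  exact ((KFlat.StalkTensor.stalkTensorEquiv F T' y).toEquiv.comp_bijective _).1 h'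

theorem ass_tensor {T : X.Modules} (hT : PicF.IsInvertible T) (F : X.Modules) :
    _root_.AssSch.Ass (CohB1.tensorMod F T) = _root_.AssSch.Ass F := by
  ext z
  obtain ⟨eB⟩ := EulerChar.stalk_ofRank (ProjTwist.isFinLocFreeOfRank_one hT) z
  exact ((KFlat.StalkTensor.stalkTensorEquiv F T z).trans
    ((TensorProduct.congr (LinearEquiv.refl _ _)
      (eB.symm.trans (LinearEquiv.funUnique (Fin 1) (X.presheaf.stalk z) (X.presheaf.stalk z)))).trans
        (TensorProduct.rid (X.presheaf.stalk z) (F.presheaf.stalk z)))).isAssociatedPrime_iff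

theorem mono_tmap [IsNoetherian X] {F T T' : X.Modules} (hF : Coh.IsCoh F) (hT : PicF.IsInvertible T)
    (hT' : PicF.IsInvertible T') (t : T ⟶ T') (hs : Good (_root_.AssSch.Ass F : Set X) t) :
    Mono (tmap F t) := by
  refine Pn.mono_of_injective_ass _ (isCoh_tensor hT hF) (isCoh_tensor hT' hF) fun z hz => ?_
  refine (tmap_bijective F t (hs z ?_)).1
  exact (ass_tensor hT F).le hz

theorem isCoh_Q [IsNoetherian X] {F T T' : X.Modules} (hF : Coh.IsCoh F) (hT : PicF.IsInvertible T)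
    (hT' : PicF.IsInvertible T') (t : T ⟶ T') : Coh.IsCoh (Q F t) :=
  CohDev.isCoh_cokernel _ (isCoh_tensor hT hF).1 (isCoh_tensor hT' hF)

theorem dim_Q [IsNoetherian X] {F T T' : X.Modules} (hF : Coh.IsCoh F) (hT : PicF.IsInvertible T)
    (hT' : PicF.IsInvertible T') (t : T ⟶ T') (hs : Good (_root_.AssSch.Ass F : Set X) t) {c : ℕ}
    (hc : topologicalKrullDim (CohB1.support F) < ((c + 1 : ℕ) : WithBot ℕ∞)) :
    topologicalKrullDim (CohB1.support (Q F t)) < (c : WithBot ℕ∞) := by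
  have hB : Coh.IsCoh (CohB1.tensorMod F T') := isCoh_tensor hT' hF
  have hQ := isCoh_Q hF hT hT' t
  have hsupp : ∀ y ∈ (_root_.AssSch.Ass F : Set X), y ∉ CohB1.support (Q F t) := fun y hy =>
    CohDev.not_mem_support_cokernel _ (tmap_bijective F t (hs y hy)).2
  have hsub : CohB1.support (Q F t) ⊆ CohB1.support F := fun y hy => by
    refine HilbPolyX.support_tensorMod_subset F T' (fun hsub => hy ?_)
    have : Subsingleton ((CohB1.tensorMod F T').presheaf.stalk y) := hsub
    exact (stalk_surjective (cokernel.π (tmap F t)) y).subsingleton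
  have := hF.1
  refine Pn.dim_add_one_le_of_forall_specializes (CohDev.isClosed_support hF)
    (CohDev.isClosed_support hQ) (fun ξ hξ => ?_) hsub hc
  obtain ⟨z, hz, hzξ⟩ := AssSch.Basic.exists_mem_ass_specializes F
    (not_subsingleton_iff_nontrivial.mp (hsub hξ))
  exact ⟨z, not_subsingleton_iff_nontrivial.mpr (AssSch.Basic.nontrivial_of_mem_ass F hz),
    hsupp z hz, hzξ⟩

/-- Cokernels of `F ⊗ t` form a short exact sequence. -/
theorem exists_Q_shortExact {S : ShortComplex X.Modules} (hS : S.ShortExact) {T T' : X.Modules}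
    (hT : PicF.IsInvertible T) (hT' : PicF.IsInvertible T') (t : T ⟶ T') (hm : Mono (tmap S.X₃ t)) :
    ∃ R : ShortComplex X.Modules, R.ShortExact ∧ Nonempty (R.X₁ ≅ Q S.X₁ t) ∧
      Nonempty (R.X₂ ≅ Q S.X₂ t) ∧ Nonempty (R.X₃ ≅ Q S.X₃ t) := by
  let S₁ := S.map ((DCoh.tensorBi (X := X)).flip.obj T)
  let S₂ := S.map ((DCoh.tensorBi (X := X)).flip.obj T')
  have h1 : S₁.ShortExact := shortExact_tensor hT hS
  have h2 : S₂.ShortExact := shortExact_tensor hT' hS
  let φ : S₁ ⟶ S₂ := S.mapNatTrans ((DCoh.tensorBi (X := X)).flip.map t)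
  let D : ShortComplex.SnakeInput X.Modules :=
    { L₀ := kernel φ
      L₁ := S₁
      L₂ := S₂
      L₃ := cokernel φ
      v₀₁ := kernel.ι φ
      v₁₂ := φ
      v₂₃ := cokernel.π φ
      h₀ := kernelIsKernel φ
      h₃ := cokernelIsCokernel φ
      L₁_exact := h1.exact
      epi_L₁_g := h1.epi_g
      L₂_exact := h2.exact
      mono_L₂_f := h2.mono_f }
  let a₃ : D.L₀.X₃ ≅ kernel φ.τ₃ := D.h₀τ₃.conePointUniqueUpToIso (limit.isLimit _)
  let b₁ : D.L₃.X₁ ≅ cokernel φ.τ₁ := D.h₃τ₁.coconePointUniqueUpToIso (colimit.isColimit _)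
  let b₂ : D.L₃.X₂ ≅ cokernel φ.τ₂ := D.h₃τ₂.coconePointUniqueUpToIso (colimit.isColimit _)
  let b₃ : D.L₃.X₃ ≅ cokernel φ.τ₃ := D.h₃τ₃.coconePointUniqueUpToIso (colimit.isColimit _)
  haveI : Mono φ.τ₃ := hm
  have hz : IsZero D.L₀.X₃ := (isZero_kernel_of_mono φ.τ₃).of_iso a₃
  haveI : Mono D.L₃.f := D.L₂'_exact.mono_g (hz.eq_of_src D.L₂'.f 0)
  haveI : Epi D.L₃.g := by
    haveI : Epi D.L₂.g := h2.epi_g
    exact D.epi_L₃_g
  exact ⟨D.L₃, { exact := D.L₃_exact }, ⟨b₁⟩, ⟨b₂⟩, ⟨b₃⟩⟩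

theorem nonempty_Q_congr {F F' : X.Modules} (e : F ≅ F') {T T' : X.Modules} (t : T ⟶ T') :
    Nonempty (Q F t ≅ Q F' t) :=
  ⟨cokernel.mapIso _ _ (((DCoh.tensorBi (X := X)).mapIso e).app T)
    (((DCoh.tensorBi (X := X)).mapIso e).app T')
    (((DCoh.tensorBi (X := X)).mapIso e).hom.naturality t)⟩

theorem nonempty_Q_assoc (F P : X.Modules) {T T' : X.Modules} (t : T ⟶ T') :
    Nonempty (Q (CohB1.tensorMod F P) t ≅ Q F (tmap P t)) := by
  refine ⟨cokernel.mapIso _ _ (tensAssoc F P T) (tensAssoc F P T') ?_⟩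
  exact (((ModFlat.tensorBiAssoc X.sheaf).app F).app P).hom.naturality t

variable (k : Type u) [Field k] [X.Over (Spec (CommRingCat.of k))]
  [IsProper (X ↘ Spec (CommRingCat.of k))] {H : X.Modules} (hH : CohB1.IsAmple H)

include hH in
/-- `hⁱ(F ⊗ N)` is bounded over numerically trivial `N`. -/
theorem exists_h_bound : ∀ (d : ℕ) (F : X.Modules), Coh.IsCoh F →
    topologicalKrullDim (CohB1.support F) < (d : WithBot ℕ∞) →
    ∀ i : ℕ, ∃ C : ℕ, ∀ N : X.Modules, NumTriv.Num1 k N → h k (CohB1.tensorMod F N) i ≤ C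
  | 0, F, _, hd, i => by
    haveI := EulerChar.isNoetherian k (X := X)
    refine ⟨0, fun N _ => le_of_eq ?_⟩
    have h1 := hh_eq_zero k hd N 1 i
    rw [← h1]
    exact Pn.finrank_hh_iso (tensCongr (Iso.refl F) (oneTens N).symm) i
  | d + 1, F, hF, hd, i => by
    haveI := EulerChar.isNoetherian k (X := X)
    obtain ⟨n, e, he, hw⟩ := NumTriv.exists_closedImmersion_of_ample (k := k) hH
    haveI := he
    obtain ⟨D, hD⟩ := NumTriv.FiniteField.exists_vanishing e hw hF
    let L := NumTriv.oX e (D : ℤ)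
    have hL : PicF.IsInvertible L := NumTriv.isInvertible_oX e _
    obtain ⟨FP, FQ, cP, cQ, hdim, hs⟩ := exists_close_twist k hH hL hF
    have cQL : Coh.IsCoh (CohB1.tensorMod FQ L) := isCoh_tensor hL cQ
    have dQL : topologicalKrullDim (CohB1.support (CohB1.tensorMod FQ L)) < (d : WithBot ℕ∞) :=
      lt_of_le_of_lt (NumTriv.dim_support_tens_le FQ L) (hdim d hd).2
    obtain ⟨C₁, h₁⟩ := exists_h_bound d _ cQL dQL i
    obtain ⟨C₂, h₂⟩ := exists_h_bound d FP cP (hdim d hd).1 (i - 1)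
    refine ⟨(Curv2.euler k X (CohB1.tensorMod F L)).toNat + C₁ + C₂, fun N hN => ?_⟩
    refine ((hs N hN.1 i).2).trans (Nat.add_le_add (Nat.add_le_add ?_ ?_) (h₂ N hN))
    · have hiso : CohB1.tensorMod F (CohB1.tensorMod N L) ≅
          Pic13.twistOn k e (CohB1.tensorMod F N) (D : ℤ) := (tensAssoc F N L).symm
      rw [show h k (CohB1.tensorMod F (CohB1.tensorMod N L)) i =
        h k (Pic13.twistOn k e (CohB1.tensorMod F N) (D : ℤ)) i from Pn.finrank_hh_iso hiso i]
      rcases Nat.eq_zero_or_pos i with rfl | hi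
      · have hv : ∀ q, 1 ≤ q → Subsingleton (Coh.HH X (Pic13.twistOn k e (CohB1.tensorMod F N) (D : ℤ)) q) :=
          fun q hq => hD N hN D le_rfl q hq
        have h3 := EulerChar.euler_eq_sum k (t := 1) hv
        simp only [Finset.sum_range_one, pow_zero, one_mul] at h3
        let eL : CohB1.tensorMod (CohB1.tensorMod F L) N ≅
            Pic13.twistOn k e (CohB1.tensorMod F N) (D : ℤ) :=
          tensAssoc F L N ≪≫ tensCongr (Iso.refl F) (tensComm L N) ≪≫ hiso
        rw [← EulerChar.euler_iso k eL,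
          NumTriv.AnyField.euler_tens_eq' (isCoh_tensor hL hF) hN] at h3
        rw [h3]
        exact le_of_eq (Int.toNat_natCast _).symm
      · haveI := hD N hN D le_rfl i hi
        exact le_of_eq_of_le Module.finrank_zero_of_subsingleton (Nat.zero_le _)
    · exact le_of_eq_of_le (Pn.finrank_hh_iso
        (tensCongr (Iso.refl FQ) (tensComm N L) ≪≫ (tensAssoc FQ L N).symm) i) (h₁ N hN)

include hH in
/-- Multiplication by a map good at finitely many fixed points changes `hⁱ` by `O((m + 1)^(d-1))`. -/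
theorem exists_Q_bound {L A : X.Modules} (hL : PicF.IsInvertible L) (hA : PicF.IsInvertible A) :
    ∀ (d : ℕ) (F : X.Modules), Coh.IsCoh F →
      topologicalKrullDim (CohB1.support F) < ((d + 1 : ℕ) : WithBot ℕ∞) →
      ∃ S : Finset X, ∀ i : ℕ, ∃ C : ℕ, ∀ (m : ℕ) (N N' T T' : X.Modules) (t : T ⟶ T'),
        NumTriv.Num1 k N → NumTriv.Num1 k N' →
        Nonempty (T ≅ CohB1.tensorMod (CohB1.tensorPow L m) N) →
        Nonempty (T' ≅ CohB1.tensorMod (CohB1.tensorMod (CohB1.tensorPow L m) A) N') →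
        Good (S : Set X) t → h k (Q F t) i ≤ C * g d m
  | 0, F, hF, hd => by
    haveI := EulerChar.isNoetherian k (X := X)
    refine ⟨(S19801.finite_ass hF).toFinset, fun i => ⟨0, fun m N N' T T' t hN hN' ⟨e⟩ ⟨e'⟩ hg => ?_⟩⟩
    have hT : PicF.IsInvertible T :=
      PicCl.isInvertible_of_iso e.symm (isInvertible_tensorMod (isInvertible_tensorPow hL m) hN.1)
    have hT' : PicF.IsInvertible T' := PicCl.isInvertible_of_iso e'.symm
      (isInvertible_tensorMod (isInvertible_tensorMod (isInvertible_tensorPow hL m) hA) hN'.1)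
    rw [Set.Finite.coe_toFinset] at hg
    have hd' := dim_Q hF hT hT' t hg hd
    have h1 := hh_eq_zero k hd' (Coh.structureModule X) 1 i
    refine le_of_eq_of_le ?_ (Nat.zero_le _)
    rw [← h1]
    exact Pn.finrank_hh_iso
      ((tensOne _).symm ≪≫ tensCongr (Iso.refl _) (oneTens (Coh.structureModule X)).symm) i
  | d + 1, F, hF, hd => by
    classical
    haveI := EulerChar.isNoetherian k (X := X)
    have hO := LFFrame.isInvertible_structureModule X
    obtain ⟨N₁, h₁⟩ := exists_section_twist hH hL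
      (BigVol.isCoh_of_isInvertible hL) (S19801.finite_ass hF).toFinset
    obtain ⟨N₂, h₂⟩ := exists_section_twist hH hO (ProperFin.isCoh_structureModule X)
      (S19801.finite_ass hF).toFinset
    obtain ⟨σP, hσP⟩ := h₁ (max N₁ N₂) (le_max_left _ _)
    obtain ⟨σQ, hσQ⟩ := h₂ (max N₁ N₂) (le_max_right _ _)
    let HN := CohB1.tensorPow H (max N₁ N₂)
    let P := CohB1.tensorMod L HN
    let P' := CohB1.tensorMod (Coh.structureModule X) HN
    have hHN : PicF.IsInvertible HN := isInvertible_tensorPow hH.1 _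
    have hP : PicF.IsInvertible P := isInvertible_tensorMod hL hHN
    have hP' : PicF.IsInvertible P' := isInvertible_tensorMod hO hHN
    obtain ⟨mP, cP, dP⟩ := mulSec_drop hP hF (homOfSec σP) (by
      rw [genLocus_homOfSec]
      exact fun x hx => hσP ((S19801.finite_ass hF).mem_toFinset.mpr hx))
    obtain ⟨mQ, cQ, dQ⟩ := mulSec_drop hP' hF (homOfSec σQ) (by
      rw [genLocus_homOfSec]
      exact fun x hx => hσQ ((S19801.finite_ass hF).mem_toFinset.mpr hx))
    have sP : (ShortComplex.mk _ _ (cokernel.condition (HilbPolyX.mulSec F (homOfSec σP)))).ShortExact :=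
      ShortComplex.ShortExact.mk' (ShortComplex.exact_cokernel _) mP
        (inferInstanceAs (Epi (cokernel.π (HilbPolyX.mulSec F (homOfSec σP)))))
    have sQ : (ShortComplex.mk _ _ (cokernel.condition (HilbPolyX.mulSec F (homOfSec σQ)))).ShortExact :=
      ShortComplex.ShortExact.mk' (ShortComplex.exact_cokernel _) mQ
        (inferInstanceAs (Epi (cokernel.π (HilbPolyX.mulSec F (homOfSec σQ)))))
    generalize hFP : cokernel (HilbPolyX.mulSec F (homOfSec σP)) = FP at cP dP
    generalize hFQ : cokernel (HilbPolyX.mulSec F (homOfSec σQ)) = FQ at cQ dQ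
    obtain ⟨SP, hSP⟩ := exists_Q_bound hL hA d FP cP (dP (d + 1) hd)
    obtain ⟨SQ, hSQ⟩ := exists_Q_bound hL hA d FQ cQ (dQ (d + 1) hd)
    obtain ⟨M, hM, ⟨eM⟩⟩ := PicLaw.exists_inverse hL
    refine ⟨(S19801.finite_ass hF).toFinset ∪ (S19801.finite_ass cP).toFinset ∪
      (S19801.finite_ass cQ).toFinset ∪ SP ∪ SQ, fun i => ?_⟩
    obtain ⟨C₁, hC₁⟩ := hSP i
    obtain ⟨C₂, hC₂⟩ := hSQ (i - 1)
    have hd2 : topologicalKrullDim (CohB1.support (CohB1.tensorMod F A)) <
        ((d + 1 + 1 : ℕ) : WithBot ℕ∞) := lt_of_le_of_lt (NumTriv.dim_support_tens_le F A) hd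
    obtain ⟨B₁, hB₁⟩ := exists_h_bound k hH _ _ (isCoh_tensor hA hF) hd2 i
    obtain ⟨B₂, hB₂⟩ := exists_h_bound k hH _ F hF hd (i + 1)
    refine ⟨B₁ + B₂ + (C₁ + C₂) * 2 ^ d, fun m => ?_⟩
    induction m with
    | zero =>
      intro N N' T T' t hN hN' ⟨e⟩ ⟨e'⟩ hg
      have hT : PicF.IsInvertible T :=
        PicCl.isInvertible_of_iso e.symm (isInvertible_tensorMod (isInvertible_tensorPow hL 0) hN.1)
      have hT' : PicF.IsInvertible T' := PicCl.isInvertible_of_iso e'.symm
        (isInvertible_tensorMod (isInvertible_tensorMod (isInvertible_tensorPow hL 0) hA) hN'.1)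
      have hm := mono_tmap hF hT hT' t fun y hy => hg y (by simp [hy])
      have hse : (ShortComplex.mk _ _ (cokernel.condition (tmap F t))).ShortExact :=
        ShortComplex.ShortExact.mk' (ShortComplex.exact_cokernel _) hm
          (inferInstanceAs (Epi (cokernel.π (tmap F t))))
      have h3 : h k (Q F t) i ≤ h k (CohB1.tensorMod F T') i + h k (CohB1.tensorMod F T) (i + 1) :=
        (h_triangle k hse (isCoh_tensor hT hF) (isCoh_tensor hT' hF) (isCoh_Q hF hT hT' t) i).2.2
      have u1 : h k (CohB1.tensorMod F T') i ≤ B₁ := le_of_eq_of_le (Pn.finrank_hh_iso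
        (tensCongr (Iso.refl F) (e' ≪≫ tensCongr (oneTens A) (Iso.refl N')) ≪≫
          (tensAssoc F A N').symm) i) (hB₁ N' hN')
      have u2 : h k (CohB1.tensorMod F T) (i + 1) ≤ B₂ := le_of_eq_of_le (Pn.finrank_hh_iso
        (tensCongr (Iso.refl F) (e ≪≫ oneTens N)) (i + 1)) (hB₂ N hN)
      simp only [g, zero_add, one_pow, mul_one]
      omega
    | succ m ih =>
      intro N N' T T' u hN hN' ⟨e⟩ ⟨e'⟩ hg
      have hT : PicF.IsInvertible T := PicCl.isInvertible_of_iso e.symm
        (isInvertible_tensorMod (isInvertible_tensorPow hL (m + 1)) hN.1)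
      have hT' : PicF.IsInvertible T' := PicCl.isInvertible_of_iso e'.symm
        (isInvertible_tensorMod (isInvertible_tensorMod (isInvertible_tensorPow hL (m + 1)) hA) hN'.1)
      let t := tmap M u
      have hgt : ∀ y, Function.Bijective (stalkLin u y) → Function.Bijective (stalkLin t y) :=
        fun y => tmap_bijective M u
      have hMT : PicF.IsInvertible (CohB1.tensorMod M T) := isInvertible_tensorMod hM hT
      have hMT' : PicF.IsInvertible (CohB1.tensorMod M T') := isInvertible_tensorMod hM hT'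
      let W := CohB1.tensorPow L m
      let cW : CohB1.tensorMod M (CohB1.tensorPow L (m + 1)) ≅ W :=
        tensComm M (CohB1.tensorMod W L) ≪≫ tensAssoc W L M ≪≫ tensCongr (Iso.refl W) eM ≪≫ tensOne W
      let f : CohB1.tensorMod M T ≅ CohB1.tensorMod W N :=
        tensCongr (Iso.refl M) e ≪≫ (tensAssoc M _ N).symm ≪≫ tensCongr cW (Iso.refl N)
      let f' : CohB1.tensorMod M T' ≅ CohB1.tensorMod (CohB1.tensorMod W A) N' :=
        tensCongr (Iso.refl M) e' ≪≫ (tensAssoc M _ N').symm ≪≫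
          tensCongr ((tensAssoc M _ A).symm ≪≫ tensCongr cW (Iso.refl A)) (Iso.refl N')
      have i1 := ih N N' _ _ t hN hN' ⟨f⟩ ⟨f'⟩ fun y hy => hgt y (hg y hy)
      have i2 := hC₁ m N N' _ _ t hN hN' ⟨f⟩ ⟨f'⟩ fun y hy => hgt y (hg y (by simp [hy]))
      have i3 := hC₂ (m + 1) N N' _ _ u hN hN' ⟨e⟩ ⟨e'⟩ fun y hy => hg y (by simp [hy])
      subst hFP hFQ
      obtain ⟨RP, hRP, ⟨p₁⟩, ⟨p₂⟩, ⟨p₃⟩⟩ := exists_Q_shortExact sP hMT hMT' t
        (mono_tmap cP hMT hMT' t fun y hy => hgt y (hg y (by simp [hy])))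
      obtain ⟨RQ, hRQ, ⟨q₁⟩, ⟨q₂⟩, ⟨q₃⟩⟩ := exists_Q_shortExact sQ hT hT' u
        (mono_tmap cQ hT hT' u fun y hy => hg y (by simp [hy]))
      have tP := (h_triangle k hRP (CohDev.isCoh_of_iso p₁.symm (isCoh_Q hF hMT hMT' t))
        (CohDev.isCoh_of_iso p₂.symm (isCoh_Q (isCoh_tensor hP hF) hMT hMT' t))
        (CohDev.isCoh_of_iso p₃.symm (isCoh_Q cP hMT hMT' t)) i).1
      have tQ := (h_triangle k hRQ (CohDev.isCoh_of_iso q₁.symm (isCoh_Q hF hT hT' u))
        (CohDev.isCoh_of_iso q₂.symm (isCoh_Q (isCoh_tensor hP' hF) hT hT' u))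
        (CohDev.isCoh_of_iso q₃.symm (isCoh_Q cQ hT hT' u)) i).2.1
      simp only [h, Pn.finrank_hh_iso (k := k) p₁, Pn.finrank_hh_iso (k := k) p₂,
        Pn.finrank_hh_iso (k := k) p₃, Pn.finrank_hh_iso (k := k) q₁,
        Pn.finrank_hh_iso (k := k) q₂, Pn.finrank_hh_iso (k := k) q₃] at tP tQ
      obtain ⟨a₁⟩ := nonempty_Q_assoc (CohB1.tensorMod F P) M u
      obtain ⟨a₂⟩ := nonempty_Q_congr (show CohB1.tensorMod (CohB1.tensorMod F P) M ≅
          CohB1.tensorMod F P' from
        tensAssoc F P M ≪≫ tensCongr (Iso.refl F) (tensComm P M ≪≫ (tensAssoc M L HN).symm ≪≫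
          tensCongr (tensComm M L ≪≫ eM) (Iso.refl HN))) u
      have hmid : h k (Q (CohB1.tensorMod F P') u) i = h k (Q (CohB1.tensorMod F P) t) i :=
        Pn.finrank_hh_iso (k := k) (a₂.symm ≪≫ a₁) i
      have key : h k (Q F u) i ≤ h k (Q F t) i +
          h k (Q (cokernel (HilbPolyX.mulSec F (homOfSec σP))) t) i +
          h k (Q (cokernel (HilbPolyX.mulSec F (homOfSec σQ))) u) (i - 1) := by
        simp only [h] at hmid ⊢
        refine tQ.trans ?_
        exact Nat.add_le_add_right ((le_of_eq hmid).trans tP) _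
      have hg1 := g_step d m
      have hg2 := g_shift d m
      have h2 : 1 ≤ 2 ^ d := Nat.one_le_two_pow
      have hDD := Nat.mul_le_mul_left (B₁ + B₂ + (C₁ + C₂) * 2 ^ d) hg1
      have i3' := i3.trans (Nat.mul_le_mul_left _ hg2)
      nlinarith

variable [Infinite k]

include k in
omit [IsProper (X ↘ Spec (CommRingCat.of k))] in
/-- A globally generated invertible module has a section generating at given finitely many points. -/
theorem exists_section_gg {B : X.Modules} (hB : PicF.IsInvertible B)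
    (hg : Curv2.IsGloballyGenerated B) (E : Finset X) :
    ∃ σ : Γ(B, ⊤), (E : Set X) ⊆ locus σ := by
  classical
  let q : k →+* Γ(X, ⊤) := ProjUP.toGlobal (X ↘ Spec (CommRingCat.of k))
  induction E using Finset.induction with
  | empty => exact ⟨0, by simp⟩
  | insert z E hz ih =>
    obtain ⟨s, hs⟩ := ih
    obtain ⟨t, ht⟩ := DimOneAmple.exists_genLocus_mem hB hg z
    have key : ∀ y ∈ insert z E, {c : k | y ∉ locus (s + q c • t)}.Subsingleton := by
      intro y hy c hc c' hc'
      by_contra hne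
      have hu : IsUnit (q c - q c') := by
        rw [← map_sub]
        exact (isUnit_iff_ne_zero.mpr (sub_ne_zero.mpr hne)).map q
      by_cases hyt : y ∈ locus t
      · have h1 : y ∈ locus ((q c - q c') • t) := by
          rw [locus_smul hB, Scheme.basicOpen_of_isUnit _ hu]
          exact ⟨trivial, hyt⟩
        have h2 := mem_locus_add hB (s + q c' • t) ((q c - q c') • t) hc' h1
        rw [sub_smul, add_add_sub_cancel] at h2
        exact hc h2
      · have hys : y ∈ locus s := by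
          rcases Finset.mem_insert.mp hy with rfl | hyE
          · exact absurd ht hyt
          · exact hs hyE
        refine hc ?_
        rw [add_comm]
        refine mem_locus_add hB (q c • t) s ?_ hys
        rw [locus_smul hB]
        exact fun h => hyt h.2
    obtain ⟨c, hc⟩ := (Set.Finite.biUnion (insert z E).finite_toSet
      fun y hy => (key y hy).finite).exists_notMem
    exact ⟨s + q c • t, fun y hy => by
      by_contra h
      exact hc (Set.mem_biUnion hy h)⟩

include hH in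
/-- `|hⁱ(L^m ⊗ M) - hⁱ(L^m)| = O((m + 1)^(d-1))`, uniformly in numerically trivial `M`. -/
theorem exists_h_shift {L : X.Modules} (hL : PicF.IsInvertible L) {d : ℕ}
    (hd : topologicalKrullDim X ≤ (d : WithBot ℕ∞)) (i : ℕ) :
    ∃ C : ℕ, ∀ (m : ℕ) (M : X.Modules), NumTriv.Num1 k M →
      h k (CohB1.tensorMod (CohB1.tensorPow L m) M) i ≤ h k (CohB1.tensorPow L m) i + C * g d m ∧
        h k (CohB1.tensorPow L m) i ≤ h k (CohB1.tensorMod (CohB1.tensorPow L m) M) i + C * g d m := by
  classical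
  haveI := EulerChar.isNoetherian k (X := X)
  obtain ⟨N₀, hgg⟩ := NumTriv.exists_uniform_gg (k := k) hH
  let A := CohB1.tensorPow H N₀
  have hA : PicF.IsInvertible A := isInvertible_tensorPow hH.1 N₀
  have hOc := ProperFin.isCoh_structureModule X
  have hd' : topologicalKrullDim (CohB1.support (Coh.structureModule X)) <
      ((d + 1 : ℕ) : WithBot ℕ∞) :=
    lt_of_le_of_lt ((Topology.IsEmbedding.subtypeVal).isInducing.topologicalKrullDim_le.trans hd)
      (Nat.cast_lt.mpr (Nat.lt_succ_self d))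
  obtain ⟨S₀, hS₀⟩ := exists_Q_bound k hH hL hA d _ hOc hd'
  let S := S₀ ∪ (S19801.finite_ass hOc).toFinset
  obtain ⟨C₁, hC₁⟩ := hS₀ i
  obtain ⟨C₂, hC₂⟩ := hS₀ (i - 1)
  refine ⟨C₁ + C₂, fun m M hM => ?_⟩
  let W := CohB1.tensorPow L m
  have hW : PicF.IsInvertible W := isInvertible_tensorPow hL m
  have h1 : NumTriv.Num1 k (Coh.structureModule X) := NumTriv.num1_one k
  have hAM := isInvertible_tensorMod hA hM.1
  have hAO := isInvertible_tensorMod hA h1.1
  obtain ⟨σ, hσ⟩ := exists_section_gg k hAM (hgg N₀ le_rfl M hM) S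
  obtain ⟨ρ, hρ⟩ := exists_section_gg k hAO (hgg N₀ le_rfl _ h1) S
  let WM := CohB1.tensorMod W M
  let t₁ := tmap W (homOfSec σ)
  let t₂ := tmap WM (homOfSec ρ)
  have g₁ : Good (S : Set X) t₁ := fun y hy => tmap_bijective _ _
    (HilbPolyX.stalk_sec_bijective _ (by rw [genLocus_homOfSec]; exact hσ hy))
  have g₂ : Good (S : Set X) t₂ := fun y hy => tmap_bijective _ _
    (HilbPolyX.stalk_sec_bijective _ (by rw [genLocus_homOfSec]; exact hρ hy))
  have hT₁ := isInvertible_tensorMod hW (LFFrame.isInvertible_structureModule X)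
  have hT₂ := isInvertible_tensorMod (isInvertible_tensorMod hW hM.1) (LFFrame.isInvertible_structureModule X)
  have hU₁ := isInvertible_tensorMod hW hAM
  have hU₂ := isInvertible_tensorMod (isInvertible_tensorMod hW hM.1) hAO
  let eU₁ : CohB1.tensorMod W (CohB1.tensorMod A M) ≅ CohB1.tensorMod (CohB1.tensorMod W A) M :=
    (tensAssoc W A M).symm
  let eU₂ : CohB1.tensorMod WM (CohB1.tensorMod A (Coh.structureModule X)) ≅
      CohB1.tensorMod (CohB1.tensorMod W A) M :=
    tensCongr (Iso.refl WM) (tensOne A) ≪≫ tensAssoc W M A ≪≫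
      tensCongr (Iso.refl W) (tensComm M A) ≪≫ eU₁
  have a₁ := hC₁ m (Coh.structureModule X) M _ _ t₁ h1 hM ⟨Iso.refl _⟩ ⟨eU₁⟩ fun y hy => g₁ y (Finset.mem_union_left _ hy)
  have a₁' := hC₂ m (Coh.structureModule X) M _ _ t₁ h1 hM ⟨Iso.refl _⟩ ⟨eU₁⟩ fun y hy => g₁ y (Finset.mem_union_left _ hy)
  have a₂ := hC₁ m M M _ _ t₂ hM hM ⟨tensOne WM⟩ ⟨eU₂⟩ fun y hy => g₂ y (Finset.mem_union_left _ hy)
  have a₂' := hC₂ m M M _ _ t₂ hM hM ⟨tensOne WM⟩ ⟨eU₂⟩ fun y hy => g₂ y (Finset.mem_union_left _ hy)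
  have hse : ∀ {T T' : X.Modules} (t : T ⟶ T') (hT : PicF.IsInvertible T) (hT' : PicF.IsInvertible T'),
      Good (S : Set X) t →
      h k T' i ≤ h k T i + h k (Q (Coh.structureModule X) t) i ∧ h k T i ≤ h k T' i + h k (Q (Coh.structureModule X) t) (i - 1) := by
    intro T T' t hT hT' hg
    have hm := mono_tmap hOc hT hT' t fun y hy => hg y (by simp [S, hy])
    have hse : (ShortComplex.mk _ _ (cokernel.condition (tmap (Coh.structureModule X) t))).ShortExact :=
      ShortComplex.ShortExact.mk' (ShortComplex.exact_cokernel _) hm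
        (inferInstanceAs (Epi (cokernel.π (tmap (Coh.structureModule X) t))))
    have h3 := h_triangle k hse (isCoh_tensor hT hOc) (isCoh_tensor hT' hOc) (isCoh_Q hOc hT hT' t) i
    have u1 : h k (CohB1.tensorMod (Coh.structureModule X) T) i = h k T i := Pn.finrank_hh_iso (oneTens T) i
    have u2 : h k (CohB1.tensorMod (Coh.structureModule X) T') i = h k T' i := Pn.finrank_hh_iso (oneTens T') i
    change h k (CohB1.tensorMod (Coh.structureModule X) T') i ≤ _ ∧ _ ∧ _ at h3
    obtain ⟨v1, v2, -⟩ := h3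
    have v1' : h k (CohB1.tensorMod (Coh.structureModule X) T') i ≤
        h k (CohB1.tensorMod (Coh.structureModule X) T) i + h k (Q (Coh.structureModule X) t) i := v1
    have v2' : h k (CohB1.tensorMod (Coh.structureModule X) T) i ≤
        h k (CohB1.tensorMod (Coh.structureModule X) T') i + h k (Q (Coh.structureModule X) t) (i - 1) := v2
    omega
  obtain ⟨p1, p2⟩ := hse t₁ hT₁ hU₁ g₁
  obtain ⟨q1, q2⟩ := hse t₂ hT₂ hU₂ g₂
  have e1 : h k (CohB1.tensorMod W (Coh.structureModule X)) i = h k W i := Pn.finrank_hh_iso (tensOne W) i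
  have e2 : h k (CohB1.tensorMod WM (Coh.structureModule X)) i = h k WM i := Pn.finrank_hh_iso (tensOne WM) i
  have e3 : h k (CohB1.tensorMod W (CohB1.tensorMod A M)) i =
      h k (CohB1.tensorMod WM (CohB1.tensorMod A (Coh.structureModule X))) i :=
    Pn.finrank_hh_iso (eU₁ ≪≫ eU₂.symm) i
  show h k WM i ≤ h k W i + (C₁ + C₂) * g d m ∧ h k W i ≤ h k WM i + (C₁ + C₂) * g d m
  rw [Nat.add_mul]
  constructor <;> omega

include hH in
/-- `ĥⁱ(L ⊗ P) = ĥⁱ(L)` for numerically trivial `P`. -/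
theorem hhat_tensor_num1 {n : ℕ} (hn : topologicalKrullDim X = (n : WithBot ℕ∞)) {L P : X.Modules}
    (hL : PicF.IsInvertible L) (hP : NumTriv.Num1 k P) (i : ℕ) :
    W4c5asymptcohfn.hhat k X n i (CohB1.tensorMod L P) = W4c5asymptcohfn.hhat k X n i L := by
  haveI := EulerChar.isNoetherian k (X := X)
  have hO := ProperFin.isCoh_structureModule X
  have hdO := Asymp.dim_support_le hn (Coh.structureModule X)
  obtain ⟨C, hC⟩ := exists_h_shift k hH hL hn.le i
  have bd : ∀ {T : X.Modules}, PicF.IsInvertible T →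
      ∃ C₀ : ℕ, ∀ m : ℕ, h k (CohB1.tensorPow T m) i ≤ C₀ * (m + 1) ^ n := fun {T} hT => by
    obtain ⟨C₀, hC₀⟩ := exists_hh_le k hH hT hO hdO i
    exact ⟨C₀, fun m => le_of_eq_of_le (Pn.finrank_hh_iso (oneTens _).symm i) (hC₀ m)⟩
  obtain ⟨B₁, hB₁⟩ := bd hL
  obtain ⟨B₂, hB₂⟩ := bd (isInvertible_tensorMod hL hP.1)
  have e : ∀ m, h k (CohB1.tensorPow (CohB1.tensorMod L P) m) i =
      h k (CohB1.tensorMod (CohB1.tensorPow L m) (CohB1.tensorPow P m)) i := fun m =>
    Pn.finrank_hh_iso (NumEquiv.nonempty_tensorPow_tensor L P m).some i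
  exact le_antisymm
    (Asymp.limsup_le hB₁ fun m => (e m).trans_le (hC m _ (NumTriv.num1_pow k hP m)).1)
    (Asymp.limsup_le (C := C) hB₂ fun m => by
      have h2 := (hC m _ (NumTriv.num1_pow k hP m)).2
      rw [← e m] at h2
      exact h2)

end Groth.Agent.BigVol.NumShift
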