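import Groth.Agent.NumTriv.FiniteField
import Groth.Agent.NumTriv.AnyField
import Groth.Agent.NumTriv.Section
import Groth.Agent.BigVol.Basic
import Groth.Agent.FormalFun.TowerVan
import Groth.Agent.AmpCrit.SerreVan

/-!
Sections of large ample twists by numerically trivial modules.
-/

universe u

open CategoryTheory CategoryTheory.Limits AlgebraicGeometry TopologicalSpace
open Groth.Agent.ProjTwist Groth.Agent.AmpleLib

set_option autoImplicit false
set_option linter.style.haveILetI false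

noncomputable section

namespace Groth.Agent.BigVol.NumTrivH0

variable (k : Type u) [Field k] {X : Scheme.{u}} [X.Over (Spec (CommRingCat.of k))]
  [IsProper (X ↘ Spec (CommRingCat.of k))]

/-- Uniform vanishing for numerically trivial twists of powers of an ample module. -/
theorem exists_vanishing {L : X.Modules} (hL : CohB1.IsAmple L) :
    ∃ m₀ : ℕ, ∀ m : ℕ, m₀ ≤ m → ∀ M : X.Modules, NumTriv.Num1 k M → ∀ q : ℕ, 1 ≤ q →
      Subsingleton (Coh.HH X (CohB1.tensorMod (CohB1.tensorPow L m) M) q) := by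
  haveI := EulerChar.isNoetherian k (X := X)
  obtain ⟨a, n, i, ha, hic, hi, ⟨eH⟩⟩ := NumTriv.Section.exists_embedding_pow (k := k) hL
  haveI := hic
  have hF : ∀ r : Fin a, Coh.IsCoh (CohB1.tensorPow L r) := fun r =>
    BigVol.isCoh_of_isInvertible (isInvertible_tensorPow hL.1 r)
  choose D hD using fun r : Fin a => NumTriv.FiniteField.exists_vanishing i hi (hF r)
  obtain ⟨b, hb⟩ := Finite.exists_le D
  refine ⟨a * b, fun m hm M hM q hq => ?_⟩
  let r : Fin a := ⟨m % a, Nat.mod_lt _ ha⟩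
  let t : ℕ := m / a
  have hmt : (r : ℕ) + a * t = m := Nat.mod_add_div m a
  have htb : b ≤ t := (Nat.le_div_iff_mul_le ha).2 (by rw [mul_comm]; exact hm)
  haveI := hD r M hM t ((hb r).trans htb) q hq
  obtain ⟨e₁⟩ := NumTriv.nonempty_oX_pow i t
  obtain ⟨e₂⟩ := BigVol.nonempty_pow_mul hL.1 a t
  obtain ⟨e₅⟩ := FormalFun.nonempty_tensorPow_congr eH t
  let eT : NumTriv.oX i (t : ℤ) ≅ CohB1.tensorPow L (a * t) := e₁.symm ≪≫ e₅.symm ≪≫ e₂
  let e : Pic13.twistOn k i (CohB1.tensorMod (CohB1.tensorPow L r) M) (t : ℤ) ≅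
      CohB1.tensorMod (CohB1.tensorPow L m) M :=
    tensCongr (Iso.refl _) eT ≪≫ tensAssoc _ M _ ≪≫ tensCongr (Iso.refl _) (tensComm M _) ≪≫
      (tensAssoc _ _ M).symm ≪≫
        tensCongr (AmpCrit.SerreVan.powAddIso L r (a * t) ≪≫ eqToIso (by rw [hmt])) (Iso.refl M)
  exact AmpCrit.subsingleton_HH_of_iso e q

/-- Sections of `L^m ⊗ M` for numerically trivial `M`. -/
theorem exists_h0 [IsIntegral X] {L : X.Modules} (hL : CohB1.IsAmple L) :
    ∃ m₀ : ℕ, ∀ m : ℕ, m₀ ≤ m → ∀ M : X.Modules, NumTriv.Num1 k M →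
      h0 k (CohB1.tensorMod (CohB1.tensorPow L m) M) = h0 k (CohB1.tensorPow L m) ∧
        0 < h0 k (CohB1.tensorPow L m) := by
  haveI := EulerChar.isNoetherian k (X := X)
  obtain ⟨m₁, hv⟩ := exists_vanishing k hL
  obtain ⟨m₂, hm₂⟩ := AmpleLib.eventually_globallyGenerated hL
    (ProjTwist.isQCoh_of_isInvertible (LFFrame.isInvertible_structureModule X))
    (ProperFin.isCoh_structureModule X).2
  refine ⟨max m₁ m₂, fun m hm M hM => ?_⟩
  have hLm := isInvertible_tensorPow hL.1 m
  have key : ∀ M' : X.Modules, NumTriv.Num1 k M' →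
      Curv2.euler k X (CohB1.tensorMod (CohB1.tensorPow L m) M') =
        (h0 k (CohB1.tensorMod (CohB1.tensorPow L m) M') : ℤ) := fun M' hM' => by
    rw [EulerChar.euler_eq_sum k (t := 1) fun q hq => hv m (le_of_max_le_left hm) M' hM' q hq]
    simp [h0]
  have h1 := key M hM
  have h2 := key _ (NumTriv.num1_one k)
  rw [NumTriv.AnyField.euler_tens_eq' (BigVol.isCoh_of_isInvertible hLm) hM] at h1
  rw [NumTriv.AnyField.euler_tens_eq' (BigVol.isCoh_of_isInvertible hLm) (NumTriv.num1_one k), h1] at h2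
  have e0 : h0 k (CohB1.tensorMod (CohB1.tensorPow L m) (Coh.structureModule X)) = h0 k (CohB1.tensorPow L m) :=
    Pn.finrank_hh_iso (k := k) (tensOne _) 0
  rw [e0] at h2
  refine ⟨by exact_mod_cast h2, ?_⟩
  have hg : Curv2.IsGloballyGenerated (CohB1.tensorPow L m) :=
    CMReg.isGloballyGenerated_iso ((tensComm _ _) ≪≫ tensOne _) (hm₂ m (le_of_max_le_right hm))
  refine lt_of_lt_of_le ?_ (h0_le_of_sub k (BigVol.isCoh_of_isInvertible hLm) (sub_of_globallyGenerated hLm hg))
  haveI := EulerChar.finite_HH k _ (ProperFin.isCoh_structureModule X) 0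
  haveI : Nontrivial (Coh.HH X (Coh.structureModule X) 0) := by
    obtain ⟨z⟩ : Nonempty X := inferInstance
    refine ⟨⟨(ProperFin.h0Sec (Coh.structureModule X)).symm (show Γ(X, ⊤) from 1),
      (ProperFin.h0Sec (Coh.structureModule X)).symm (show Γ(X, ⊤) from 0), fun h => ?_⟩⟩
    have h' := congrArg (fun t : Γ(X, ⊤) => (X.presheaf.germ ⊤ z trivial).hom t)
      ((ProperFin.h0Sec (Coh.structureModule X)).symm.injective h)
    simp only [map_one, map_zero] at h'
    exact one_ne_zero h'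
  exact Module.finrank_pos

end Groth.Agent.BigVol.NumTrivH0
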