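import Groth.Agent.BigVol.GenFin
import Groth.Agent.BigVol.Basic
import Groth.Agent.S0027
import Groth.Agent.S4415
import Groth.Agent.ProjMor.Local
import Groth.Agent.GrModLib.LocalLift
import Groth.Agent.NumTriv.Proper

/-!
Growth of sections of twists on proper schemes.
-/

universe u

open CategoryTheory CategoryTheory.Limits AlgebraicGeometry TopologicalSpace
open Groth.Agent.PullStalk.Sky Groth.Agent.PullStalk.Exact

set_option autoImplicit false
set_option linter.style.haveILetI false

noncomputable section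

namespace Groth.Agent.BigVol.ProperGrowth

open CohBound

variable (k : Type u) [Field k]

theorem map_genericPoint {X Y : Scheme.{u}} (π : Y ⟶ X) [IsIntegral X] [IsIntegral Y] [Surjective π] :
    π (genericPoint Y) = genericPoint X := by
  have h := (genericPoint_spec Y).image π.continuous
  refine h.eq ?_
  rw [Set.image_univ, show Set.range π.base = Set.univ from Set.range_eq_univ.2 π.surjective, closure_univ]
  exact genericPoint_spec X

theorem residueDegree_pos {X Y : Scheme.{u}} (π : Y ⟶ X) {U : X.Opens} [IsIso (π ∣_ U)] {y : Y} (hy : π y ∈ U) :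
    0 < π.residueDegree y := by
  haveI h1 : IsIso (π.stalkMap y) := by
    have h := morphismRestrictStalkMap π U ⟨y, hy⟩
    exact ((MorphismProperty.isomorphisms CommRingCat).arrow_mk_iso_iff h).1
      (inferInstanceAs (IsIso ((π ∣_ U).stalkMap ⟨y, hy⟩)))
  have hs : Function.Surjective (π.residueFieldMap y).hom := fun b => by
    obtain ⟨a, rfl⟩ := Y.residue_surjective y b
    obtain ⟨c, rfl⟩ := (ConcreteCategory.bijective_of_isIso (π.stalkMap y)).2 a
    exact ⟨X.residue (π y) c, ConcreteCategory.congr_hom (Scheme.residue_residueFieldMap π y) c⟩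
  rw [Scheme.Hom.residueDegree]
  letI := (π.residueFieldMap y).hom.toAlgebra
  haveI : Module.Finite (X.residueField (π y)) (Y.residueField y) :=
    Module.Finite.of_surjective (Algebra.linearMap _ _) hs
  exact Module.finrank_pos

/-- The unit `O → π_* O` is a monomorphism for a modification of an integral scheme. -/
theorem mono_unit {X Y : Scheme.{u}} [IsIntegral X] (π : Y ⟶ X) (U : X.Opens) [IsIso (π ∣_ U)]
    (hU : (U : Set X).Nonempty) :
    Sub (Coh.structureModule X) ((Scheme.Modules.pushforward π).obj (Coh.structureModule Y)) := by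
  refine ⟨Props.GenLocus.homOfSec (L := (Scheme.Modules.pushforward π).obj (Coh.structureModule Y))
    (show Γ((Scheme.Modules.pushforward π).obj (Coh.structureModule Y), ⊤) from (1 : Γ(Y, π ⁻¹ᵁ ⊤))),
    GrModLib.mono_of_injective _ fun W s hs => ?_⟩
  by_cases hW : genericPoint X ∈ W
  · have hη : genericPoint X ∈ W ⊓ U := ⟨hW, ((genericPoint_spec X).mem_open_set_iff U.2).2 (by simpa using hU)⟩
    have h0 : QCoh.res (Coh.structureModule X) (inf_le_left : W ⊓ U ≤ W) s = 0 := by
      refine (NumTriv.unitMap_bijective π U (W ⊓ U) inf_le_right).1 ?_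
      rw [QCoh.app_res, hs, map_zero, map_zero]
    refine EulerChar.eq_zero_of_germ_generic (ProjTwist.isFinLocFreeOfRank_one
      (PicLoc.isInvertible_structureModule X)) (U := W) hW s ?_
    refine ((Coh.structureModule X).presheaf.germ_res_apply (homOfLE (inf_le_left : W ⊓ U ≤ W))
      (genericPoint X) hη s).symm.trans ?_
    exact (congrArg (germM (Coh.structureModule X) (W ⊓ U) (genericPoint X) hη) h0).trans (map_zero _)
  · obtain rfl : W = ⊥ := by
      refine Opens.ext (Set.eq_empty_of_forall_notMem fun x hx => hW ?_)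
      exact (genericPoint_specializes x).mem_open W.2 hx
    exact QCoh.eq_of_locally_eq (Coh.structureModule X) (U := fun i : Fin 0 => i.elim0)
      (fun i => i.elim0) bot_le _ _ fun i => i.elim0

/-- Growth on integral proper schemes. -/
theorem exists_h0_pow_le {Z : Scheme.{u}} [Z.Over (Spec (CommRingCat.of k))] [IsIntegral Z]
    [IsProper (Z ↘ Spec (CommRingCat.of k))] {L : Z.Modules} (hL : PicF.IsInvertible L) {e : ℕ}
    (hd : topologicalKrullDim Z < (e : WithBot ℕ∞)) :
    ∃ C : ℕ, ∀ m : ℕ, Module.finrank k (Coh.HH Z (CohB1.tensorPow L m) 0) ≤ C * g e m := by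
  haveI := EulerChar.isNoetherian k (X := Z)
  obtain ⟨Z', π, hqp, hproj, hsurj, ⟨U, hU, hiso⟩, -, -, hint⟩ :=
    S4415.result (Z ↘ Spec (CommRingCat.of k)) (Or.inl inferInstance)
  haveI := hint ‹_›
  haveI := hiso
  haveI := hsurj
  haveI : IsProper π := ProjMor.isProper_of_isProjective hproj
  letI : Z'.Over (Spec (CommRingCat.of k)) := ⟨π ≫ (Z ↘ Spec (CommRingCat.of k))⟩
  haveI : IsProper (Z' ↘ Spec (CommRingCat.of k)) :=
    inferInstanceAs (IsProper (π ≫ (Z ↘ Spec (CommRingCat.of k))))
  haveI := EulerChar.isNoetherian k (X := Z')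
  obtain ⟨-, -, A, hA⟩ := hqp
  have hamp : CohB1.IsAmple A :=
    (AmpleLib.isRelAmple_iff_isAmple (π ≫ (Z ↘ Spec (CommRingCat.of k)))).1 hA
  have hne : (U : Set Z).Nonempty := by
    obtain ⟨z, hz⟩ := hU.nonempty
    exact ⟨π z, hz⟩
  have hη := map_genericPoint π
  have hd' : topologicalKrullDim Z' < (e : WithBot ℕ∞) := by
    rw [GenFin.dim_eq k π rfl hη (residueDegree_pos π (U := U)
      (hη ▸ ((genericPoint_spec Z).mem_open_set_iff U.2).2 (by simpa using hne)))]
    exact hd
  have hL' : PicF.IsInvertible ((Scheme.Modules.pullback π).obj L) := PicCl.isInvertible_pullback π hL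
  obtain ⟨C, hC⟩ := exists_hh_lt k hamp hL' e (Coh.structureModule Z') (ProperFin.isCoh_structureModule Z')
    (lt_of_le_of_lt ((Topology.IsEmbedding.subtypeVal).isInducing.topologicalKrullDim_le) hd') 0
  refine ⟨C, fun m => le_trans ?_ (hC m)⟩
  have hLm := AmpleLib.isInvertible_tensorPow hL m
  obtain ⟨ep⟩ := FormalFun.nonempty_pullback_tensorPow π hL m
  have hE := ProjForm.isFinLocFree_of_isInvertible hLm
  haveI := ProjTwist.isQCoh_of_isInvertible (PicCl.isInvertible_pullback π hLm)
  let θ : CohB1.tensorMod ((Scheme.Modules.pushforward π).obj (Coh.structureModule Z')) (CohB1.tensorPow L m) ≅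
      (Scheme.Modules.pushforward π).obj ((Scheme.Modules.pullback π).obj (CohB1.tensorPow L m)) :=
    (ProjForm.projNatIso π hE).app (Coh.structureModule Z') ≪≫
      (Scheme.Modules.pushforward π).mapIso (ProjTwist.oneTens _)
  have hcoh : Coh.IsCoh ((Scheme.Modules.pushforward π).obj ((Scheme.Modules.pullback π).obj (CohB1.tensorPow L m))) :=
    CohDev.isCoh_of_iso ((Scheme.Modules.pushforward π).rightDerivedZeroIsoSelf.app _)
      (Groth.Agent.S0036.result π _ (BigVol.isCoh_of_isInvertible (PicCl.isInvertible_pullback π hLm)) 0)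
  have hsub : Sub (CohB1.tensorPow L m)
      ((Scheme.Modules.pushforward π).obj ((Scheme.Modules.pullback π).obj (CohB1.tensorPow L m))) :=
    (Sub.of_iso (structure_tensor hLm).some.symm).trans (((mono_unit π U hne).tensor hLm).iso θ)
  refine (h0_le_of_sub k hcoh hsub).trans (le_of_eq ?_)
  refine (PushCoh.finrank_push_zero π rfl _).symm.trans ?_
  exact ProjTwist.Pn.finrank_hh_iso (k := k) (ep ≪≫ (ProjTwist.oneTens _).symm) 0

variable {X : Scheme.{u}} [X.Over (Spec (CommRingCat.of k))] [IsProper (X ↘ Spec (CommRingCat.of k))]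

/-- `h⁰(F ⊗ L^m) = O(m^d)` on proper schemes. -/
theorem exists_h0_le {L : X.Modules} (hL : PicF.IsInvertible L) {F : X.Modules} (hF : Coh.IsCoh F) {e : ℕ}
    (hd : topologicalKrullDim (CohB1.support F) < (e : WithBot ℕ∞)) :
    ∃ C : ℕ, ∀ m : ℕ, hh k F L m 0 ≤ C * g e m := by
  haveI := EulerChar.isNoetherian k (X := X)
  rcases isEmpty_or_nonempty X with hX | hX
  · exact ⟨0, fun m => (hh_eq_zero k (lt_of_le_of_lt (le_of_eq (by
      haveI : IsEmpty (IrreducibleCloseds (CohB1.support F)) := ⟨fun C => isEmptyElim (C.2.nonempty.some : CohB1.support F).1⟩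
      exact Order.krullDim_eq_bot)) (WithBot.bot_lt_coe _)) L m 0).le.trans
      (Nat.zero_le _)⟩
  revert e
  refine Groth.Agent.S0027.result X
    (fun M => ∀ {e : ℕ}, topologicalKrullDim (CohB1.support M) < (e : WithBot ℕ∞) →
      ∃ C : ℕ, ∀ m : ℕ, hh k M L m 0 ≤ C * g e m) ?_ ?_ ?_ F hF
  · rintro M N ⟨φ⟩ hM e hd
    obtain ⟨C, hC⟩ := hM (lt_of_le_of_lt (CohDev.dim_mono (FormalFun.support_subset_of_mono φ.hom)) hd)
    exact ⟨C, fun m => (ProjTwist.Pn.finrank_hh_iso (k := k)
      (ProjTwist.tensCongr φ.symm (Iso.refl _)) 0).trans_le (hC m)⟩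
  · intro S hS h1 h2 h3 P1 P3 e hd
    haveI := hS.mono_f
    haveI := hS.epi_g
    obtain ⟨C₁, h₁⟩ := P1 (lt_of_le_of_lt (CohDev.dim_mono (FormalFun.support_subset_of_mono S.f)) hd)
    obtain ⟨C₃, h₃⟩ := P3 (lt_of_le_of_lt (CohDev.dim_mono (CohDev.support_subset_of_epi S.g)) hd)
    exact ⟨C₁ + C₃, fun m => (hh_triangle k hS h1 h2 h3 hL m 0).1.trans
      ((Nat.add_le_add (h₁ m) (h₃ m)).trans_eq (by ring))⟩
  · intro Z i hi hZ I ι hι hI e hd
    haveI := hi
    haveI := hι
    letI : Z.Over (Spec (CommRingCat.of k)) := ⟨i ≫ (X ↘ Spec (CommRingCat.of k))⟩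
    haveI : IsProper (Z ↘ Spec (CommRingCat.of k)) :=
      inferInstanceAs (IsProper (i ≫ (X ↘ Spec (CommRingCat.of k))))
    haveI := EulerChar.isNoetherian k (X := Z)
    by_cases hz : IsZero I
    · refine ⟨0, fun m => ?_⟩
      haveI : Subsingleton (Coh.HH X (CohB1.tensorMod ((Coh.push i).obj I) (CohB1.tensorPow L m)) 0) :=
        subsingleton_of_forall_eq 0 fun x => by
          have hz' : IsZero (CohB1.tensorMod ((Coh.push i).obj I) (CohB1.tensorPow L m)) := by
            haveI : (Coh.push i).Additive :=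
              (Scheme.Modules.pullbackPushforwardAdjunction i).right_adjoint_additive
            exact ((DCoh.tensorBi (X := X)).flip.obj (CohB1.tensorPow L m)).map_isZero
              ((Coh.push i).map_isZero hz)
          rw [← CohLin.hMap_id (CohB1.tensorMod ((Coh.push i).obj I) (CohB1.tensorPow L m)) 0 x,
            hz'.eq_zero_of_src (𝟙 _)]
          exact (CohLin.hMapHom _ _ 0 x).map_zero
      show Module.finrank k _ ≤ _
      simp [Module.finrank_zero_of_subsingleton]
    · have hξ : genericPoint Z ∈ CohB1.support I := fun hs => hz (by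
        refine (IsZero.iff_id_eq_zero I).2 ((cancel_mono ι).1 ?_)
        rw [Category.id_comp, zero_comp]
        refine Scheme.Modules.hom_ext _ _ fun W => ?_
        ext s
        by_cases hW : genericPoint Z ∈ W
        · refine EulerChar.eq_zero_of_germ_generic (ProjTwist.isFinLocFreeOfRank_one
            (PicLoc.isInvertible_structureModule Z)) (U := W) hW _ ?_
          rw [← stalkLin_germ ι W (genericPoint Z) hW s, @Subsingleton.elim _ hs (germM I W _ hW s) 0, map_zero]
        · obtain rfl : W = ⊥ := Opens.ext (Set.eq_empty_of_forall_notMem fun x hx =>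
            hW ((genericPoint_specializes x).mem_open W.2 hx))
          exact QCoh.eq_of_locally_eq (Coh.structureModule Z) (U := fun i : Fin 0 => i.elim0)
            (fun i => i.elim0) bot_le _ _ fun i => i.elim0)
      haveI : I.IsQuasicoherent := hI
      have hIc : Coh.IsCoh I := CohDev.isCoh_of_mono ι hI (ProperFin.isCoh_structureModule Z)
      have hdZ : topologicalKrullDim Z < (e : WithBot ℕ∞) := by
        refine lt_of_le_of_lt ?_ hd
        have hsub : Set.range i.base ⊆ CohB1.support ((Coh.push i).obj I) := by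
          have hcl := CohDev.isClosed_support (ProperFin.isCoh_push_of_isFinite i I hIc)
          have hmem : i.base (genericPoint Z) ∈ CohB1.support ((Coh.push i).obj I) :=
            ProperFin.mem_support_push i hξ
          rintro _ ⟨z, rfl⟩
          exact ((genericPoint_specializes z).map i.continuous).mem_closed hcl hmem
        refine le_trans (le_of_eq ?_) (CohDev.dim_mono hsub)
        exact IsHomeomorph.topologicalKrullDim_eq _ (i.isClosedEmbedding.isEmbedding.toHomeomorph).isHomeomorph
      obtain ⟨C, hC⟩ := exists_h0_pow_le k (PicCl.isInvertible_pullback i hL) hdZ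
      refine ⟨C, fun m => le_trans ?_ (hC m)⟩
      have hLm := AmpleLib.isInvertible_tensorPow hL m
      have hLm' := PicCl.isInvertible_pullback i hLm
      obtain ⟨ep⟩ := FormalFun.nonempty_pullback_tensorPow i hL m
      haveI : (CohB1.tensorMod I ((Scheme.Modules.pullback i).obj (CohB1.tensorPow L m))).IsQuasicoherent :=
        (ProjTwist.isCoh_tensor hLm' hIc).1
      have e1 : hh k ((Coh.push i).obj I) L m 0 =
          h k (CohB1.tensorMod I ((Scheme.Modules.pullback i).obj (CohB1.tensorPow L m))) 0 := by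
        refine (ProjTwist.Pn.finrank_hh_iso (k := k)
          ((ProjForm.projNatIso i (ProjForm.isFinLocFree_of_isInvertible hLm)).app I) 0).trans ?_
        exact (PushCoh.finrank_push_zero i rfl (CohB1.tensorMod I ((Scheme.Modules.pullback i).obj (CohB1.tensorPow L m)))).symm
      rw [e1]
      refine (h0_le_of_sub k (BigVol.isCoh_of_isInvertible (AmpleLib.isInvertible_tensorPow
        (PicCl.isInvertible_pullback i hL) m)) ?_)
      exact ((Sub.tensor hLm' ⟨ι, hι⟩).trans (Sub.of_iso (structure_tensor hLm').some)).iso ep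

section Birational

variable {Y : Scheme.{u}} [Y.Over (Spec (CommRingCat.of k))] [IsProper (Y ↘ Spec (CommRingCat.of k))]
  [IsIntegral X] [IsIntegral Y]

/-- Sections of pullbacks along a birational morphism: `h⁰(Y, f^* L^m) = h⁰(X, L^m) + O(m^(d-1))`. -/
theorem exists_h0_birational (f : Y ⟶ X) (w : f ≫ (X ↘ Spec (CommRingCat.of k)) = Y ↘ Spec (CommRingCat.of k))
    (hdom : f (genericPoint Y) = genericPoint X) (hdeg : f.residueDegree (genericPoint Y) = 1)
    {d : ℕ} (hd : topologicalKrullDim X = (d : WithBot ℕ∞)) {L : X.Modules} (hL : PicF.IsInvertible L) :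
    ∃ C : ℕ, ∀ m : ℕ,
      Module.finrank k (Coh.HH X (CohB1.tensorPow L m) 0) ≤
          Module.finrank k (Coh.HH Y (CohB1.tensorPow ((Scheme.Modules.pullback f).obj L) m) 0) ∧
        Module.finrank k (Coh.HH Y (CohB1.tensorPow ((Scheme.Modules.pullback f).obj L) m) 0) ≤
          Module.finrank k (Coh.HH X (CohB1.tensorPow L m) 0) + C * g d m := by
  haveI : IsProper f := EulerChar.isProper_hom f w
  haveI := EulerChar.isNoetherian k (X := X)
  haveI := EulerChar.isNoetherian k (X := Y)
  have hO := ProperFin.isCoh_structureModule X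
  have hOY := ProperFin.isCoh_structureModule Y
  let P := (Scheme.Modules.pushforward f).obj (Coh.structureModule Y)
  have hP : Coh.IsCoh P :=
    CohDev.isCoh_of_iso ((Scheme.Modules.pushforward f).rightDerivedZeroIsoSelf.app _)
      (Groth.Agent.S0036.result f _ hOY 0)
  have hinvY := PicLoc.isInvertible_structureModule Y
  have rk := GenFin.finrank_stalk f hinvY hdom fun x hx => GenFin.eq_genericPoint f
    (GenFin.residueFieldMap_finite f (by omega)) hx
  rw [hdeg] at rk
  let σ : Γ(P, ⊤) := (show Γ(Y, f ⁻¹ᵁ ⊤) from 1)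
  let η : Coh.structureModule X ⟶ P := Props.GenLocus.homOfSec σ
  let one : Γ(Coh.structureModule X, ⊤) := (show Γ(X, ⊤) from 1)
  have happ : η.app ⊤ one = σ := by
    refine (Props.GenLocus.app_eq η ⊤ (show Γ(X, ⊤) from 1)).trans ?_
    rw [Props.GenLocus.sec_homOfSec, QCoh.res_self]
    exact one_smul _ _
  have hne : stalkLin η (genericPoint X) (germM (Coh.structureModule X) ⊤ (genericPoint X) trivial one) ≠ 0 := by
    rw [stalkLin_germ, happ]
    have hgen : ∀ x : X, x = f (genericPoint Y) → germM P ⊤ x trivial σ ≠ 0 := by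
      rintro x rfl h0
      have h1 := congrArg (GenFin.germ f (Coh.structureModule Y)) h0
      rw [GenFin.germ_germ, map_zero] at h1
      have h2 : (show Γ(Y, f ⁻¹ᵁ ⊤) from 1) = 0 := EulerChar.eq_zero_of_germ_generic
        (ProjTwist.isFinLocFreeOfRank_one hinvY) (U := f ⁻¹ᵁ ⊤) trivial (show Γ(Y, f ⁻¹ᵁ ⊤) from 1) h1
      have h3 := congrArg (fun t : Γ(Y, f ⁻¹ᵁ ⊤) => (Y.presheaf.germ (f ⁻¹ᵁ ⊤) (genericPoint Y) trivial).hom t) h2
      simp only [map_one, map_zero] at h3
      exact one_ne_zero (α := Y.presheaf.stalk (genericPoint Y)) h3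
    exact hgen _ hdom.symm
  have hbij : Function.Bijective (stalkLin η (genericPoint X)) := by
    letI : Field (X.presheaf.stalk (genericPoint X)) := inferInstanceAs (Field X.functionField)
    obtain ⟨eO⟩ := EulerChar.stalk_ofRank
      (ProjTwist.isFinLocFreeOfRank_one (PicLoc.isInvertible_structureModule X)) (genericPoint X)
    haveI : Module.Finite (X.presheaf.stalk (genericPoint X)) (P.presheaf.stalk (genericPoint X)) :=
      HomShQC.finite_stalk P hP.2 _
    haveI : Module.Finite (X.presheaf.stalk (genericPoint X))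
        ((Coh.structureModule X).presheaf.stalk (genericPoint X)) := Module.Finite.equiv eO
    have r1 : Module.finrank (X.presheaf.stalk (genericPoint X))
        ((Coh.structureModule X).presheaf.stalk (genericPoint X)) = 1 := by
      rw [← eO.finrank_eq, Module.finrank_fin_fun]
    have hsurj : Function.Surjective (stalkLin η (genericPoint X)) := fun y => by
      obtain ⟨c, hc⟩ := exists_smul_eq_of_finrank_eq_one rk hne y
      exact ⟨_, (map_smul _ c _).trans hc⟩
    exact ⟨(LinearMap.injective_iff_surjective_of_finrank_eq_finrank (r1.trans rk.symm)).2 hsurj, hsurj⟩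
  haveI hmono : Mono η := GrModLib.mono_of_injective _ fun W s hs => by
    by_cases hW : genericPoint X ∈ W
    · refine EulerChar.eq_zero_of_germ_generic (ProjTwist.isFinLocFreeOfRank_one
        (PicLoc.isInvertible_structureModule X)) (U := W) hW s (hbij.1 ?_)
      rw [stalkLin_germ, hs, map_zero]
      exact map_zero _
    · obtain rfl : W = ⊥ := Opens.ext (Set.eq_empty_of_forall_notMem fun x hx =>
        hW ((genericPoint_specializes x).mem_open W.2 hx))
      exact QCoh.eq_of_locally_eq (Coh.structureModule X) (U := fun i : Fin 0 => i.elim0)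
        (fun i => i.elim0) bot_le _ _ fun i => i.elim0
  have hS : (ShortComplex.mk η (cokernel.π η) (cokernel.condition η)).ShortExact :=
    ShortComplex.ShortExact.mk' (ShortComplex.exact_cokernel η) hmono (inferInstanceAs (Epi (cokernel.π η)))
  have hQ : Coh.IsCoh (cokernel η) := CohDev.isCoh_cokernel η hO.1 hP
  have dQ : topologicalKrullDim (CohB1.support (cokernel η)) < (d : WithBot ℕ∞) := by
    refine ProjTwist.Pn.dim_add_one_le_of_forall_specializes (Z := Set.univ) isClosed_univ
      (CohDev.isClosed_support hQ) (fun ξ _ => ⟨genericPoint X, trivial,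
        CohDev.not_mem_support_cokernel η hbij.2, genericPoint_specializes ξ⟩) (Set.subset_univ _) ?_
    refine lt_of_le_of_lt ((Topology.IsEmbedding.subtypeVal).isInducing.topologicalKrullDim_le.trans hd.le) ?_
    exact_mod_cast Nat.lt_succ_self d
  obtain ⟨C, hC⟩ := exists_h0_le k hL hQ dQ
  refine ⟨C, fun m => ?_⟩
  have hLm := AmpleLib.isInvertible_tensorPow hL m
  obtain ⟨ep⟩ := FormalFun.nonempty_pullback_tensorPow f hL m
  haveI := ProjTwist.isQCoh_of_isInvertible (PicCl.isInvertible_pullback f hLm)
  have eP : hh k P L m 0 = Module.finrank k (Coh.HH Y (CohB1.tensorPow ((Scheme.Modules.pullback f).obj L) m) 0) := by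
    refine (ProjTwist.Pn.finrank_hh_iso (k := k)
      ((ProjForm.projNatIso f (ProjForm.isFinLocFree_of_isInvertible hLm)).app (Coh.structureModule Y) ≪≫
        (Scheme.Modules.pushforward f).mapIso (ProjTwist.oneTens _)) 0).trans ?_
    exact (PushCoh.finrank_push_zero f w _).symm.trans (ProjTwist.Pn.finrank_hh_iso (k := k) ep 0)
  have eX : hh k (Coh.structureModule X) L m 0 = Module.finrank k (Coh.HH X (CohB1.tensorPow L m) 0) :=
    ProjTwist.Pn.finrank_hh_iso (k := k) (ProjTwist.oneTens _) 0
  obtain ⟨a, b, -⟩ := hh_triangle k hS hO hP hQ hL m 0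
  have c := h0_le_of_sub k (ProjTwist.isCoh_tensor hLm hP) (Sub.tensor hLm ⟨η, hmono⟩)
  refine ⟨?_, ?_⟩
  · rw [← eX, ← eP]
    exact c
  · rw [← eX, ← eP]
    exact a.trans (Nat.add_le_add_left (hC m) _)

end Birational

/-- A lower order term does not affect growth of order `m^d`. -/
theorem eventually_small (d C : ℕ) {c : ℝ} (hc : 0 < c) :
    ∀ᶠ m : ℕ in Filter.atTop, ((C * g d m : ℕ) : ℝ) ≤ c * (m : ℝ) ^ d := by
  have hpos : (0 : ℝ) < c * (d.factorial : ℝ) := by positivity
  filter_upwards [(Asymp.small d C).eventually (eventually_le_nhds hpos), Filter.eventually_ge_atTop 1] with m hm h1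
  rw [Asymp.seq, div_le_iff₀ (pow_pos (by exact_mod_cast h1) d)] at hm
  refine le_of_mul_le_mul_right ?_ (by positivity : (0 : ℝ) < (d.factorial : ℝ))
  linarith [hm]

end Groth.Agent.BigVol.ProperGrowth
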