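import Groth.Agent.EulerChar.Leray

/-!
Degenerate Leray, as an equality of dimensions.
-/

universe u

open CategoryTheory CategoryTheory.Limits AlgebraicGeometry TopologicalSpace
open Groth.Agent.CohAff

set_option autoImplicit false
set_option linter.style.haveILetI false

noncomputable section

namespace Groth.Agent.BigVol.PushCoh

variable {k : Type u} [Field k] {X Y : Scheme.{u}} [X.Over (Spec (CommRingCat.of k))]
  [Y.Over (Spec (CommRingCat.of k))] (f : Y ⟶ X)
  (w : f ≫ (X ↘ Spec (CommRingCat.of k)) = Y ↘ Spec (CommRingCat.of k))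

include w in
theorem finrank_push_zero (M : Y.Modules) [M.IsQuasicoherent] :
    Module.finrank k (Coh.HH Y M 0) =
      Module.finrank k (Coh.HH X ((Scheme.Modules.pushforward f).obj M) 0) := by
  let R := FRes.ofMod M
  let s := ProperFin.sect f R w 0
  have hs : Function.Injective s := fun x y h => by
    have h0 : s (x - y) = 0 := by rw [map_sub, h, sub_self]
    exact sub_eq_zero.1 ((ProperFin.h0Sec _).injective
      (((R.clsTop_eq_zero_iff 0 _).1 h0).trans (map_zero _).symm))
  exact (LinearEquiv.ofBijective s ⟨hs, EulerChar.sect_surjective f w R 0⟩).finrank_eq.symm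

include w in
theorem finrank_succ_of_isZero (R : FRes Y) [(R.Z 0).IsQuasicoherent] (hz : ∀ n, IsZero (R.Rc f n)) (n : ℕ) :
    Module.finrank k (Coh.HH Y (R.Z 0) (n + 1)) = Module.finrank k (Coh.HH X (EulerChar.pushZ f R 0) (n + 1)) := by
  have hiso : ∀ n, IsIso (ProperFin.seq₂ f R n).f := fun n => by
    have h := ProperFin.seq₂_shortExact f R n
    haveI := h.mono_f
    haveI : Epi (ProperFin.seq₂ f R n).f := h.exact.epi_f ((hz n).eq_of_tgt _ _)
    exact isIso_of_mono_of_epi _
  have step : ∀ m p, Module.finrank k (Coh.HH X (EulerChar.pushZ f R (m + 1)) (p + 1)) =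
      Module.finrank k (Coh.HH X (EulerChar.pushZ f R m) (p + 2)) := fun m p => by
    haveI := hiso m
    let φ := (ProperFin.seq₂ f R m).f
    let e := CohLin.overLin k (CohLin.hMap φ (p + 1))
    have hb : Function.Bijective e := by
      refine Function.bijective_iff_has_inverse.2 ⟨CohLin.hMap (inv φ) (p + 1), fun y => ?_, fun y => ?_⟩
      · refine (CohLin.hMap_comp φ (inv φ) (p + 1) y).symm.trans ?_
        rw [IsIso.hom_inv_id, CohLin.hMap_id]
      · refine (CohLin.hMap_comp (inv φ) φ (p + 1) y).symm.trans ?_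
        rw [IsIso.inv_hom_id, CohLin.hMap_id]
    exact (LinearEquiv.ofBijective e hb).finrank_eq.symm.trans
      (EulerChar.nonempty_shift (k := k) f R m p).some.finrank_eq
  have htel : ∀ m p, Module.finrank k (Coh.HH X (EulerChar.pushZ f R m) (p + 1)) =
      Module.finrank k (Coh.HH X (EulerChar.pushZ f R 0) (m + p + 1)) := by
    intro m
    induction m with
    | zero => intro p; rw [Nat.zero_add]
    | succ m ih =>
      intro p
      rw [show m + 1 + p + 1 = m + (p + 1) + 1 by omega]
      exact (step m p).trans (ih (p + 1))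
  refine Eq.trans ?_ (htel n 0)
  have hS := ProperFin.seq₁_shortExact f R n
  haveI := hiso n
  let ι₀ := CohLin.overLin k (CohLin.hMap (ProperFin.seq₂ f R n).f 0)
  let s := ProperFin.sect f R w (n + 1)
  let η := s.comp ι₀
  let δ := CohLin.overLin k (CohLin.hδ hS 0)
  have hι : Function.Surjective ι₀ := fun y => ⟨CohLin.hMap (inv (ProperFin.seq₂ f R n).f) 0 y, by
    refine (CohLin.hMap_comp (inv (ProperFin.seq₂ f R n).f) _ 0 y).symm.trans ?_
    rw [IsIso.inv_hom_id, CohLin.hMap_id]⟩
  have hker : LinearMap.ker η = LinearMap.ker δ := by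
    ext x
    rw [LinearMap.mem_ker, LinearMap.mem_ker]
    constructor
    · intro hx
      obtain ⟨a, ha⟩ := ProperFin.exists_eq_hMap_of_sect_eq_zero f R w n _ hx
      have e : CohLin.hMap (Abelian.factorThruImage (R.pP f n)) 0 a = x := by
        refine ProperFin.hMap_zero_injective (Abelian.image.ι (R.pP f n)) ?_
        rw [← CohLin.hMap_comp, Abelian.image.fac]
        exact ha
      rw [← e]
      exact CohLin.hδ_hMap_g hS a
    · intro hx
      obtain ⟨a, rfl⟩ := CohLin.exists_hMap_g_eq hS x hx
      refine (R.clsTop_eq_zero_iff (n + 1) _).2 ⟨ProperFin.h0Sec ((Scheme.Modules.pushforward f).obj (R.J n)) a, ?_⟩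
      refine (ProperFin.h0Sec_hMap (R.pP f n) a).symm.trans ?_
      refine congrArg (ProperFin.h0Sec _) ?_
      have hc := CohLin.hMap_comp (Abelian.factorThruImage (R.pP f n)) (Abelian.image.ι (R.pP f n)) 0 a
      rw [Abelian.image.fac] at hc
      exact hc
  haveI := ProperFin.subsingleton_of_flasque (EulerChar.isFlasque_pushJ f R n) 0
  have hδ : Function.Surjective δ := fun y => CohLin.exists_hδ_eq hS y (Subsingleton.elim _ _)
  have hη : Function.Surjective η := (EulerChar.sect_surjective f w R (n + 1)).comp hι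
  exact ((η.quotKerEquivOfSurjective hη).symm.trans ((Submodule.quotEquivOfEq _ _ hker).trans
    (δ.quotKerEquivOfSurjective hδ))).finrank_eq

include w in
/-- Degenerate Leray: `hⁱ(Y, M) = hⁱ(X, f_* M)` when the higher direct images of `M` vanish. -/
theorem finrank_push [HasInjectiveResolutions Y.Modules] (M : Y.Modules) [M.IsQuasicoherent]
    (hz : ∀ n : ℕ, IsZero ((Coh.Rpush f (n + 1)).obj M)) : ∀ i : ℕ,
    Module.finrank k (Coh.HH Y M i) = Module.finrank k (Coh.HH X ((Scheme.Modules.pushforward f).obj M) i)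
  | 0 => finrank_push_zero f w M
  | i + 1 =>
    haveI : ((FRes.ofMod M).Z 0).IsQuasicoherent := ‹M.IsQuasicoherent›
    finrank_succ_of_isZero f w (FRes.ofMod M) (fun n => (hz n).of_iso ((FRes.ofMod M).rpushIsoRc f n).symm) i

end Groth.Agent.BigVol.PushCoh
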