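import Groth.Agent.EulerFam.RegBounded
import Groth.Agent.ProjTwist.Pn.UniformVanish
import Groth.Agent.ProjTwist.Pn.TopCohom

/-!
Quotients of a fixed coherent module on projective space with given Hilbert polynomial are uniformly
regular; finitely many families of cokernels form a bounded family.
-/

set_option autoImplicit false
set_option linter.style.haveILetI false

open CategoryTheory CategoryTheory.Limits AlgebraicGeometry Polynomial

universe u

noncomputable section

namespace Groth.Agent.BigVol.QuotBounded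

open Groth.Agent.ProjTwist Groth.Agent.ProjTwist.Pn

variable {k : Type u} [Field k] {n : ℕ}

set_option maxHeartbeats 400000 in
/-- Quotients of a fixed coherent module with given Hilbert polynomial are uniformly regular. -/
theorem exists_uniform_regular [Infinite k] {E : (CohB1.ProjSpace n k).Modules} (hE : Coh.IsCoh E)
    (P : ℚ[X]) : ∃ m : ℤ, ∀ (F : (CohB1.ProjSpace n k).Modules) (p : E ⟶ F), Coh.IsCoh F → Epi p →
      (∀ t : ℤ, (chi F t : ℚ) = P.eval (t : ℚ)) → Curv2.IsMRegular k n F m := by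
  have := isLocallyNoetherian_projSpace n k
  obtain ⟨d₀, hd₀⟩ := serre_vanishing E hE
  let mE : ℤ := d₀ + n
  have hEreg : Curv2.IsMRegular k n E mE := fun i hi hin => hd₀ _ (by omega) i (by omega)
  obtain ⟨N, ψ, hψ, -, -⟩ := exists_bijective_sum (isCoh_tw hE mE)
  have hψe : Epi ψ := epi_of_globSpan ψ (fun y => globSpan_of_isMRegular hE hEreg y) hψ
  obtain ⟨m, hm⟩ := exists_bound_submodule_free.{u} n N (freePoly n N - P.comp (Polynomial.X + C (mE : ℚ))) 0
  refine ⟨(m : ℤ) + mE, fun F p hF hp hP => ?_⟩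
  let F' := twF F mE
  have hF' : Coh.IsCoh F' := isCoh_tw hF mE
  have hp' : Epi ((twFun n k mE).map p) :=
    epi_map_g (twFun n k mE) (S := ShortComplex.mk (kernel.ι p) p (kernel.condition p))
      (shortExact_tw (shortExact_kernel p) mE)
  let q : FlatMod.freeMod (CohB1.ProjSpace n k) N ⟶ F' := ψ ≫ (twFun n k mE).map p
  have hq : Epi q := @epi_comp _ _ _ _ _ ψ hψe _ hp'
  have hfree : Coh.IsCoh (FlatMod.freeMod (CohB1.ProjSpace n k) N) := PerfTri.Bounded.isCoh_freeMod N
  have hG : Coh.IsCoh (kernel q) := ProjTwist.Pn.isCoh_kernel q hfree hF'.1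
  have hS := shortExact_kernel q
  have hreg : Curv2.IsMRegular k n (kernel q) (m : ℤ) := by
    refine hm k (kernel q) (kernel.ι q) inferInstance hG fun t ht => ?_
    obtain ⟨t', rfl⟩ : ∃ t' : ℕ, t = t' := ⟨t.toNat, by simp at ht; omega⟩
    have h : chi (FlatMod.freeMod (CohB1.ProjSpace n k) N) (t' : ℤ) = chi (kernel q) t' + chi F' t' :=
      chi_add hS hG hfree hF' (t' : ℤ)
    have e1 : (chi (FlatMod.freeMod (CohB1.ProjSpace n k) N) (t' : ℤ) : ℚ) = (freePoly n N).eval (t' : ℚ) := by
      rw [chi_free, freePoly_eval, Int.cast_natCast]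
    have e2 : (chi F' (t' : ℤ) : ℚ) = P.eval ((t' : ℚ) + (mE : ℚ)) := by
      rw [chi_tw, hP]
      push_cast
      ring_nf
    rw [h] at e1
    push_cast at e1 ⊢
    rw [eval_sub, eval_comp, eval_add, eval_X, eval_C]
    linarith
  intro i hi hin
  have hvF : Subsingleton (Coh.HH (CohB1.ProjSpace n k) (twF F' ((m : ℤ) - i)) i) := by
    have hT := shortExact_tw hS ((m : ℤ) - i)
    have h2 : Subsingleton (Coh.HH (CohB1.ProjSpace n k)
        (twF (FlatMod.freeMod (CohB1.ProjSpace n k) N) ((m : ℤ) - i)) i) :=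
      subsingleton_of_le hfree.1 (isMRegular_free N) hi (by omega)
    have h1 : Subsingleton (Coh.HH (CohB1.ProjSpace n k) (twF (kernel q) ((m : ℤ) - i)) (i + 1)) :=
      subsingleton_of_le hG.1 hreg (by omega) (by push_cast; omega)
    refine ⟨fun a b => ?_⟩
    obtain ⟨a', rfl⟩ := CohLin.exists_hMap_g_eq hT a (@Subsingleton.elim _ h1 _ _)
    obtain ⟨b', rfl⟩ := CohLin.exists_hMap_g_eq hT b (@Subsingleton.elim _ h1 _ _)
    exact congrArg _ (@Subsingleton.elim _ h2 a' b')
  exact @subsingleton_of_iso _ _ _ _ _ (twTw F mE ((m : ℤ) - i) (((m : ℤ) + mE) - i) (by ring)) i hvF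

/-- A single pair of modules realises the cokernels of finitely many pairs. -/
theorem exists_cokernel_pair {C : Type*} [Category C] [Abelian C] {J : Type*} [Finite J] (A B : J → C)
    [HasBiproduct A] [HasBiproduct B] (j : J) (φ : A j ⟶ B j) :
    ∃ Φ : (⨁ A) ⊞ (⨁ B) ⟶ ⨁ B, Nonempty (cokernel Φ ≅ cokernel φ) := by
  classical
  let Φ : (⨁ A) ⊞ (⨁ B) ⟶ ⨁ B := biprod.desc (biproduct.π A j ≫ φ ≫ biproduct.ι B j)
    (𝟙 _ - biproduct.π B j ≫ biproduct.ι B j)
  have w : Φ ≫ biproduct.π B j ≫ cokernel.π φ = 0 := by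
    refine biprod.hom_ext' _ _ ?_ ?_
    · simp [Φ]
    · simp [Φ, Preadditive.sub_comp]
  have w' : φ ≫ biproduct.ι B j ≫ cokernel.π Φ = 0 := by
    have e : biproduct.ι A j ≫ biprod.inl ≫ Φ = φ ≫ biproduct.ι B j := by simp [Φ]
    rw [← Category.assoc, ← e, Category.assoc, Category.assoc, cokernel.condition, Limits.comp_zero, Limits.comp_zero]
  have hkey : cokernel.π Φ = biproduct.π B j ≫ biproduct.ι B j ≫ cokernel.π Φ := by
    have e : biprod.inr ≫ Φ = 𝟙 _ - biproduct.π B j ≫ biproduct.ι B j := by simp [Φ]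
    have h := congrArg (fun g => g ≫ cokernel.π Φ) e
    simp only [Category.assoc, cokernel.condition, Limits.comp_zero, Preadditive.sub_comp,
      Category.id_comp] at h
    exact sub_eq_zero.1 h.symm
  refine ⟨Φ, ⟨⟨cokernel.desc Φ _ w, cokernel.desc φ _ w', ?_, ?_⟩⟩⟩
  · refine coequalizer.hom_ext ?_
    simpa using hkey.symm
  · refine coequalizer.hom_ext ?_
    simp

end Groth.Agent.BigVol.QuotBounded
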