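import Groth.Agent.BigVol.Asymp
import Groth.Agent.S4413
import Groth.Agent.QCoh.Pullback

/-!
`hⁱ(Y, F ⊗ (f^*L)^m) = O(m^(d-1))` when the image of the support of `F` in `X` has dimension `< d`.
-/

set_option autoImplicit false
set_option linter.style.haveILetI false

open CategoryTheory CategoryTheory.Limits AlgebraicGeometry TopologicalSpace
open Groth.Agent.ProjTwist Groth.Agent.Props.GenLocus Groth.Agent.AmpleLib
open Groth.Agent.PullStalk.Sky Groth.Agent.PullStalk.Exact

universe u

noncomputable section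

namespace Groth.Agent.BigVol.RelBound

open CohBound

variable {X Y : Scheme.{u}} (f : Y ⟶ X)

theorem dim_empty {T : Type*} [TopologicalSpace T] :
    topologicalKrullDim (∅ : Set T) < ((0 : ℕ) : WithBot ℕ∞) := by
  have : IsEmpty (IrreducibleCloseds (∅ : Set T)) := ⟨fun s => let ⟨x, _⟩ := s.isIrreducible.1; x.2⟩
  rw [topologicalKrullDim, Order.krullDim_eq_bot]
  exact WithBot.bot_lt_coe _

theorem eq_empty_of_dim_lt {Z : Set X} (h : topologicalKrullDim Z < ((0 : ℕ) : WithBot ℕ∞)) : Z = ∅ := by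
  by_contra hne
  have : Nonempty Z := (Set.nonempty_iff_ne_empty.mpr hne).to_subtype
  have : Nonempty (IrreducibleCloseds Z) :=
    ⟨⟨closure {this.some}, isIrreducible_singleton.closure, isClosed_closure⟩⟩
  exact absurd (lt_of_le_of_lt Order.krullDim_nonneg h) (lt_irrefl _)

theorem isCoh_invertible [IsNoetherian X] {M : X.Modules} (hM : PicF.IsInvertible M) : Coh.IsCoh M :=
  CohDev.isCoh_of_iso (structure_tensor hM).some (isCoh_tensor hM (ProperFin.isCoh_structureModule X))

/-- A section upstairs pulled back from one avoiding the images of the associated points. -/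
theorem exists_drop [IsNoetherian Y] [IsProper f] {F : Y.Modules} (hF : Coh.IsCoh F) {P : X.Modules}
    (hP : PicF.IsInvertible P) (σ : Γ(P, ⊤))
    (hσ : ∀ y ∈ _root_.AssSch.Ass F, f.base y ∈ locus σ) :
    ∃ s : Coh.structureModule Y ⟶ (Scheme.Modules.pullback f).obj P,
      Mono (HilbPolyX.mulSec F s) ∧ Coh.IsCoh (cokernel (HilbPolyX.mulSec F s)) ∧
      ∀ c : ℕ, topologicalKrullDim (f.base '' CohB1.support F : Set X) < ((c + 1 : ℕ) : WithBot ℕ∞) →
        topologicalKrullDim (f.base '' CohB1.support (cokernel (HilbPolyX.mulSec F s)) : Set X) <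
          (c : WithBot ℕ∞) := by
  let e : Coh.structureModule Y ≅ (Scheme.Modules.pullback f).obj (Coh.structureModule X) :=
    (QCoh.pullbackUnitIso f).symm
  let s := e.hom ≫ (Scheme.Modules.pullback f).map (homOfSec σ)
  have hloc : CohB1.genLocus _ s = f ⁻¹ᵁ locus σ :=
    (Groth.Agent.S4413.result f P hP (homOfSec σ) e).trans (by rw [genLocus_homOfSec])
  have hP' := PicCl.isInvertible_pullback f hP
  obtain ⟨hm, hc, -⟩ := mulSec_drop hP' hF s (fun y hy => by rw [hloc]; exact hσ y hy)
  refine ⟨s, hm, hc, fun c hd => ?_⟩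
  have hsub : CohB1.support (cokernel (HilbPolyX.mulSec F s)) ⊆ CohB1.support F := fun y hy => by
    refine HilbPolyX.support_tensorMod_subset F ((Scheme.Modules.pullback f).obj P) (fun hsub => hy ?_)
    have : Subsingleton ((CohDev.tens F ((Scheme.Modules.pullback f).obj P)).presheaf.stalk y) := hsub
    exact (stalk_surjective (cokernel.π (HilbPolyX.mulSec F s)) y).subsingleton
  have := hF.1
  have hcl : IsClosedMap f.base := (Scheme.Hom.isClosedMap f)
  refine Pn.dim_add_one_le_of_forall_specializes (hcl _ (CohDev.isClosed_support hF))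
    (hcl _ (CohDev.isClosed_support hc)) ?_ (Set.image_mono hsub) hd
  rintro _ ⟨y, hy, rfl⟩
  obtain ⟨z, hz, hzy⟩ := AssSch.Basic.exists_mem_ass_specializes F
    (not_subsingleton_iff_nontrivial.mp (hsub hy))
  refine ⟨f.base z, ⟨z, not_subsingleton_iff_nontrivial.mpr (AssSch.Basic.nontrivial_of_mem_ass F hz), rfl⟩,
    ?_, hzy.map f.base.hom.continuous⟩
  rintro ⟨w, hw, hwz⟩
  refine CohDev.not_mem_support_cokernel _ (HilbPolyX.mulSec_bijective F s ?_).2 hw
  rw [hloc]
  show f.base w ∈ locus σ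
  rw [hwz]
  exact hσ z hz

variable (k : Type u) [Field k] [X.Over (Spec (CommRingCat.of k))] [Y.Over (Spec (CommRingCat.of k))]
  [IsProper (X ↘ Spec (CommRingCat.of k))] [IsProper (Y ↘ Spec (CommRingCat.of k))]

/-- The two inequalities from multiplication by sections of `P` and `Q` with `L ⊗ Q ≅ P`. -/
theorem close_of_sections [IsNoetherian Y] {L Q P : Y.Modules} (hL : PicF.IsInvertible L)
    (hQ : PicF.IsInvertible Q) (hP : PicF.IsInvertible P) (eQ : CohB1.tensorMod L Q ≅ P)
    {F : Y.Modules} (hF : Coh.IsCoh F) (sP : Coh.structureModule Y ⟶ P) (sQ : Coh.structureModule Y ⟶ Q)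
    (mP : Mono (HilbPolyX.mulSec F sP)) (cP : Coh.IsCoh (cokernel (HilbPolyX.mulSec F sP)))
    (mQ : Mono (HilbPolyX.mulSec F sQ)) (cQ : Coh.IsCoh (cokernel (HilbPolyX.mulSec F sQ))) (m i : ℕ) :
    hh k F L (m + 1) i ≤ hh k F L m i + hh k (cokernel (HilbPolyX.mulSec F sP)) L m i +
        hh k (cokernel (HilbPolyX.mulSec F sQ)) L (m + 1) (i - 1) := by
  have tP := hh_triangle k (ShortComplex.ShortExact.mk'
    (S := ShortComplex.mk _ _ (cokernel.condition (HilbPolyX.mulSec F sP)))
    (ShortComplex.exact_cokernel _) mP (inferInstanceAs (Epi (cokernel.π (HilbPolyX.mulSec F sP)))))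
    hF (isCoh_tensor hP hF) cP hL m i
  have tQ := hh_triangle k (ShortComplex.ShortExact.mk'
    (S := ShortComplex.mk _ _ (cokernel.condition (HilbPolyX.mulSec F sQ)))
    (ShortComplex.exact_cokernel _) mQ (inferInstanceAs (Epi (cokernel.π (HilbPolyX.mulSec F sQ)))))
    hF (isCoh_tensor hQ hF) cQ hL (m + 1) i
  have hmid : hh k (CohB1.tensorMod F Q) L (m + 1) i = hh k (CohB1.tensorMod F P) L m i :=
    Pn.finrank_hh_iso (k := k) (midIso hL hQ hP eQ F (isInvertible_tensorPow hL m)).some i
  have p1 : hh k (CohB1.tensorMod F P) L m i ≤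
      hh k F L m i + hh k (cokernel (HilbPolyX.mulSec F sP)) L m i := tP.1
  have q2 : hh k F L (m + 1) i ≤ hh k (CohB1.tensorMod F Q) L (m + 1) i +
      hh k (cokernel (HilbPolyX.mulSec F sQ)) L (m + 1) (i - 1) := tQ.2.1
  rw [hmid] at q2
  omega

variable (hf : f ≫ (X ↘ Spec (CommRingCat.of k)) = Y ↘ Spec (CommRingCat.of k))
  {A : X.Modules} (hA : CohB1.IsAmple A)

include hf hA in
/-- `hⁱ(F ⊗ (f^*L)^m) = O(m^(d-1))` for `dim f(Supp F) < d`. -/
theorem exists_hh_pull_lt {L : X.Modules} (hL : PicF.IsInvertible L) : ∀ (d : ℕ) (F : Y.Modules),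
    Coh.IsCoh F → topologicalKrullDim (f.base '' CohB1.support F : Set X) < (d : WithBot ℕ∞) →
    ∀ i : ℕ, ∃ C : ℕ, ∀ m : ℕ, hh k F ((Scheme.Modules.pullback f).obj L) m i ≤ C * g d m
  | 0, F, _, hd, i => by
    haveI := EulerChar.isNoetherian k (X := Y)
    have he : CohB1.support F = ∅ := Set.image_eq_empty.mp (eq_empty_of_dim_lt hd)
    refine ⟨0, fun m => (hh_eq_zero k ?_ _ m i).le.trans (Nat.zero_le _)⟩
    rw [he]
    exact dim_empty
  | d + 1, F, hF, hd, i => by
    classical
    haveI := EulerChar.isNoetherian k (X := X)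
    haveI := EulerChar.isNoetherian k (X := Y)
    haveI : CompactSpace Y := EulerChar.compactSpace k
    haveI : IsProper (f ≫ (X ↘ Spec (CommRingCat.of k))) := by rw [hf]; infer_instance
    haveI : IsProper f := IsProper.of_comp f (X ↘ Spec (CommRingCat.of k))
    let E := ((S19801.finite_ass hF).image f.base).toFinset
    have hO := LFFrame.isInvertible_structureModule X
    obtain ⟨N₁, h₁⟩ := exists_section_twist hA hL (isCoh_invertible hL) E
    obtain ⟨N₂, h₂⟩ := exists_section_twist hA hO (ProperFin.isCoh_structureModule X) E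
    obtain ⟨σP, hσP⟩ := h₁ (max N₁ N₂) (le_max_left _ _)
    obtain ⟨σQ, hσQ⟩ := h₂ (max N₁ N₂) (le_max_right _ _)
    have hAN := isInvertible_tensorPow hA.1 (max N₁ N₂)
    have hPi := isInvertible_tensorMod hL hAN
    have hQi := isInvertible_tensorMod hO hAN
    have mem : ∀ y ∈ _root_.AssSch.Ass F, f.base y ∈ (E : Set X) := fun y hy => by
      simpa [E] using ⟨y, hy, rfl⟩
    obtain ⟨sP, mP, cP, dP⟩ := exists_drop f hF hPi σP fun y hy => hσP (mem y hy)
    obtain ⟨sQ, mQ, cQ, dQ⟩ := exists_drop f hF hQi σQ fun y hy => hσQ (mem y hy)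
    obtain ⟨eP⟩ := PicLaw.pullback_tensor f hL hAN
    let eQ : CohB1.tensorMod ((Scheme.Modules.pullback f).obj L)
        ((Scheme.Modules.pullback f).obj (CohB1.tensorMod (Coh.structureModule X) (CohB1.tensorPow A (max N₁ N₂)))) ≅
        (Scheme.Modules.pullback f).obj (CohB1.tensorMod L (CohB1.tensorPow A (max N₁ N₂))) :=
      tensCongr (Iso.refl _) ((Scheme.Modules.pullback f).mapIso (structure_tensor hAN).some) ≪≫ eP.symm
    have hstep := fun m => close_of_sections k (PicCl.isInvertible_pullback f hL)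
      (PicCl.isInvertible_pullback f hQi) (PicCl.isInvertible_pullback f hPi) eQ hF sP sQ mP cP mQ cQ m i
    obtain ⟨C₁, e₁⟩ := exists_hh_pull_lt hL d _ cP (dP d hd) i
    obtain ⟨C₂, e₂⟩ := exists_hh_pull_lt hL d _ cQ (dQ d hd) (i - 1)
    refine ⟨hh k F ((Scheme.Modules.pullback f).obj L) 0 i + C₁ + C₂ * 2 ^ d, fun m => ?_⟩
    induction m with
    | zero => simp only [g, one_pow, zero_add, mul_one]; omega
    | succ m ih =>
      have a := hstep m
      have b := Nat.mul_le_mul_left (hh k F ((Scheme.Modules.pullback f).obj L) 0 i + C₁ + C₂ * 2 ^ d) (g_step d m)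
      have c := (e₂ (m + 1)).trans (Nat.mul_le_mul_left C₂ (g_shift d m))
      have e := e₁ m
      rw [Nat.mul_add] at b
      nlinarith

end Groth.Agent.BigVol.RelBound
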