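import Groth.Agent.BigVol.CohBound
import Groth.Agent.HilbPolyX.Dim

/-!
If the common zeros of the sections of the powers of `L` lie in a closed set of dimension `≤ δ`,
then `hⁱ(F ⊗ L^m) = O(m^(dim Supp F - 1))` for `i > δ`.  No ample module is needed.
-/

set_option autoImplicit false
set_option linter.style.haveILetI false

open CategoryTheory CategoryTheory.Limits AlgebraicGeometry TopologicalSpace
open Groth.Agent.ProjTwist Groth.Agent.Props.GenLocus Groth.Agent.AmpleLib
open Groth.Agent.Props.GenTensor Groth.Agent.Props.GenProd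
open Groth.Agent.PullStalk.Sky Groth.Agent.PullStalk.Exact

universe u

noncomputable section

namespace Groth.Agent.BigVol.SemiBase

open CohBound

variable {X : Scheme.{u}}

/-- Finitely many points, each outside the base locus of some power, are avoided by one section. -/
theorem exists_section_avoid {L : X.Modules} (hL : PicF.IsInvertible L) (E : Finset X)
    (h : ∀ z ∈ E, ∃ (k : ℕ) (t : Coh.structureModule X ⟶ CohB1.tensorPow L (k + 1)),
      z ∈ CohB1.genLocus _ t) :
    ∃ (K : ℕ) (s : Coh.structureModule X ⟶ CohB1.tensorPow L (K + 1)),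
      (E : Set X) ⊆ CohB1.genLocus _ s := by
  classical
  induction hn : E.card using Nat.strong_induction_on generalizing E with
  | _ n ih =>
    rcases E.eq_empty_or_nonempty with rfl | ⟨z, hz⟩
    · exact ⟨0, 0, by simp⟩
    by_cases hdep : ∃ y ∈ E, ∃ w ∈ E, y ≠ w ∧
        ∀ (k : ℕ) (t : Coh.structureModule X ⟶ CohB1.tensorPow L (k + 1)),
          w ∈ CohB1.genLocus _ t → y ∈ CohB1.genLocus _ t
    · obtain ⟨y, hy, w, hw, hyw, hsub⟩ := hdep
      obtain ⟨K, s, hs⟩ := ih _ (hn ▸ Finset.card_erase_lt_of_mem hy) (E.erase y)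
        (fun a ha => h a (Finset.mem_of_mem_erase ha)) rfl
      refine ⟨K, s, fun a ha => ?_⟩
      by_cases hay : a = y
      · exact hay ▸ hsub K s (hs (Finset.mem_erase.mpr ⟨hyw.symm, hw⟩))
      · exact hs (Finset.mem_erase.mpr ⟨hay, ha⟩)
    push Not at hdep
    have hprod : ∀ S : Finset X, S ⊆ E.erase z →
        ∃ (k : ℕ) (t : Coh.structureModule X ⟶ CohB1.tensorPow L (k + 1)),
          z ∈ CohB1.genLocus _ t ∧ ∀ y ∈ S, y ∉ CohB1.genLocus _ t := by
      intro S
      induction S using Finset.induction with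
      | empty =>
        intro _
        obtain ⟨k, t, ht⟩ := h z hz
        exact ⟨k, t, ht, by simp⟩
      | insert y S hyS ihS =>
        intro hS
        obtain ⟨k, t, htz, ht⟩ := ihS ((Finset.subset_insert _ _).trans hS)
        have hy := hS (Finset.mem_insert_self y S)
        obtain ⟨l, u, huz, huy⟩ :=
          hdep y (Finset.mem_of_mem_erase hy) z hz (Finset.ne_of_mem_erase hy)
        obtain ⟨r, hr⟩ := exists_mul hL t u (k + l + 1 + 1) (by ring)
        have e := genLocus_mul hL t u r hr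
        refine ⟨k + l + 1, r, e ▸ ⟨htz, huz⟩, fun a ha => ?_⟩
        rw [e]
        rintro ⟨h1, h2⟩
        rcases Finset.mem_insert.mp ha with rfl | ha'
        · exact huy h2
        · exact ht a ha' h1
    obtain ⟨K, s, hs⟩ := ih _ (hn ▸ Finset.card_erase_lt_of_mem hz) (E.erase z)
      (fun a ha => h a (Finset.mem_of_mem_erase ha)) rfl
    by_cases hzs : z ∈ CohB1.genLocus _ s
    · exact ⟨K, s, fun a ha => if e : a = z then e ▸ hzs else hs (Finset.mem_erase.mpr ⟨e, ha⟩)⟩
    obtain ⟨m, t, htz, ht⟩ := hprod _ subset_rfl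
    obtain ⟨N, hN⟩ : ∃ N, N + 1 = (K + 1) * (m + 1) := ⟨K * m + K + m, by ring⟩
    obtain ⟨S, hS⟩ := exists_pow hL s (m + 1) (N + 1) hN
    obtain ⟨T, hT⟩ := exists_pow hL t (K + 1) (N + 1) (hN.trans (Nat.mul_comm _ _))
    have eS := genLocus_pow hL s (Nat.succ_pos m) S hS
    have eT := genLocus_pow hL t (Nat.succ_pos K) T hT
    refine ⟨N, S + T, fun a ha => ?_⟩
    by_cases haz : a = z
    · subst haz
      exact Props.AmpleQA.mem_genLocus_add hL S T (eS ▸ hzs) (eT ▸ htz)
    · rw [add_comm S T]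
      have ha' : a ∈ E.erase z := Finset.mem_erase.mpr ⟨haz, ha⟩
      exact Props.AmpleQA.mem_genLocus_add hL T S (eT ▸ ht a ha') (eS ▸ hs ha')

/-- Multiplication by a section generating at the associated points outside `Z`. -/
theorem mulSec_drop_off [IsNoetherian X] {F P : X.Modules} (hP : PicF.IsInvertible P) (hF : Coh.IsCoh F)
    (s : Coh.structureModule X ⟶ P) {Z : Set X} (hZ : IsClosed Z) {δ : ℕ}
    (hδ : topologicalKrullDim Z ≤ (δ : WithBot ℕ∞))
    (hs : ∀ z ∈ _root_.AssSch.Ass F, z ∉ Z → z ∈ CohB1.genLocus P s) :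
    ∃ (K I Q : X.Modules) (a : K ⟶ F) (b : F ⟶ I) (c : I ⟶ CohDev.tens F P) (e : CohDev.tens F P ⟶ Q)
      (w₁ : a ≫ b = 0) (w₂ : c ≫ e = 0),
      (ShortComplex.mk a b w₁).ShortExact ∧ (ShortComplex.mk c e w₂).ShortExact ∧
      Coh.IsCoh K ∧ Coh.IsCoh I ∧ Coh.IsCoh Q ∧
      topologicalKrullDim (CohB1.support K) ≤ (δ : WithBot ℕ∞) ∧
      ∀ d : ℕ, topologicalKrullDim (CohB1.support F) < ((d + 1 : ℕ) : WithBot ℕ∞) → δ < d →
        topologicalKrullDim (CohB1.support Q) < (d : WithBot ℕ∞) := by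
  have hB : Coh.IsCoh (CohDev.tens F P) := isCoh_tensor hP hF
  let φ := HilbPolyX.mulSec F s
  have hQ : Coh.IsCoh (cokernel φ) := CohDev.isCoh_cokernel _ hF.1 hB
  have hI : Coh.IsCoh (Abelian.image φ) := Pn.isCoh_kernel (cokernel.π φ) hB hQ.1
  let p := Abelian.factorThruImage φ
  haveI : Epi p := inferInstanceAs (Epi (Abelian.factorThruImage φ))
  have hK : Coh.IsCoh (kernel p) := Pn.isCoh_kernel p hF hI.1
  have hbij : ∀ z, z ∈ CohB1.genLocus P s → Function.Bijective (stalkLin φ z) := fun z hz =>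
    HilbPolyX.mulSec_bijective F s hz
  have hcomp : kernel.ι p ≫ φ = 0 := by
    have h1 := congrArg (fun t => kernel.ι p ≫ t) (Abelian.image.fac φ)
    simp only [← Category.assoc] at h1
    rw [← h1]
    show (kernel.ι p ≫ p) ≫ _ = 0
    rw [kernel.condition, zero_comp]
  refine ⟨kernel p, Abelian.image φ, cokernel φ, kernel.ι p, p, Abelian.image.ι φ, cokernel.π φ,
    kernel.condition p, kernel.condition _, ShortComplex.ShortExact.mk' (ShortComplex.exact_kernel p)
      inferInstance (inferInstanceAs (Epi p)),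
    ShortComplex.ShortExact.mk' (ShortComplex.exact_of_f_is_kernel _ (kernelIsKernel (cokernel.π φ)))
      (inferInstanceAs (Mono (kernel.ι (cokernel.π φ)))) (inferInstanceAs (Epi (cokernel.π φ))),
    hK, hI, hQ, ?_, fun d hd hδd => ?_⟩
  · have := hK.1
    have := hF.1
    refine le_trans (CohDev.dim_mono fun y hy => ?_) hδ
    obtain ⟨z, hz, hzy⟩ := AssSch.Basic.exists_mem_ass_specializes (kernel p)
      (not_subsingleton_iff_nontrivial.mp hy)
    refine hzy.mem_closed hZ ?_
    by_contra hzZ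
    have hn := AssSch.Basic.nontrivial_of_mem_ass (kernel p) hz
    obtain ⟨t, ht⟩ := exists_ne (0 : (kernel p).presheaf.stalk z)
    have hzF : z ∈ _root_.AssSch.Ass F := AssSch.Quot.ass_subset_of_mono (kernel.ι p) hz
    refine ht (Omega.Stalks.stalkLin_injective_of_mono (kernel.ι p) z ?_)
    refine ((hbij z (hs z hzF hzZ)).1 ?_).trans (map_zero _).symm
    rw [map_zero, ← Groth.Agent.Omega.Stalks.stalkLin_comp, hcomp]
    exact Omega.Stalks.stalkLin_zero z t
  · have := hF.1
    let W : Set X := {z | z ∈ _root_.AssSch.Ass F ∧ z ∉ Z}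
    have hWfin : W.Finite := (S19801.finite_ass hF).subset fun z hz => hz.1
    let Y : Set X := ⋃ z ∈ W, closure {z}
    have hY : IsClosed Y := hWfin.isClosed_biUnion fun _ _ => isClosed_closure
    have hQc := CohDev.isClosed_support hQ
    have hsub : CohB1.support (cokernel φ) ⊆ CohB1.support F := fun y hy => by
      refine HilbPolyX.support_tensorMod_subset F P (fun hsub => hy ?_)
      have : Subsingleton ((CohDev.tens F P).presheaf.stalk y) := hsub
      exact (stalk_surjective (cokernel.π φ) y).subsingleton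
    have hcov : CohB1.support (cokernel φ) ⊆
        (CohB1.support (cokernel φ) ∩ Y) ∪ (CohB1.support (cokernel φ) ∩ Z) := fun y hy => by
      obtain ⟨z, hz, hzy⟩ := AssSch.Basic.exists_mem_ass_specializes F
        (not_subsingleton_iff_nontrivial.mp (hsub hy))
      by_cases hzZ : z ∈ Z
      · exact Or.inr ⟨hy, hzy.mem_closed hZ hzZ⟩
      · exact Or.inl ⟨hy, Set.mem_iUnion₂.mpr ⟨z, ⟨hz, hzZ⟩, specializes_iff_mem_closure.mp hzy⟩⟩
    refine lt_of_le_of_lt (CohDev.dim_mono hcov) ?_
    rw [HilbPolyX.dim_union (hQc.inter hY) (hQc.inter hZ)]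
    refine max_lt ?_ ?_
    · refine Pn.dim_add_one_le_of_forall_specializes (CohDev.isClosed_support hF) (hQc.inter hY)
        (fun ξ hξ => ?_) (Set.inter_subset_left.trans hsub) hd
      obtain ⟨z, hzW, hzξ⟩ := Set.mem_iUnion₂.mp hξ.2
      exact ⟨z, not_subsingleton_iff_nontrivial.mpr (AssSch.Basic.nontrivial_of_mem_ass F hzW.1),
        fun hzQ => CohDev.not_mem_support_cokernel φ (hbij z (hs z hzW.1 hzW.2)).2 hzQ.1,
        specializes_iff_mem_closure.mpr hzξ⟩
    · exact lt_of_le_of_lt ((CohDev.dim_mono Set.inter_subset_right).trans hδ)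
        (by exact_mod_cast hδd)


theorem shiftIso {L : X.Modules} (hL : PicF.IsInvertible L) (F : X.Modules) (N m : ℕ) :
    Nonempty (CohB1.tensorMod (CohB1.tensorMod F (CohB1.tensorPow L N)) (CohB1.tensorPow L m) ≅
      CohB1.tensorMod F (CohB1.tensorPow L (m + N))) :=
  ⟨tensAssoc F _ _ ≪≫ tensCongr (Iso.refl F)
    ((PicLaw.tensor_comm (isInvertible_tensorPow hL N) (isInvertible_tensorPow hL m)).some ≪≫
      AmpCrit.SerreVan.powAddIso L m N)⟩

variable (k : Type u) [Field k] [X.Over (Spec (CommRingCat.of k))]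
  [IsProper (X ↘ Spec (CommRingCat.of k))] {L : X.Modules} (hL : PicF.IsInvertible L)
  {Z : Set X} (hZ : IsClosed Z) {δ : ℕ} (hδ : topologicalKrullDim Z ≤ (δ : WithBot ℕ∞))
  (hgen : ∀ z ∉ Z, ∃ (l : ℕ) (t : Coh.structureModule X ⟶ CohB1.tensorPow L (l + 1)),
    z ∈ CohB1.genLocus _ t)

include hL in
theorem hh_eq_zero_of_small {F : X.Modules} (hF : Coh.IsCoh F)
    (hd : topologicalKrullDim (CohB1.support F) ≤ (δ : WithBot ℕ∞)) {i : ℕ} (hi : δ < i) (m : ℕ) :
    hh k F L m i = 0 := by
  haveI := EulerChar.isNoetherian k (X := X)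
  haveI : NoetherianSpace X := inferInstance
  have h := Pn.subsingleton_of_supportDim_le (isCoh_tensor (isInvertible_tensorPow hL m) hF) δ
    ((CohDev.dim_mono (HilbPolyX.support_tensorMod_subset F _)).trans hd) i hi
  exact Module.finrank_zero_of_subsingleton

include hL hZ hδ hgen in
/-- `hⁱ(F ⊗ L^m) = O(m^(d-1))` for `dim Supp F ≤ d` and `i > δ`. -/
theorem exists_hh_le_pred : ∀ (d : ℕ) (F : X.Modules), Coh.IsCoh F →
    topologicalKrullDim (CohB1.support F) < ((d + 1 : ℕ) : WithBot ℕ∞) →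
    ∀ i : ℕ, δ < i → ∃ C : ℕ, ∀ m : ℕ, hh k F L m i ≤ C * g d m
  | 0, F, hF, hd, i, hi => ⟨0, fun m => (hh_eq_zero_of_small k hL hF
      ((le_of_lt_add_one hd).trans (by exact_mod_cast Nat.zero_le δ)) hi m).le.trans (Nat.zero_le _)⟩
  | e + 1, F, hF, hd, i, hi => by
    classical
    by_cases he : e + 1 ≤ δ
    · exact ⟨0, fun m => (hh_eq_zero_of_small k hL hF
        ((le_of_lt_add_one hd).trans (by exact_mod_cast he)) hi m).le.trans (Nat.zero_le _)⟩
    haveI := EulerChar.isNoetherian k (X := X)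
    haveI : CompactSpace X := EulerChar.compactSpace k
    let E := (S19801.finite_ass hF).toFinset.filter fun z => z ∉ Z
    obtain ⟨K, s, hs⟩ := exists_section_avoid hL E fun z hz => hgen z (Finset.mem_filter.mp hz).2
    have hP := isInvertible_tensorPow hL (K + 1)
    obtain ⟨Kr, I, Q, a, b, c, e', w₁, w₂, s₁, s₂, cK, cI, cQ, dK, dQ⟩ :=
      mulSec_drop_off hP hF s hZ hδ fun z hz hzZ =>
        hs (Finset.mem_filter.mpr ⟨(S19801.finite_ass hF).mem_toFinset.mpr hz, hzZ⟩)
    obtain ⟨C, hC⟩ := exists_hh_le_pred e Q cQ (dQ (e + 1) hd (by omega)) i hi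
    have hrec : ∀ m, hh k F L (m + (K + 1)) i ≤ hh k F L m i + hh k Q L m i := fun m => by
      have h1 : hh k I L m i ≤ hh k F L m i + hh k Kr L m (i + 1) :=
        (hh_triangle k s₁ cK hF cI hL m i).2.2
      have h2 : hh k (CohB1.tensorMod F (CohB1.tensorPow L (K + 1))) L m i ≤
          hh k I L m i + hh k Q L m i :=
        (hh_triangle k s₂ cI (isCoh_tensor hP hF) cQ hL m i).1
      have h3 : hh k Kr L m (i + 1) = 0 := hh_eq_zero_of_small k hL cK dK (Nat.lt_succ_of_lt hi) m
      have h4 : hh k (CohB1.tensorMod F (CohB1.tensorPow L (K + 1))) L m i =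
          hh k F L (m + (K + 1)) i :=
        Pn.finrank_hh_iso (k := k) (shiftIso hL F (K + 1) m).some i
      omega
    refine ⟨(∑ r ∈ Finset.range (K + 1), hh k F L r i) + C, fun m => ?_⟩
    induction m using Nat.strong_induction_on with
    | _ m ih =>
      rcases Nat.lt_or_ge m (K + 1) with hm | hm
      · refine le_trans (le_trans (Finset.single_le_sum (f := fun r => hh k F L r i)
          (fun r _ => Nat.zero_le _) (Finset.mem_range.mpr hm)) (Nat.le_add_right _ C)) ?_
        exact Nat.le_mul_of_pos_right _ (pow_pos m.succ_pos e)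
      · obtain ⟨m', rfl⟩ : ∃ m', m = m' + (K + 1) := ⟨m - (K + 1), by omega⟩
        have a1 := ih m' (by omega)
        have a2 := hrec m'
        have a3 := hC m'
        have a4 := Nat.mul_le_mul_left ((∑ r ∈ Finset.range (K + 1), hh k F L r i) + C)
          ((g_step e m').trans (show g (e + 1) (m' + 1) ≤ g (e + 1) (m' + (K + 1)) from
            Nat.pow_le_pow_left (by omega) e))
        have a5 := Nat.mul_le_mul_right (g e m')
          (Nat.le_add_left C (∑ r ∈ Finset.range (K + 1), hh k F L r i))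
        rw [Nat.mul_add] at a4
        exact a2.trans ((Nat.add_le_add a1 (a3.trans a5)).trans a4)

end Groth.Agent.BigVol.SemiBase
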