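import Groth.Agent.BigVol.GradedKernel
import Groth.Agent.BigVol.CohBound
import Groth.Agent.AmpCrit.Acyclic
import Groth.Agent.AmpCrit.SerreVan
import Groth.Agent.CohLin.Basic

/-!
Uniform Serre vanishing along a finitely generated graded module: coherent modules `M p` with
commuting operators of degree one, generating in large degrees, have `Hⁱ(M p ⊗ A^j) = 0` for
`i ≥ 1`, `j ≥ e` with `e` independent of `p`.
-/

set_option autoImplicit false
set_option linter.style.haveILetI false

open CategoryTheory CategoryTheory.Limits AlgebraicGeometry TopologicalSpace Opposite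
open Groth.Agent.ProjTwist Groth.Agent.AmpleLib

universe u

noncomputable section

namespace Groth.Agent.BigVol.TSystem

open Groth.Agent.QCoh AmpCrit.Acyclic

variable {X : Scheme.{u}}

/-- Commuting operators of degree one on a sequence of coherent modules, generating in large
degrees on the opens `U k`. -/
structure Sys {r : ℕ} (U : Fin r → X.Opens) (N : ℕ) where
  M : ℕ → X.Modules
  coh : ∀ p, Coh.IsCoh (M p)
  t : Fin N → ∀ p, M p ⟶ M (p + 1)
  comm : ∀ l l' p, t l p ≫ t l' (p + 1) = t l' p ≫ t l (p + 1)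
  gen : ∃ b₀, ∀ p, b₀ ≤ p → ∀ k (z : Γ(M (p + 1), U k)),
    ∃ y : Fin N → Γ(M p, U k), z = ∑ l, appLin (t l p) (U k) (y l)

variable {r : ℕ} {U : Fin r → X.Opens} (hU : ∀ k, IsAffineOpen (U k)) {N : ℕ}

/-- The cokernels of the first operator. -/
def Sys.coker (S : Sys U (N + 1)) (hU : ∀ k, IsAffineOpen (U k)) : Sys U N where
  M p := cokernel (S.t 0 p)
  coh p := CohDev.isCoh_cokernel _ (S.coh p).1 (S.coh (p + 1))
  t l p := cokernel.map (S.t 0 p) (S.t 0 (p + 1)) (S.t l.succ p) (S.t l.succ (p + 1))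
    (S.comm 0 l.succ p)
  comm l l' p := by
    refine coequalizer.hom_ext ?_
    simp only [cokernel.π_desc_assoc, Category.assoc, cokernel.π_desc]
    rw [← Category.assoc, ← Category.assoc, S.comm]
  gen := by
    obtain ⟨b₀, hb⟩ := S.gen
    refine ⟨b₀, fun p hp k z => ?_⟩
    have q : ∀ q, (S.M q).IsQuasicoherent := fun q => (S.coh q).1
    obtain ⟨w, rfl⟩ := app_surjective_of_epi (cokernel.π (S.t 0 (p + 1))) (hU k) z
    obtain ⟨y, rfl⟩ := hb (p + 1) (by omega) k w
    refine ⟨fun l => appLin (cokernel.π (S.t 0 p)) (U k) (y l.succ), ?_⟩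
    show appLin (cokernel.π (S.t 0 (p + 1))) (U k) (∑ l, appLin (S.t l (p + 1)) (U k) (y l)) = _
    rw [map_sum, Fin.sum_univ_succ]
    have h0 : appLin (cokernel.π (S.t 0 (p + 1))) (U k) (appLin (S.t 0 (p + 1)) (U k) (y 0)) = 0 :=
      app_app_eq_zero (ShortComplex.mk _ _ (cokernel.condition (S.t 0 (p + 1)))) _ _
    rw [h0, zero_add]
    refine Finset.sum_congr rfl fun l _ => ?_
    exact (congrArg (fun f => f.app (U k) (y l.succ))
      (cokernel.π_desc (S.t 0 p) (S.t l.succ (p + 1) ≫ cokernel.π (S.t 0 (p + 1)))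
        (by rw [← Category.assoc, S.comm 0 l.succ p, Category.assoc, cokernel.condition, comp_zero]))).symm

/-- The kernels of the first operator. -/
def Sys.ker [IsNoetherian X] (S : Sys U (N + 1)) (hU : ∀ k, IsAffineOpen (U k)) : Sys U N where
  M p := kernel (S.t 0 p)
  coh p := CohDev.isCoh_kernel _ (S.coh p) (S.coh (p + 1)).1
  t l p := kernel.map (S.t 0 p) (S.t 0 (p + 1)) (S.t l.succ p) (S.t l.succ (p + 1)) (S.comm 0 l.succ p)
  comm l l' p := by
    refine equalizer.hom_ext ?_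
    simp only [kernel.lift_ι, Category.assoc, kernel.lift_ι_assoc]
    rw [S.comm]
  gen := by
    obtain ⟨b₀, hb⟩ := S.gen
    have key : ∀ k, ∃ b₁, ∀ p, b₁ ≤ p → ∀ z : Γ(S.M (p + 1), U k),
        appLin (S.t 0 (p + 1)) (U k) z = 0 → ∃ y : Fin N → Γ(S.M p, U k),
          (∀ l, appLin (S.t 0 p) (U k) (y l) = 0) ∧ z = ∑ l, appLin (S.t l.succ p) (U k) (y l) := by
      intro k
      have := IsLocallyNoetherian.component_noetherian ⟨U k, hU k⟩
      have fin : ∀ p, Module.Finite Γ(X, U k) Γ(S.M p, U k) := fun p => CohDev.finite_sections (S.coh p) (hU k)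
      exact GradedKernel.exists_ker_generated (fun l p => appLin (S.t l p) (U k))
        (fun l l' p x => congrArg (fun f => f.app (U k) x) (S.comm l l' p)) fun p hp z => hb p hp k z
    choose b₁ hb₁ using key
    refine ⟨Finset.univ.sup b₁, fun p hp k z => ?_⟩
    obtain ⟨y, hy0, hy⟩ := hb₁ k p ((Finset.le_sup (Finset.mem_univ k)).trans hp)
      (appLin (kernel.ι (S.t 0 (p + 1))) (U k) z)
      (app_app_eq_zero (ShortComplex.mk _ _ (kernel.condition (S.t 0 (p + 1)))) _ _)
    choose w hw using fun l => exists_app_eq_of_app_eq_zero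
      (ShortComplex.mk _ _ (kernel.condition (S.t 0 p)))
      (ShortComplex.exact_of_f_is_kernel _ (kernelIsKernel _)) (U k) (y l) (hy0 l)
    refine ⟨w, app_injective_of_mono (kernel.ι (S.t 0 (p + 1))) (U k) ?_⟩
    show appLin _ (U k) z = appLin (kernel.ι (S.t 0 (p + 1))) (U k) (∑ l, _)
    rw [map_sum, hy]
    refine Finset.sum_congr rfl fun l _ => ?_
    refine Eq.trans ?_ (congrArg (fun f => f.app (U k) (w l)) (kernel.lift_ι (S.t 0 (p + 1))
      (kernel.ι (S.t 0 p) ≫ S.t l.succ p)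
      (by rw [Category.assoc, ← S.comm 0 l.succ p, ← Category.assoc, kernel.condition, zero_comp]))).symm
    exact congrArg ((S.t l.succ p).app (U k)) (hw l).symm

theorem subsingleton_hh_of_isZero {M : X.Modules} (hM : IsZero M) (i : ℕ) :
    Subsingleton (Coh.HH X M i) := subsingleton_of_forall_eq 0 fun x => by
  have h : CohLin.hMap (𝟙 M) i x = CohLin.hMap (0 : M ⟶ M) i x := by rw [hM.eq_of_src (𝟙 M) 0]
  rw [CohLin.hMap_id] at h
  rw [h]
  exact map_zero (CohLin.hMapHom M M i x)

/-- Vanishing of `Hⁱ(M ⊗ B)` for the middle of two consecutive sequences. -/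
theorem subsingleton_step {B : X.Modules} (hB : PicF.IsInvertible B) {M M' : X.Modules} (τ : M ⟶ M')
    (i : ℕ) (h0 : Subsingleton (Coh.HH X (CohB1.tensorMod M B) i))
    (h1 : Subsingleton (Coh.HH X (CohB1.tensorMod (kernel τ) B) (i + 1)))
    (h2 : Subsingleton (Coh.HH X (CohB1.tensorMod (cokernel τ) B) i)) :
    Subsingleton (Coh.HH X (CohB1.tensorMod M' B) i) := by
  have w : kernel.ι τ ≫ Abelian.factorThruImage τ = 0 := by
    rw [← cancel_mono (Abelian.image.ι τ), Category.assoc, Abelian.image.fac, kernel.condition, zero_comp]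
  let S₁ := ShortComplex.mk (kernel.ι τ) (Abelian.factorThruImage τ) w
  have e₁ : S₁.Exact := by
    let φ : S₁ ⟶ ShortComplex.mk (kernel.ι τ) τ (kernel.condition τ) :=
      { τ₁ := 𝟙 _, τ₂ := 𝟙 _, τ₃ := Abelian.image.ι τ }
    have : Epi φ.τ₁ := inferInstanceAs (Epi (𝟙 _))
    have : IsIso φ.τ₂ := inferInstanceAs (IsIso (𝟙 _))
    have : Mono φ.τ₃ := inferInstanceAs (Mono (Abelian.image.ι τ))
    exact (ShortComplex.exact_iff_of_epi_of_isIso_of_mono φ).mpr
      (ShortComplex.exact_of_f_is_kernel _ (kernelIsKernel τ))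
  have hS₁ : S₁.ShortExact := ShortComplex.ShortExact.mk' e₁ (inferInstanceAs (Mono (kernel.ι τ)))
    (inferInstanceAs (Epi (Abelian.factorThruImage τ)))
  let S₂ := ShortComplex.mk (Abelian.image.ι τ) (cokernel.π τ) (kernel.condition _)
  have hS₂ : S₂.ShortExact := ShortComplex.ShortExact.mk'
    (ShortComplex.exact_of_f_is_kernel _ (kernelIsKernel (cokernel.π τ)))
    (inferInstanceAs (Mono (Abelian.image.ι τ))) (inferInstanceAs (Epi (cokernel.π τ)))
  have T₁ := shortExact_tensor hB hS₁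
  have T₂ := shortExact_tensor hB hS₂
  have him : Subsingleton (Coh.HH X (CohB1.tensorMod (Abelian.image τ) B) i) :=
    @CohLin.subsingleton_X₃ X _ T₁ i h0 h1
  exact @CohLin.subsingleton_X₂ X _ T₂ i him h2

theorem isZero_of_gen (S : Sys U 0) (hU : ∀ k, IsAffineOpen (U k)) (hcov : ∀ x : X, ∃ k, x ∈ U k) :
    ∃ b₀, ∀ p, b₀ ≤ p → IsZero (S.M (p + 1)) := by
  obtain ⟨b₀, hb⟩ := S.gen
  refine ⟨b₀, fun p hp => ?_⟩
  have := (S.coh (p + 1)).1
  have : Epi (0 : S.M (p + 1) ⟶ S.M (p + 1)) := epi_of_surjective U hU hcov _ fun k z => by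
    obtain ⟨y, hy⟩ := hb p hp k z
    exact ⟨0, by rw [map_zero, hy]; simp⟩
  exact IsZero.of_epi_zero (S.M (p + 1)) (S.M (p + 1))

variable {R : Type u} [CommRing R] [IsNoetherianRing R] (f : X ⟶ Spec (CommRingCat.of R)) [IsProper f]

include f hU in
theorem exists_uniform_vanishing [IsNoetherian X] (hcov : ∀ x : X, ∃ k, x ∈ U k) {A : X.Modules}
    (hA : CohB1.IsAmple A) : ∀ (N : ℕ) (S : Sys U N), ∃ e : ℕ, ∀ j, e ≤ j → ∀ p i, 1 ≤ i →
      Subsingleton (Coh.HH X (CohB1.tensorMod (S.M p) (CohB1.tensorPow A j)) i)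
  | 0, S => by
    obtain ⟨b₀, hb⟩ := isZero_of_gen S hU hcov
    choose e he using fun p => AmpCrit.SerreVan.serre_vanishing f hA (S.M p) (S.coh p)
    refine ⟨(Finset.range (b₀ + 1)).sup e, fun j hj p i hi => ?_⟩
    by_cases hp : p ≤ b₀
    · exact he p j ((Finset.le_sup (Finset.mem_range.mpr (by omega))).trans hj) i hi
    · obtain ⟨q, rfl⟩ : ∃ q, p = q + 1 := ⟨p - 1, by omega⟩
      let T := (DCoh.tensorBi (X := X)).flip.obj (CohB1.tensorPow A j)
      have hz := hb q (by omega)
      refine subsingleton_hh_of_isZero ((IsZero.iff_id_eq_zero _).mpr ?_) i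
      refine (T.map_id (S.M (q + 1))).symm.trans ?_
      rw [hz.eq_of_src (𝟙 _) 0]
      haveI : T.Additive := ⟨fun {A B f g} => congrArg (fun η => NatTrans.app η (CohB1.tensorPow _ j))
        ((DCoh.tensorBi (X := X)).map_add (f := f) (g := g))⟩
      exact T.map_zero _ _
  | N + 1, S => by
    obtain ⟨eK, hK⟩ := exists_uniform_vanishing hcov hA N (S.ker hU)
    obtain ⟨eC, hC⟩ := exists_uniform_vanishing hcov hA N (S.coker hU)
    obtain ⟨e₀, h₀⟩ := AmpCrit.SerreVan.serre_vanishing f hA (S.M 0) (S.coh 0)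
    refine ⟨max e₀ (max eK eC), fun j hj p => ?_⟩
    induction p with
    | zero => exact fun i hi => h₀ j (by omega) i hi
    | succ p ih =>
      exact fun i hi => subsingleton_step (isInvertible_tensorPow hA.1 j) (S.t 0 p) i (ih i hi)
        (hK j (by omega) p (i + 1) (by omega)) (hC j (by omega) p i hi)

end Groth.Agent.BigVol.TSystem

end
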