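import Groth.Agent.NumTriv.Ample
import Groth.Agent.ProjMorph.SegreBase
import Groth.Agent.AmpCrit.SerreVan
import Groth.Agent.S4386

/-!
A very ample module whose numerically trivial twists are very ample.
-/

universe u

open CategoryTheory CategoryTheory.Limits AlgebraicGeometry TopologicalSpace
open Groth.Agent.ProjTwist

set_option autoImplicit false
set_option linter.style.haveILetI false

noncomputable section

namespace Groth.Agent.BigVol.UniformVA

/-- A globally generated invertible module is generated by finitely many sections. -/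
theorem exists_fin_generatedBy {X : Scheme.{u}} [CompactSpace X] [Nonempty X] {M : X.Modules}
    (hM : PicF.IsInvertible M) (hg : Curv2.IsGloballyGenerated M) :
    ∃ (m : ℕ) (s : Fin (m + 1) → ProjUP.Γm M), ProjUP.GeneratedBy M s := by
  classical
  choose σ hσ using fun x : X => DimOneAmple.exists_genLocus_mem hM hg x
  obtain ⟨t, ht⟩ := isCompact_univ.elim_finite_subcover
    (fun x : X => ((AmpleLib.locus (O := ⊤) (σ x)) : Set X))
    (fun x => (AmpleLib.locus (O := ⊤) (σ x)).2) fun x _ => Set.mem_iUnion.2 ⟨x, hσ x⟩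
  obtain ⟨x₀⟩ := ‹Nonempty X›
  refine ⟨t.card, fun j => if h : (j : ℕ) < t.card then σ (t.equivFin.symm ⟨j, h⟩).1 else σ x₀,
    AmpCrit.SerreVan.generatedBy_of_loci _ fun x => ?_⟩
  obtain ⟨y, hy, hxy⟩ := Set.mem_iUnion₂.1 (ht (Set.mem_univ x))
  refine ⟨(t.equivFin ⟨y, hy⟩).castSucc, ?_⟩
  rw [dif_pos (by simp)]
  simpa using hxy

end Groth.Agent.BigVol.UniformVA
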