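import Groth.Agent.BigVol.NumShift
import Groth.Agent.NumTriv.BddHilb
import Groth.Agent.NumTriv.Bounded
import Groth.Agent.NumTriv.KerFam

/-!
A universal bound for `hⁱ(G ⊗ D^m)` by finitely many `hʲ(G ⊗ M)`, and the boundedness of the latter for
`G` a cokernel of a map between fixed coherent modules.
-/

set_option autoImplicit false
set_option linter.style.haveILetI false

open CategoryTheory CategoryTheory.Limits AlgebraicGeometry TopologicalSpace
open Groth.Agent.ProjTwist Groth.Agent.AmpleLib Groth.Agent.BigVol.CohBound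
open Groth.Agent.Props.GenLocus

universe u

noncomputable section

namespace Groth.Agent.BigVol.UnivBound

variable {X : Scheme.{u}} (k : Type u) [Field k] [X.Over (Spec (CommRingCat.of k))]
  [IsProper (X ↘ Spec (CommRingCat.of k))]

theorem h_eq_zero_of_dim {n : ℕ} (hn : topologicalKrullDim X ≤ (n : WithBot ℕ∞)) (F : X.Modules) {j : ℕ}
    (hj : n < j) : h k F j = 0 := by
  haveI := EulerChar.isNoetherian k (X := X)
  haveI : NoetherianSpace X.toTopCat := inferInstanceAs (NoetherianSpace X)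
  haveI : Subsingleton (Coh.HH X F j) :=
    CohTop.Vanishing.grothendieck_vanishing (X := X.toTopCat) n hn (Coh.toAb F) j hj
  exact Module.finrank_zero_of_subsingleton

/-- `hʲ(G ⊗ M)` is bounded for `G` the kernel or cokernel of a map between fixed coherent modules. -/
theorem exists_bound_ker_coker {n : ℕ} (hn : topologicalKrullDim X ≤ (n : WithBot ℕ∞)) {M : X.Modules}
    (hM : PicF.IsInvertible M) : ∀ (c j : ℕ), n < j + c → ∀ {A B : X.Modules}, Coh.IsCoh A → Coh.IsCoh B →
    ∃ C : ℕ, ∀ φ : A ⟶ B, h k (CohB1.tensorMod (kernel φ) M) j ≤ C ∧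
      h k (CohB1.tensorMod (cokernel φ) M) j ≤ C
  | 0, j, hc, A, B, _, _ => ⟨0, fun φ =>
      ⟨(h_eq_zero_of_dim k hn _ (by omega)).le, (h_eq_zero_of_dim k hn _ (by omega)).le⟩⟩
  | c + 1, j, hc, A, B, hA, hB => by
    classical
    haveI := EulerChar.isNoetherian k (X := X)
    have hbdd : Pic13.IsBounded k X (fun G => ∃ φ : A ⟶ B, Nonempty (G ≅ kernel φ)) := by
      obtain ⟨T, q, h1, h2, F, hF, hf⟩ :=
        NumTriv.KerFam.isBounded_kernel (NumTriv.Bounded.isBounded_single (k := k) hA) hB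
      exact ⟨T, q, h1, h2, F, hF, fun G ⟨φ, e⟩ => hf G ⟨A, ⟨Iso.refl A⟩, φ, e⟩⟩
    obtain ⟨r, Cs, hCs, hepi⟩ := NumTriv.BddHilb.exists_finite_epi hbdd
    choose C₁ hC₁ using fun l : Fin r => exists_bound_ker_coker hn hM c (j + 1) (by omega) (hCs l) hA
    obtain ⟨C₂, hC₂⟩ := exists_bound_ker_coker hn hM c (j + 1 + 1) (by omega) hA hB
    let K := ∑ l, (h k (CohB1.tensorMod (Cs l) M) j + C₁ l)
    refine ⟨K + h k (CohB1.tensorMod B M) j + h k (CohB1.tensorMod A M) (j + 1) + C₂, fun φ => ?_⟩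
    obtain ⟨l, a, ha⟩ := hepi (kernel φ) ⟨φ, ⟨Iso.refl _⟩⟩
    haveI := ha
    let ψ : Cs l ⟶ A := a ≫ kernel.ι φ
    have hK : Coh.IsCoh (kernel φ) := CohDev.isCoh_kernel φ hA hB.1
    have hKa : Coh.IsCoh (kernel a) := CohDev.isCoh_kernel a (hCs l) hK.1
    let eK : kernel ψ ≅ kernel a := kernelCompMono a (kernel.ι φ)
    have s₁ : (ShortComplex.mk _ _ (kernel.condition a)).ShortExact :=
      { exact := ShortComplex.exact_of_f_is_kernel _ (kernelIsKernel a) }
    have hker : ∀ q, h k (CohB1.tensorMod (kernel φ) M) q ≤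
        h k (CohB1.tensorMod (Cs l) M) q + h k (CohB1.tensorMod (kernel ψ) M) (q + 1) := fun q => by
      have t := (h_triangle k (shortExact_tensor hM s₁) (isCoh_tensor hM hKa) (isCoh_tensor hM (hCs l))
        (isCoh_tensor hM hK) q).2.2
      refine t.trans (Nat.add_le_add_left (le_of_eq ?_) _)
      exact Pn.finrank_hh_iso (tensCongr eK.symm (Iso.refl M)) (q + 1)
    have hle : h k (CohB1.tensorMod (Cs l) M) j + C₁ l ≤ K :=
      Finset.single_le_sum (fun x _ => Nat.zero_le _) (Finset.mem_univ l)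
        (f := fun l => h k (CohB1.tensorMod (Cs l) M) j + C₁ l)
    have k1 := hker j
    have k2 := (hC₁ l ψ).1
    have k5 := (hC₂ φ).1
    refine ⟨by omega, ?_⟩
    let I : X.Modules := kernel (cokernel.π φ)
    have hQ : Coh.IsCoh (cokernel φ) := CohDev.isCoh_cokernel φ hA.1 hB
    have hI : Coh.IsCoh I := CohDev.isCoh_kernel _ hB hQ.1
    have s₂ : (ShortComplex.mk _ _ (kernel.condition (cokernel.π φ))).ShortExact :=
      { exact := ShortComplex.exact_of_f_is_kernel _ (kernelIsKernel _) }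
    let e₀ : kernel φ ⟶ A := kernel.ι φ
    let eI : cokernel e₀ ≅ I := Abelian.coimageIsoImage φ
    have s₃ : (ShortComplex.mk _ _ (cokernel.condition e₀)).ShortExact :=
      { exact := ShortComplex.exact_of_g_is_cokernel _ (cokernelIsCokernel _) }
    have t₂ : h k (CohB1.tensorMod (cokernel φ) M) j ≤
        h k (CohB1.tensorMod B M) j + h k (CohB1.tensorMod I M) (j + 1) :=
      (h_triangle k (shortExact_tensor hM s₂) (isCoh_tensor hM hI) (isCoh_tensor hM hB)
        (isCoh_tensor hM hQ) j).2.2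
    have t₃ : h k (CohB1.tensorMod (cokernel e₀) M) (j + 1) ≤
        h k (CohB1.tensorMod A M) (j + 1) + h k (CohB1.tensorMod (kernel φ) M) (j + 1 + 1) :=
      (h_triangle k (shortExact_tensor hM s₃) (isCoh_tensor hM hK) (isCoh_tensor hM hA)
        (isCoh_tensor hM (CohDev.isCoh_cokernel e₀ hK.1 hA)) (j + 1)).2.2
    have e : h k (CohB1.tensorMod (cokernel e₀) M) (j + 1) = h k (CohB1.tensorMod I M) (j + 1) :=
      Pn.finrank_hh_iso (tensCongr eI (Iso.refl M)) (j + 1)
    omega

/-- The quantity controlling the growth: `hʲ(F ⊗ D^a ⊗ H^b)` for small `a`, `b`, `j`. -/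
def Phi (D H F : X.Modules) (d i : ℕ) : ℕ :=
  ∑ a ∈ Finset.range (d + 1), ∑ b ∈ Finset.range (d + 1), ∑ j ∈ Finset.range (i + d + 1),
    h k (CohB1.tensorMod F (CohB1.tensorMod (CohB1.tensorPow D a) (CohB1.tensorPow H b))) j

omit [IsProper (X ↘ Spec (CommRingCat.of k))] in
theorem le_Phi (D H F : X.Modules) {d i a b j : ℕ} (ha : a ≤ d) (hb : b ≤ d) (hj : j ≤ i + d) :
    h k (CohB1.tensorMod F (CohB1.tensorMod (CohB1.tensorPow D a) (CohB1.tensorPow H b))) j ≤
      Phi k D H F d i := by
  refine le_trans ?_ (Finset.single_le_sum (fun _ _ => Nat.zero_le _) (Finset.mem_range.2 (Nat.lt_succ_of_le ha)))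
  refine le_trans ?_ (Finset.single_le_sum (fun _ _ => Nat.zero_le _) (Finset.mem_range.2 (Nat.lt_succ_of_le hb)))
  exact Finset.single_le_sum
    (f := fun j => h k (CohB1.tensorMod F (CohB1.tensorMod (CohB1.tensorPow D a) (CohB1.tensorPow H b))) j)
    (fun _ _ => Nat.zero_le _) (Finset.mem_range.2 (Nat.lt_succ_of_le hj))

variable [Infinite k]

/-- `hⁱ(F ⊗ D^m) ≤ c · Phi(F) · (m + 1)^(d-1)` for every coherent `F` with `dim Supp F < d`,
with `c` independent of `F`. -/
theorem exists_univ {D H : X.Modules} (hD : PicF.IsInvertible D) (hH : PicF.IsInvertible H)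
    (gH : Curv2.IsGloballyGenerated H) (gDH : Curv2.IsGloballyGenerated (CohB1.tensorMod D H)) :
    ∀ (d i : ℕ), ∃ c : ℕ, ∀ F : X.Modules, Coh.IsCoh F →
      topologicalKrullDim (CohB1.support F) < (d : WithBot ℕ∞) →
      ∀ m : ℕ, hh k F D m i ≤ c * Phi k D H F d i * g d m
  | 0, i => ⟨0, fun F _ hd m => by
    haveI := EulerChar.isNoetherian k (X := X)
    exact (hh_eq_zero k hd D m i).le.trans (Nat.zero_le _)⟩
  | d + 1, i => by
    classical
    haveI := EulerChar.isNoetherian k (X := X)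
    obtain ⟨c₁, hc₁⟩ := exists_univ hD hH gH gDH d i
    obtain ⟨c₂, hc₂⟩ := exists_univ hD hH gH gDH d (i - 1)
    let N := (d + 1) * ((d + 1) * (i + d + 1)) * 2
    refine ⟨1 + c₁ * N + c₂ * N * 2 ^ d, fun F hF hd m => ?_⟩
    let P := CohB1.tensorMod D H
    have hP : PicF.IsInvertible P := isInvertible_tensorMod hD hH
    obtain ⟨σP, hσP⟩ := NumShift.exists_section_gg k hP gDH (S19801.finite_ass hF).toFinset
    obtain ⟨σQ, hσQ⟩ := NumShift.exists_section_gg k hH gH (S19801.finite_ass hF).toFinset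
    obtain ⟨mP, cP, dP⟩ := mulSec_drop hP hF (homOfSec σP) (by
      rw [genLocus_homOfSec]
      exact fun x hx => hσP ((S19801.finite_ass hF).mem_toFinset.mpr hx))
    obtain ⟨mQ, cQ, dQ⟩ := mulSec_drop hH hF (homOfSec σQ) (by
      rw [genLocus_homOfSec]
      exact fun x hx => hσQ ((S19801.finite_ass hF).mem_toFinset.mpr hx))
    have sP : (ShortComplex.mk _ _ (cokernel.condition (HilbPolyX.mulSec F (homOfSec σP)))).ShortExact :=
      ShortComplex.ShortExact.mk' (ShortComplex.exact_cokernel _) mP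
        (inferInstanceAs (Epi (cokernel.π (HilbPolyX.mulSec F (homOfSec σP)))))
    have sQ : (ShortComplex.mk _ _ (cokernel.condition (HilbPolyX.mulSec F (homOfSec σQ)))).ShortExact :=
      ShortComplex.ShortExact.mk' (ShortComplex.exact_cokernel _) mQ
        (inferInstanceAs (Epi (cokernel.π (HilbPolyX.mulSec F (homOfSec σQ)))))
    generalize hFP : cokernel (HilbPolyX.mulSec F (homOfSec σP)) = FP at cP dP
    generalize hFQ : cokernel (HilbPolyX.mulSec F (homOfSec σQ)) = FQ at cQ dQ
    subst hFP hFQ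
    let T := fun a b : ℕ => CohB1.tensorMod (CohB1.tensorPow D a) (CohB1.tensorPow H b)
    have hT : ∀ a b, PicF.IsInvertible (T a b) := fun a b =>
      isInvertible_tensorMod (isInvertible_tensorPow hD a) (isInvertible_tensorPow hH b)
    have eP : ∀ a b, Nonempty (CohB1.tensorMod P (T a b) ≅ T (a + 1) (b + 1)) := fun a b => by
      obtain ⟨e⟩ := NumEquiv.nonempty_middleFour D H (CohB1.tensorPow D a) (CohB1.tensorPow H b)
      exact ⟨e ≪≫ tensCongr (tensComm _ _) (tensComm _ _)⟩
    have eQ : ∀ a b, Nonempty (CohB1.tensorMod H (T a b) ≅ T a (b + 1)) := fun a b =>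
      ⟨tensComm H _ ≪≫ tensAssoc _ _ H⟩
    let Ψ := Phi k D H F (d + 1) i
    have b1 : ∀ i', i' ≤ i → Phi k D H (cokernel (HilbPolyX.mulSec F (homOfSec σP))) d i' ≤ N * Ψ := by
      intro i' hi'
      refine (Finset.sum_le_card_nsmul _ _ ((d + 1) * (i + d + 1) * (2 * Ψ)) fun a ha => ?_).trans (by
        simp only [Finset.card_range, smul_eq_mul, N]; ring_nf; omega)
      refine (Finset.sum_le_card_nsmul _ _ ((i + d + 1) * (2 * Ψ)) fun b hb => ?_).trans (by
        simp only [Finset.card_range, smul_eq_mul]; ring_nf; omega)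
      refine (Finset.sum_le_card_nsmul _ _ (2 * Ψ) fun j hj => ?_).trans (by
        simp only [Finset.card_range, smul_eq_mul]; exact Nat.mul_le_mul_right _ (by omega))
      simp only [Finset.mem_range] at ha hb hj
      have t := (h_triangle k (shortExact_tensor (hT a b) sP) (isCoh_tensor (hT a b) hF)
        (isCoh_tensor (hT a b) (isCoh_tensor hP hF)) (isCoh_tensor (hT a b) cP) j).2.2
      have u1 : h k (CohB1.tensorMod (CohB1.tensorMod F P) (T a b)) j ≤ Ψ := le_of_eq_of_le
        (Pn.finrank_hh_iso (tensAssoc F P _ ≪≫ tensCongr (Iso.refl F) (eP a b).some) j)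
        (le_Phi k D H F (by omega) (by omega) (by omega))
      have u2 : h k (CohB1.tensorMod F (T a b)) (j + 1) ≤ Ψ :=
        le_Phi k D H F (by omega) (by omega) (by omega)
      exact t.trans (le_of_le_of_eq (Nat.add_le_add u1 u2) (two_mul Ψ).symm)
    have b2 : ∀ i', i' ≤ i → Phi k D H (cokernel (HilbPolyX.mulSec F (homOfSec σQ))) d i' ≤ N * Ψ := by
      intro i' hi'
      refine (Finset.sum_le_card_nsmul _ _ ((d + 1) * (i + d + 1) * (2 * Ψ)) fun a ha => ?_).trans (by
        simp only [Finset.card_range, smul_eq_mul, N]; ring_nf; omega)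
      refine (Finset.sum_le_card_nsmul _ _ ((i + d + 1) * (2 * Ψ)) fun b hb => ?_).trans (by
        simp only [Finset.card_range, smul_eq_mul]; ring_nf; omega)
      refine (Finset.sum_le_card_nsmul _ _ (2 * Ψ) fun j hj => ?_).trans (by
        simp only [Finset.card_range, smul_eq_mul]; exact Nat.mul_le_mul_right _ (by omega))
      simp only [Finset.mem_range] at ha hb hj
      have t := (h_triangle k (shortExact_tensor (hT a b) sQ) (isCoh_tensor (hT a b) hF)
        (isCoh_tensor (hT a b) (isCoh_tensor hH hF)) (isCoh_tensor (hT a b) cQ) j).2.2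
      have u1 : h k (CohB1.tensorMod (CohB1.tensorMod F H) (T a b)) j ≤ Ψ := le_of_eq_of_le
        (Pn.finrank_hh_iso (tensAssoc F H _ ≪≫ tensCongr (Iso.refl F) (eQ a b).some) j)
        (le_Phi k D H F (by omega) (by omega) (by omega))
      have u2 : h k (CohB1.tensorMod F (T a b)) (j + 1) ≤ Ψ :=
        le_Phi k D H F (by omega) (by omega) (by omega)
      exact t.trans (le_of_le_of_eq (Nat.add_le_add u1 u2) (two_mul Ψ).symm)
    have hb1 := fun m => (hc₁ _ cP (dP d hd) m).trans
      (Nat.mul_le_mul_right _ (Nat.mul_le_mul_left c₁ (b1 i le_rfl)))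
    have hb2 := fun m => (hc₂ _ cQ (dQ d hd) m).trans
      (Nat.mul_le_mul_right _ (Nat.mul_le_mul_left c₂ (b2 (i - 1) (Nat.sub_le i 1))))
    induction m with
    | zero =>
      have u0 : hh k F D 0 i ≤ Ψ := le_of_eq_of_le
        (Pn.finrank_hh_iso (tensCongr (Iso.refl F) (oneTens (CohB1.tensorPow H 0)).symm) i)
        (le_Phi k D H F (a := 0) (b := 0) (Nat.zero_le _) (Nat.zero_le _) (by omega))
      simp only [g, zero_add, one_pow, mul_one]
      exact u0.trans (Nat.le_mul_of_pos_left _ (by omega))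
    | succ m ih =>
      have hDm := isInvertible_tensorPow hD m
      have hTL := isInvertible_tensorMod hDm hD
      let eQ' : CohB1.tensorMod D H ≅ P := Iso.refl _
      have hmid : h k (CohB1.tensorMod (CohB1.tensorMod F H) (CohB1.tensorPow D (m + 1))) i =
          h k (CohB1.tensorMod (CohB1.tensorMod F P) (CohB1.tensorPow D m)) i :=
        Pn.finrank_hh_iso (k := k) (midIso hD hH hP eQ' F hDm).some i
      have p1 : h k (CohB1.tensorMod (CohB1.tensorMod F P) (CohB1.tensorPow D m)) i ≤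
          hh k F D m i + hh k (cokernel (HilbPolyX.mulSec F (homOfSec σP))) D m i :=
        (h_triangle k (shortExact_tensor hDm sP) (isCoh_tensor hDm hF)
          (isCoh_tensor hDm (isCoh_tensor hP hF)) (isCoh_tensor hDm cP) i).1
      have q2 : hh k F D (m + 1) i ≤
          h k (CohB1.tensorMod (CohB1.tensorMod F H) (CohB1.tensorPow D (m + 1))) i +
            hh k (cokernel (HilbPolyX.mulSec F (homOfSec σQ))) D (m + 1) (i - 1) :=
        (h_triangle k (shortExact_tensor hTL sQ) (isCoh_tensor hTL hF)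
          (isCoh_tensor hTL (isCoh_tensor hH hF)) (isCoh_tensor hTL cQ) i).2.1
      have key : hh k F D (m + 1) i ≤ hh k F D m i + c₁ * (N * Ψ) * g d m + c₂ * (N * Ψ) * g d (m + 1) := by
        have := hb1 m
        have := hb2 (m + 1)
        omega
      have s1 := g_step d m
      have s2 := g_shift d m
      have h2 : 1 ≤ 2 ^ d := Nat.one_le_two_pow
      have hDD := Nat.mul_le_mul_left ((1 + c₁ * N + c₂ * N * 2 ^ d) * Ψ) s1
      have s2' := Nat.mul_le_mul_left (c₂ * (N * Ψ)) s2
      nlinarith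

end Groth.Agent.BigVol.UnivBound
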