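import Groth.Agent.ZeroSchemeLib.Basic
import Groth.Agent.EulerChar.Cartier
import Groth.Agent.EulerFam.RegBounded
import Groth.Agent.BigVol.NumShift
import Groth.Agent.Omega.ProdDiff
import Groth.Agent.Desc44.IntersectConormal

/-!
The structure sheaf of an intersection of zero schemes as the cokernel of a map into `O`.
-/

set_option autoImplicit false
set_option linter.style.haveILetI false

open CategoryTheory CategoryTheory.Limits AlgebraicGeometry TopologicalSpace Opposite
open Groth.Agent.QCoh Groth.Agent.ProjTwist Groth.Agent.AmpleLib Groth.Agent.BigVol.NumShift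
open Groth.Agent.PullStalk.Sky Groth.Agent.PullStalk.Exact Groth.Agent.Props.GenLocus
open scoped TensorProduct

universe u

noncomputable section

namespace Groth.Agent.BigVol.ZeroCoker

variable {X : Scheme.{u}}

/-- The ideal of `J` at a point of an affine open. -/
def idealAt (J : X.IdealSheafData) (U : X.affineOpens) (x : X) (hx : x ∈ U.1) :
    Ideal (X.presheaf.stalk x) :=
  (J.ideal U).map (X.presheaf.germ U.1 x hx).hom

theorem idealAt_le {J : X.IdealSheafData} {U W : X.affineOpens} (h : W ≤ U) (x : X) (hW : x ∈ W.1) :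
    idealAt J W x hW = idealAt J U x (h hW) := by
  rw [idealAt, idealAt, ← Scheme.IdealSheafData.map_ideal J h, Ideal.map_map]
  congr 1
  rw [← CommRingCat.hom_comp]
  exact congrArg CommRingCat.Hom.hom (X.presheaf.germ_res (homOfLE h) x hW)

/-- A map into `O` with the stalks of the ideal `J` has cokernel `O / J`. -/
theorem nonempty_cokernel_iso (J : X.IdealSheafData) {P : X.Modules} (φ : P ⟶ Coh.structureModule X)
    (hφ : ∀ x : X, ∃ (U : X.affineOpens) (hx : x ∈ U.1), LinearMap.range (stalkLin φ x) =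
      idealAt J U x hx • (⊤ : Submodule (X.presheaf.stalk x) ((Coh.structureModule X).presheaf.stalk x))) :
    Nonempty (cokernel φ ≅ ClSub.quotMod J) := by
  have hS := EulerChar.shortExact_ideal J
  have hker : ∀ x, LinearMap.ker (stalkLin (ClSub.toSubscheme J) x) = LinearMap.range (stalkLin φ x) := by
    intro x
    obtain ⟨U, hx, hr⟩ := hφ x
    refine le_antisymm (fun t ht => ?_) ?_
    · obtain ⟨V, hxV, (a : Γ(X, V)), rfl⟩ := exists_germM_eq (Coh.structureModule X) x t
      rw [LinearMap.mem_ker, stalkLin_germ] at ht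
      obtain ⟨W₀, hxW₀, iV, iV', e⟩ := TopCat.Presheaf.germ_eq (ClSub.quotMod J).presheaf x hxV hxV
        ((ClSub.toSubscheme J).app V a) 0 (ht.trans (map_zero _).symm)
      obtain ⟨W, hW, hxW, hle⟩ :=
        exists_isAffineOpen_mem_and_subset (show x ∈ W₀ ⊓ U.1 from ⟨hxW₀, hx⟩)
      have hWV : W ≤ V := (hle.trans inf_le_left).trans iV.le
      have h0 : (ClSub.toSubscheme J).app W (rres hWV a) = 0 := by
        have e' : res (ClSub.quotMod J) iV.le ((ClSub.toSubscheme J).app V a) = 0 :=
          e.trans (map_zero _)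
        have h1 : res (ClSub.quotMod J) hWV ((ClSub.toSubscheme J).app V a) = 0 := by
          rw [← res_res (ClSub.quotMod J) iV.le (hle.trans inf_le_left), e', map_zero]
        rw [← app_res] at h1
        exact h1
      have hmem : rres hWV a ∈ J.ideal ⟨W, hW⟩ := by
        rw [← J.ker_subschemeι_app ⟨W, hW⟩]
        exact h0
      rw [hr, ← idealAt_le (show (⟨W, hW⟩ : X.affineOpens) ≤ U from hle.trans inf_le_right) x hxW]
      have hone : germM (Coh.structureModule X) V x hxV a =
          X.presheaf.germ W x hxW (rres hWV a) •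
            germM (Coh.structureModule X) W x hxW (show Γ(X, W) from 1) := by
        rw [← germM_smul]
        refine ((Coh.structureModule X).presheaf.germ_res_apply (homOfLE hWV) x hxW a).symm.trans ?_
        congr 1
        exact (mul_one (rres hWV a)).symm
      rw [hone]
      exact Submodule.smul_mem_smul (Ideal.mem_map_of_mem _ hmem) Submodule.mem_top
    · rw [hr, idealAt, ← Submodule.span_eq (⊤ : Submodule (X.presheaf.stalk x) _)]
      rw [Submodule.span_eq, Submodule.smul_le]
      intro r hr' n _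
      rw [LinearMap.mem_ker, map_smul]
      induction hr' using Submodule.span_induction generalizing n with
      | mem r hr' =>
        obtain ⟨f, hf, rfl⟩ := hr'
        obtain ⟨W₀, hxW₀, (b : Γ(X, W₀)), rfl⟩ := exists_germM_eq (Coh.structureModule X) x n
        obtain ⟨W, hW, hxW, hle⟩ :=
          exists_isAffineOpen_mem_and_subset (show x ∈ W₀ ⊓ U.1 from ⟨hxW₀, hx⟩)
        have hWU : W ≤ U.1 := hle.trans inf_le_right
        rw [← map_smul, ← AssSch.Stalk.germM_res (Coh.structureModule X) (hle.trans inf_le_left) x hxW b,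
          ← X.presheaf.germ_res_apply (homOfLE hWU) x hxW f]
        change stalkLin _ x (X.presheaf.germ W x hxW (rres hWU f) •
          germM (Coh.structureModule X) W x hxW (rres (hle.trans inf_le_left) b)) = 0
        rw [← germM_smul, stalkLin_germ]
        have hm : rres hWU f * rres (hle.trans inf_le_left) b ∈ J.ideal ⟨W, hW⟩ := by
          refine Ideal.mul_mem_right _ _ ?_
          rw [← Scheme.IdealSheafData.map_ideal J (show (⟨W, hW⟩ : X.affineOpens) ≤ U from hWU)]
          exact Ideal.mem_map_of_mem _ hf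
        rw [← J.ker_subschemeι_app ⟨W, hW⟩, RingHom.mem_ker] at hm
        have hm' : (ClSub.toSubscheme J).app W
            (rres hWU f • (show Γ(Coh.structureModule X, W) from rres (hle.trans inf_le_left) b)) = 0 := hm
        rw [hm']; exact map_zero ((ClSub.quotMod J).presheaf.germ W x hxW).hom
      | zero => rw [zero_smul]
      | add a b _ _ ha hb => rw [add_smul, ha n trivial, hb n trivial, add_zero]
      | smul c a _ ha => rw [smul_assoc, ha n trivial, smul_zero]
  have hz : φ ≫ ClSub.toSubscheme J = 0 := by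
    refine Omega.Stalks.hom_ext_stalk fun x => LinearMap.ext fun z => ?_
    rw [Omega.Stalks.stalkLin_comp, Omega.Stalks.stalkLin_zero]
    exact LinearMap.mem_ker.1 ((hker x).ge ⟨z, rfl⟩)
  have hex : (ShortComplex.mk φ (ClSub.toSubscheme J) hz).Exact :=
    Omega.Stalks.exact_of_stalk _ fun x => (hker x).le
  haveI : Epi (ClSub.toSubscheme J) := hS.epi_g
  exact ⟨(cokernelIsCokernel φ).coconePointUniqueUpToIso hex.gIsCokernel⟩

/-- `tmap M s`, read as a map into `O`, has the range of the ideal of the zeros of `s`. -/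
theorem exists_theta {B M : X.Modules} (hB : PicF.IsInvertible B) (e : CohB1.tensorMod M B ≅ Coh.structureModule X)
    (s : Coh.structureModule X ⟶ B) :
    ∃ θ : M ⟶ Coh.structureModule X, ∀ (x : X) (U : X.affineOpens) (hx : x ∈ U.1) (ε : Γ(B, U.1)),
      IsGen B U.1 ε → LinearMap.range (stalkLin θ x) = idealAt (PicF2.zeroScheme B s) U x hx •
        (⊤ : Submodule (X.presheaf.stalk x) ((Coh.structureModule X).presheaf.stalk x)) := by
  refine ⟨(tensOne M).inv ≫ tmap M s ≫ e.hom, fun x U hx ε hε => ?_⟩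
  obtain ⟨f, hf, -⟩ := hε.exists_eq le_rfl (sec s U.1)
  rw [QCoh.res_self] at hf
  have hI : idealAt (PicF2.zeroScheme B s) U x hx = Ideal.span {X.presheaf.germ U.1 x hx f} := by
    rw [idealAt, ZeroSchemeLib.zeroScheme_ideal_eq_span hB s U hε hf, Ideal.map_span, Set.image_singleton]
  let r : X.presheaf.stalk x := X.presheaf.germ U.1 x hx f
  have hgen : ∀ b : B.presheaf.stalk x, ∃ c : X.presheaf.stalk x, b = c • germM B U.1 x hx ε := by
    intro b
    obtain ⟨W, hxW, m, rfl⟩ := exists_germM_eq B x b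
    obtain ⟨c, hc, -⟩ := hε.exists_eq (inf_le_right : W ⊓ U.1 ≤ U.1) (res B inf_le_left m)
    refine ⟨X.presheaf.germ (W ⊓ U.1) x ⟨hxW, hx⟩ c, ?_⟩
    rw [← AssSch.Stalk.germM_res _ (inf_le_left : W ⊓ U.1 ≤ W) x ⟨hxW, hx⟩ m, hc, germM_smul,
      AssSch.Stalk.germM_res]
  have hs1 : stalkLin s x (germM (Coh.structureModule X) U.1 x hx (show Γ(X, U.1) from 1)) =
      r • germM B U.1 x hx ε := by
    rw [stalkLin_germ, app_eq, one_smul, hf, germM_smul]
  have hsr : LinearMap.range (stalkLin s x) = Ideal.span {r} • (⊤ : Submodule (X.presheaf.stalk x) _) := by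
    rw [Submodule.ideal_span_singleton_smul]
    refine le_antisymm ?_ ?_
    · rintro _ ⟨t, rfl⟩
      obtain ⟨W, hxW, (a : Γ(X, W)), rfl⟩ := exists_germM_eq (Coh.structureModule X) x t
      have : germM (Coh.structureModule X) W x hxW a = X.presheaf.germ W x hxW a •
          germM (Coh.structureModule X) U.1 x hx (show Γ(X, U.1) from 1) := by
        rw [← AssSch.Stalk.germM_res _ (inf_le_left : W ⊓ U.1 ≤ W) x ⟨hxW, hx⟩,
          ← AssSch.Stalk.germM_res (Coh.structureModule X) (inf_le_right : W ⊓ U.1 ≤ U.1) x ⟨hxW, hx⟩,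
          ← X.presheaf.germ_res_apply (homOfLE (inf_le_left : W ⊓ U.1 ≤ W)) x ⟨hxW, hx⟩ a]
        change _ = X.presheaf.germ (W ⊓ U.1) x ⟨hxW, hx⟩ (rres inf_le_left a) • _
        rw [← germM_smul]
        congr 1
        exact ((congrArg (rres inf_le_left a * ·) (rres inf_le_right).hom.map_one).trans (mul_one _)).symm
      rw [this, map_smul, hs1, smul_comm]
      exact Submodule.smul_mem_pointwise_smul _ _ _ Submodule.mem_top
    · intro b hb
      obtain ⟨b', -, rfl⟩ := Submodule.mem_smul_pointwise_iff_exists _ _ _ |>.1 hb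
      obtain ⟨c, rfl⟩ := hgen b'
      exact ⟨c • germM (Coh.structureModule X) U.1 x hx (show Γ(X, U.1) from 1), by
        rw [map_smul, hs1, smul_comm]⟩
  let eM : (CohB1.tensorMod M B).presheaf.stalk x ≃ₗ[X.presheaf.stalk x]
      M.presheaf.stalk x ⊗[X.presheaf.stalk x] B.presheaf.stalk x :=
    KFlat.StalkTensor.stalkTensorEquiv M B x
  let eO : (CohB1.tensorMod M (Coh.structureModule X)).presheaf.stalk x ≃ₗ[X.presheaf.stalk x]
      M.presheaf.stalk x ⊗[X.presheaf.stalk x] (Coh.structureModule X).presheaf.stalk x :=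
    KFlat.StalkTensor.stalkTensorEquiv M (Coh.structureModule X) x
  have he : ∀ z, eM (stalkLin (tmap M s) x z) =
      (stalkLin s x).lTensor (M.presheaf.stalk x) (eO z) := fun z =>
    LinearMap.congr_fun (congrArg ModuleCat.Hom.hom (KFlat.StalkCx.stIso_right x M s)) z
  have hrange : LinearMap.range ((stalkLin s x).lTensor (M.presheaf.stalk x)) =
      Ideal.span {r} • (⊤ : Submodule (X.presheaf.stalk x) _) := by
    rw [Submodule.ideal_span_singleton_smul] at hsr ⊢
    refine le_antisymm ?_ ?_
    · rintro _ ⟨z, rfl⟩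
      induction z using TensorProduct.induction_on with
      | zero => rw [map_zero]; exact zero_mem _
      | add a b ha hb => rw [map_add]; exact add_mem ha hb
      | tmul a t =>
        obtain ⟨b, -, hb⟩ := Submodule.mem_smul_pointwise_iff_exists _ _ _ |>.1 (hsr.le ⟨t, rfl⟩)
        rw [LinearMap.lTensor_tmul, ← hb, TensorProduct.tmul_smul]
        exact Submodule.smul_mem_pointwise_smul _ _ _ Submodule.mem_top
    · intro y hy
      obtain ⟨y', -, rfl⟩ := Submodule.mem_smul_pointwise_iff_exists _ _ _ |>.1 hy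
      clear hy
      induction y' using TensorProduct.induction_on with
      | zero => rw [smul_zero]; exact zero_mem _
      | add a b ha hb => rw [smul_add]; exact add_mem ha hb
      | tmul a b =>
        obtain ⟨t, ht⟩ := hsr.ge (Submodule.smul_mem_pointwise_smul b r ⊤ Submodule.mem_top)
        exact ⟨a ⊗ₜ t, by rw [LinearMap.lTensor_tmul, ht, TensorProduct.tmul_smul]⟩
  rw [hI]
  change _ = Ideal.span {r} • _
  rw [Submodule.ideal_span_singleton_smul] at hrange ⊢
  ext t
  constructor
  · rintro ⟨z, rfl⟩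
    rw [Omega.Stalks.stalkLin_comp, Omega.Stalks.stalkLin_comp]
    obtain ⟨w, -, hw⟩ := Submodule.mem_smul_pointwise_iff_exists _ _ _ |>.1
      (hrange.le ⟨eO (stalkLin (tensOne M).inv x z), rfl⟩)
    rw [← he] at hw
    rw [← eM.injective ((map_smul eM r (eM.symm w)).trans ((congrArg (r • ·) (eM.apply_symm_apply w)).trans hw)),
      map_smul]
    exact Submodule.smul_mem_pointwise_smul _ _ _ Submodule.mem_top
  · intro ht
    obtain ⟨t', -, rfl⟩ := Submodule.mem_smul_pointwise_iff_exists _ _ _ |>.1 ht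
    obtain ⟨y, rfl⟩ := stalk_surjective e.hom x t'
    obtain ⟨z, hz⟩ := hrange.ge (Submodule.smul_mem_pointwise_smul (eM y) r ⊤ Submodule.mem_top)
    obtain ⟨z', hz'⟩ := stalk_surjective (tensOne M).inv x (eO.symm z)
    refine ⟨z', ?_⟩
    rw [Omega.Stalks.stalkLin_comp, Omega.Stalks.stalkLin_comp, hz', ← map_smul]
    congr 1
    apply eM.injective
    rw [he, eO.apply_symm_apply, hz, map_smul]

/-- The structure sheaf of `⋂ Z(s_j)` as a cokernel of a map from a fixed module, given an epimorphism
from it onto an inverse of `B`. -/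
theorem exists_presentation {kk : ℕ} {B M A₀ : X.Modules} (hB : PicF.IsInvertible B)
    (e : CohB1.tensorMod M B ≅ Coh.structureModule X) (ψ : A₀ ⟶ M) [Epi ψ]
    (s : Fin kk → (Coh.structureModule X ⟶ B)) (J : X.IdealSheafData)
    (hJ : ∀ U : X.affineOpens, J.ideal U = ⨆ j, (PicF2.zeroScheme B (s j)).ideal U) :
    ∃ φ : (⨁ fun _ : Fin kk => A₀) ⟶ Coh.structureModule X, Nonempty (cokernel φ ≅ ClSub.quotMod J) := by
  choose θ hθ using fun j => exists_theta hB e (s j)
  refine ⟨∑ j, biproduct.π (fun _ : Fin kk => A₀) j ≫ ψ ≫ θ j, nonempty_cokernel_iso J _ fun x => ?_⟩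
  obtain ⟨U₀, ε₀, hxU₀, hε₀⟩ := exists_isGen hB x
  obtain ⟨U, hU, hxU, hle⟩ := exists_isAffineOpen_mem_and_subset (X := X) (U := U₀) hxU₀
  refine ⟨⟨U, hU⟩, hxU, ?_⟩
  have hI : idealAt J ⟨U, hU⟩ x hxU = ⨆ j, idealAt (PicF2.zeroScheme B (s j)) ⟨U, hU⟩ x hxU := by
    simp only [idealAt, hJ, Ideal.map_iSup]
  rw [hI, Submodule.iSup_smul]
  simp only [← hθ _ x ⟨U, hU⟩ hxU _ (hε₀.restrict hle)]
  refine le_antisymm ?_ (iSup_le fun j => ?_)
  · rintro _ ⟨z, rfl⟩
    rw [Desc44.IntersectConormal.stalkLin_sum]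
    refine Submodule.sum_mem _ fun j _ => le_iSup (fun j => LinearMap.range (stalkLin (θ j) x)) j ?_
    rw [Omega.Stalks.stalkLin_comp, Omega.Stalks.stalkLin_comp]
    exact ⟨_, rfl⟩
  · rintro _ ⟨z, rfl⟩
    obtain ⟨w, rfl⟩ := stalk_surjective ψ x z
    refine ⟨stalkLin (biproduct.ι (fun _ : Fin kk => A₀) j) x w, ?_⟩
    rw [← Omega.Stalks.stalkLin_comp, Preadditive.comp_sum, Finset.sum_eq_single j
      (fun l _ hl => by rw [biproduct.ι_π_ne_assoc _ hl.symm, zero_comp])
      (fun h => absurd (Finset.mem_univ j) h), biproduct.ι_π_self_assoc, Omega.Stalks.stalkLin_comp]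

end Groth.Agent.BigVol.ZeroCoker
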